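/-
Twisted groups, part 1: the graph endomorphism of G₂ (characteristic 3) and F₄ (characteristic 2).

In these cases the short root vectors and the h_r of the short roots span an ideal I of the Lie
algebra over K, and the action of x_r(t) on L/I is, up to a bijection of bases, that of
x_{ρ r}(t^λ) on I.  Since g ↦ g|I is injective on the Chevalley group (the centraliser of I is
trivial), this gives the endomorphism x_r(t) ↦ x_{ρ r}(t^λ) of the group without presentations.

* `Half D`, `HalfOK`  : the data (bases of I and L/I, ρ, λ) and its decidable table conditions.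
* `gxG`               : x_r(t) in D.group.
* `PhiS`, `PhiL`, `PhiS_injective`.
* `graphEnd`, `graphEnd_gx`, `graphEnd_graphEnd`, `graphEnd_injective`, `graphEnd_surjective`.
* `fieldEnd`, `fieldEnd_gx`.
-/
import Cfsg.Agent.Lib.ChevBN.Torus

set_option autoImplicit false

namespace Cfsg.Agent.Twisted

open Cfsg.Lie Matrix
open Cfsg.Lie.ChevalleyDatum
open Cfsg.Agent.Chev Cfsg.Agent.ChevBN

variable (D : ChevalleyDatum)

/-- Index of a coordinate with roots as natural numbers. -/
abbrev Key : Type := Fin D.rank ⊕ ℕ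

/-- The key of a coordinate. -/
def key (a : D.Idx) : Key D := Sum.map id Fin.val a

theorem key_injective : Function.Injective (key D) :=
  Function.Injective.sumMap Function.injective_id Fin.val_injective

/-- The basis vector of a key. -/
def bv (R : Type*) [CommRing R] (k : Key D) : D.Idx → R := fun a => if key D a = k then 1 else 0

theorem bv_inl (R : Type*) [CommRing R] (i : Fin D.rank) :
    bv D R (Sum.inl i) = Pi.single (Sum.inl i) 1 := by
  ext a
  rcases a with j | u <;> simp [bv, key, Pi.single_apply]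

theorem bv_inr (R : Type*) [CommRing R] (q : ℕ) : bv D R (Sum.inr q) = ev D R q := by
  ext a
  rcases a with j | u <;> simp [bv, key, ev]

/-- The terms ((row, exponent), coefficient) of a column of x_r(t). -/
def colT (r : ℕ) : D.Idx → List ((Key D × ℕ) × ℤ)
  | Sum.inl i => [((Sum.inl i, 0), 1), ((Sum.inr r, 1), -D.cartan i.val r)]
  | Sum.inr s =>
    if s.val = r then [((Sum.inr r, 0), 1)]
    else if s.val = D.neg r then
      ((Sum.inr s.val, 0), 1) :: ((Sum.inr r, 2), -1) ::
        (List.finRange D.rank).map fun i => ((Sum.inl i, 1), (D.coroot.getD r #[]).getD i.val 0)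
    else ((Sum.inr s.val, 0), 1) ::
      (D.chainEntry r s.val).zipIdx.map fun q => ((Sum.inr q.1.1, q.2 + 1), q.1.2)

theorem sumCol_eq {R : Type*} [CommRing R] (t : R) : ∀ (L : List (ℕ × ℤ)) (j : ℕ),
    sumCol D R t L (j + 1) = ((L.zipIdx j).map fun q =>
      ((q.1.2 : R) * t ^ (q.2 + 1)) • bv D R (Sum.inr q.1.1)).sum
  | [], _ => by simp [sumCol]
  | (q, M) :: L, j => by simp [sumCol, bv_inr, sumCol_eq t L (j + 1)]

variable {D}

theorem colT_spec (hD : Good D) {R : Type*} [CommRing R] {r : ℕ} (hr : r < D.nroots) (t : R) (c : D.Idx) :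
    xR D R r t *ᵥ Pi.single c 1 =
      ((colT D r c).map fun x => ((x.2 : R) * t ^ x.1.2) • bv D R x.1.1).sum := by
  rcases c with i | ⟨s, hs⟩
  · rw [xR_inl]
    simp [colT, bv_inl, bv_inr]
  · rw [← ev_of_lt D R hs]
    simp only [colT]
    split_ifs with h₁ h₂
    · subst h₁
      rw [xR_self D s t hs]
      simp [bv_inr]
    · subst h₂
      rw [xR_neg D r t (hD.neg_lt r hr) (hD.neg_ne r hr), hv_eq, Fin.sum_univ_def]
      simp only [List.map_cons, List.sum_cons, List.map_map, Function.comp_def, bv_inr, bv_inl, List.smul_sum,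
        smul_smul, pow_zero, pow_one, Int.cast_neg, Int.cast_one, mul_one, one_smul, neg_one_mul, neg_smul]
      simp only [mul_comm]
      abel
    · rw [xR_gen D r t (hD.keys r hr) hs h₁ h₂, sumCol_eq]
      simp [bv_inr, List.map_map, Function.comp_def]

/-- All like terms cancel modulo p. -/
def ZeroMod {κ : Type*} [DecidableEq κ] (p : ℕ) (L : List (κ × ℤ)) : Prop :=
  ∀ a ∈ L, ((L.filter fun x => decide (x.1 = a.1)).map Prod.snd).sum % (p : ℤ) = 0

instance {κ : Type*} [DecidableEq κ] (p : ℕ) (L : List (κ × ℤ)) : Decidable (ZeroMod p L) :=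
  inferInstanceAs (Decidable (∀ a ∈ L, _))

theorem sum_eq_zero_of_zeroMod {κ R : Type*} [DecidableEq κ] [CommRing R] {p : ℕ} [CharP R p] (g : κ → R)
    (L : List (κ × ℤ)) (h : ZeroMod p L) : (L.map fun x => (x.2 : R) * g x.1).sum = 0 := by
  have key : ∀ (M : List (κ × ℤ)) (K : Finset κ), (∀ x ∈ M, x.1 ∈ K) →
      (M.map fun x => (x.2 : R) * g x.1).sum =
        ∑ k ∈ K, (((M.filter fun x => decide (x.1 = k)).map Prod.snd).sum : R) * g k := by
    intro M K
    induction M with
    | nil => simp
    | cons x M ih =>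
      intro hM
      rw [List.map_cons, List.sum_cons, ih fun y hy => hM y (List.mem_cons_of_mem x hy)]
      have hx : ∀ k, (((x :: M).filter fun y => decide (y.1 = k)).map Prod.snd).sum =
          (if x.1 = k then x.2 else 0) + ((M.filter fun y => decide (y.1 = k)).map Prod.snd).sum := fun k => by
        by_cases hk : x.1 = k <;> simp [hk]
      simp only [hx, Int.cast_add, add_mul, Finset.sum_add_distrib]
      congr 1
      rw [Finset.sum_eq_single x.1 (fun k _ hk => by simp [Ne.symm hk])
        (fun hh => absurd (hM x List.mem_cons_self) hh)]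
      simp
  rw [key L (L.map Prod.fst).toFinset fun x hx => List.mem_toFinset.2 (List.mem_map_of_mem hx)]
  refine Finset.sum_eq_zero fun k hk => ?_
  obtain ⟨x, hx, rfl⟩ := List.mem_map.1 (List.mem_toFinset.1 hk)
  rw [(CharP.intCast_eq_zero_iff R p _).2 (Int.dvd_of_emod_eq_zero (h x hx)), zero_mul]

variable (D)

/-- Bases of the ideal I (`iS`) and of a complement (`iL`), the permutation ρ of the roots and the
exponents λ. -/
structure Half where
  m : ℕ
  iS : Fin m → D.Idx
  iL : Fin m → D.Idx
  rho : ℕ → ℕ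
  lam : ℕ → ℕ
  /-- For each coordinate a combination (short root, row, coefficient) isolating it. -/
  cert : D.Idx → List (ℕ × D.Idx × ℤ)

variable {D} (H : Half D)

/-- The position of a key in `iS`. -/
def Half.posS (k : Key D) : Option (Fin H.m) := (List.finRange H.m).find? fun a => decide (key D (H.iS a) = k)

/-- The position of a key in `iL`. -/
def Half.posL (k : Key D) : Option (Fin H.m) := (List.finRange H.m).find? fun a => decide (key D (H.iL a) = k)

theorem find?_finRange_eq {m : ℕ} {κ : Type*} [DecidableEq κ] {f : Fin m → κ} (hf : Function.Injective f)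
    (k : κ) (a : Fin m) :
    (List.finRange m).find? (fun b => decide (f b = k)) = some a ↔ f a = k := by
  constructor
  · intro h
    simpa using List.find?_some h
  · intro h
    cases hb : (List.finRange m).find? (fun b => decide (f b = k)) with
    | none =>
      have := List.find?_eq_none.1 hb a (List.mem_finRange a)
      simp [h] at this
    | some b =>
      have := List.find?_some hb
      simp only [decide_eq_true_eq] at this
      exact congrArg some (hf (this.trans h.symm))

/-- Terms of column `iS b` of x_r(t) outside I. -/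
def Half.blkTerms (r : ℕ) (b : Fin H.m) : List ((Fin H.m × ℕ) × ℤ) :=
  (colT D r (H.iS b)).filterMap fun x => (H.posL x.1.1).map fun a => ((a, x.1.2), x.2)

/-- Terms of the difference of the actions of x_r(t) on L/I and of x_{ρ r}(t^λ) on I, column `b`. -/
def Half.twistTerms (r : ℕ) (b : Fin H.m) : List ((Fin H.m × ℕ) × ℤ) :=
  ((colT D r (H.iL b)).filterMap fun x => (H.posL x.1.1).map fun a => ((a, x.1.2), x.2)) ++
    (colT D (H.rho r) (H.iS b)).filterMap fun x =>
      (H.posS x.1.1).map fun a => ((a, H.lam r * x.1.2), -x.2)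

/-- The table conditions, without those making the action on I faithful. -/
structure HalfPre (p : ℕ) : Prop where
  inj : Function.Injective (Sum.elim H.iS H.iL)
  card : H.m + H.m = D.rank + D.nroots
  rho_lt : ∀ r < D.nroots, H.rho r < D.nroots
  rho_rho : ∀ r < D.nroots, H.rho (H.rho r) = r
  lam_mul : ∀ r < D.nroots, H.lam r * H.lam (H.rho r) = p
  blk : ∀ r < D.nroots, ∀ b, ZeroMod p (H.blkTerms r b)
  twist : ∀ r < D.nroots, ∀ b, ZeroMod p (H.twistTerms r b)

/-- The table conditions. -/
structure HalfOK (p : ℕ) : Prop extends HalfPre H p where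
  cert_mem : ∀ a, ∀ x ∈ H.cert a, x.1 < D.nroots ∧ (H.posS (Sum.inr x.1)).isSome
  ideal : ∀ a, ∀ x ∈ H.cert a, ∀ b c, adE D ℤ x.1 (H.iL b) c % (p : ℤ) = 0
  cert_sum : ∀ a a', ((H.cert a).map fun x => x.2.2 * adE D ℤ x.1 x.2.1 a').sum % (p : ℤ) =
    (if a' = a then 1 else 0) % (p : ℤ)

namespace HalfPre

variable {H} {p : ℕ} (hH : HalfPre H p)
include hH

theorem injS : Function.Injective H.iS := fun a b h =>
  Sum.inl_injective (hH.inj (a₁ := Sum.inl a) (a₂ := Sum.inl b) h)

theorem injL : Function.Injective H.iL := fun a b h =>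
  Sum.inr_injective (hH.inj (a₁ := Sum.inr a) (a₂ := Sum.inr b) h)

theorem posS_iff (k : Key D) (a : Fin H.m) : H.posS k = some a ↔ key D (H.iS a) = k :=
  find?_finRange_eq ((key_injective D).comp hH.injS) k a

theorem posL_iff (k : Key D) (a : Fin H.m) : H.posL k = some a ↔ key D (H.iL a) = k :=
  find?_finRange_eq ((key_injective D).comp hH.injL) k a

theorem bij : Function.Bijective (Sum.elim H.iS H.iL) :=
  (Fintype.bijective_iff_injective_and_card _).2 ⟨hH.inj, by simp [hH.card]⟩

theorem sum_split {R : Type*} [CommRing R] (f : D.Idx → R) :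
    ∑ a, f a = ∑ a, f (H.iS a) + ∑ a, f (H.iL a) := by
  rw [← hH.bij.sum_comp, Fintype.sum_sum_type]
  rfl

theorem cases_idx (a : D.Idx) : (∃ b, H.iS b = a) ∨ ∃ b, H.iL b = a := by
  obtain ⟨b, rfl⟩ := hH.bij.2 a
  rcases b with b | b
  · exact Or.inl ⟨b, rfl⟩
  · exact Or.inr ⟨b, rfl⟩

omit hH in
theorem sum_entries {R : Type*} [CommRing R] (pos : Key D → Option (Fin H.m)) (i : Fin H.m → D.Idx)
    (hpos : ∀ k a, pos k = some a ↔ key D (i a) = k) (a : Fin H.m) (t : R) (l : ℕ) (e : ℤ) :
    ∀ (L : List ((Key D × ℕ) × ℤ)),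
      ((L.filterMap fun x => (pos x.1.1).map fun b => ((b, l * x.1.2), e * x.2)).map fun x =>
          (x.2 : R) * (if x.1.1 = a then t ^ x.1.2 else 0)).sum =
        (e : R) * ((L.map fun x => ((x.2 : R) * (t ^ l) ^ x.1.2) • bv D R x.1.1).sum (i a))
  | [] => by simp
  | x :: L => by
    have ih := sum_entries pos i hpos a t l e L
    rw [List.filterMap_cons, List.map_cons, List.sum_cons, Pi.add_apply, mul_add, ← ih]
    cases hx : pos x.1.1 with
    | none =>
      have : ¬ key D (i a) = x.1.1 := fun h => by simp [(hpos _ _).2 h] at hx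
      simp [bv, this]
    | some b =>
      simp only [Option.map_some, List.map_cons, List.sum_cons, bv, Pi.smul_apply, smul_eq_mul]
      congr 1
      by_cases hba : b = a
      · subst hba
        rw [if_pos rfl, if_pos ((hpos _ _).1 hx), ← pow_mul]
        push_cast
        ring
      · rw [if_neg hba, if_neg (fun h => hba (Option.some.inj (hx.symm.trans ((hpos _ _).2 h))))]
        simp

variable (hD : Good D) {R : Type*} [CommRing R] [CharP R p]
include hD

/-- I is invariant under x_r(t). -/
theorem xR_blk {r : ℕ} (hr : r < D.nroots) (t : R) (a b : Fin H.m) :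
    xR D R r t (H.iL a) (H.iS b) = 0 := by
  have h := sum_eq_zero_of_zeroMod (R := R) (fun x : Fin H.m × ℕ => if x.1 = a then t ^ x.2 else 0) _
    (hH.blk r hr b)
  have h' := sum_entries (D := D) H.posL H.iL hH.posL_iff a t 1 1 (colT D r (H.iS b))
  simp only [one_mul, pow_one, Int.cast_one] at h'
  rw [show ((colT D r (H.iS b)).filterMap fun x => (H.posL x.1.1).map fun b => ((b, x.1.2), x.2)) =
    H.blkTerms r b from rfl, h, ← colT_spec hD hr, Matrix.mulVec_single_one] at h'
  exact h'.symm

/-- x_r(t) acts on L/I as x_{ρ r}(t^λ) on I. -/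
theorem xR_twist {r : ℕ} (hr : r < D.nroots) (t : R) (a b : Fin H.m) :
    xR D R r t (H.iL a) (H.iL b) = xR D R (H.rho r) (t ^ H.lam r) (H.iS a) (H.iS b) := by
  have h := sum_eq_zero_of_zeroMod (R := R) (fun x : Fin H.m × ℕ => if x.1 = a then t ^ x.2 else 0) _
    (hH.twist r hr b)
  have h₁ := sum_entries (D := D) H.posL H.iL hH.posL_iff a t 1 1 (colT D r (H.iL b))
  have h₂ := sum_entries (D := D) H.posS H.iS hH.posS_iff a t (H.lam r) (-1) (colT D (H.rho r) (H.iS b))
  simp only [one_mul, neg_one_mul, pow_one, Int.cast_one, Int.cast_neg] at h₁ h₂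
  rw [Half.twistTerms, List.map_append, List.sum_append, h₁, h₂, ← colT_spec hD hr,
    ← colT_spec hD (hH.rho_lt r hr), Matrix.mulVec_single_one, Matrix.mulVec_single_one] at h
  exact sub_eq_zero.1 (by rw [sub_eq_add_neg]; exact h)

end HalfPre

/-! ### Root elements in the group -/

section Group

variable (hD : Good D) (K : Type*) [Field K]

/-- x_r(t) as an element of the Chevalley group. -/
def gxG (r : ℕ) (t : K) : D.group K := ⟨xg hD K r t, xg_mem_group hD r t⟩

include hD in
theorem group_le_of_gx {P : Subgroup (GL D.Idx K)} (h : ∀ r < D.nroots, ∀ t, xg hD K r t ∈ P) :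
    D.group K ≤ P := by
  refine (Subgroup.closure_le _).2 ?_
  rintro g ⟨r, t, hg⟩
  have : g = xg hD K r t := Units.ext (by rw [hg]; simp [ChevalleyDatum.x])
  rw [this]
  exact h r r.2 t

include hD in
theorem group_induction {P : D.group K → Prop} (h1 : P 1) (hmul : ∀ a b, P a → P b → P (a * b))
    (hgen : ∀ r < D.nroots, ∀ t, P (gxG hD K r t)) (g : D.group K) : P g := by
  let S : Subgroup (GL D.Idx K) :=
    { carrier := {g | ∃ h : g ∈ D.group K, P ⟨g, h⟩ ∧ P ⟨g, h⟩⁻¹}
      one_mem' := ⟨one_mem _, h1, (inv_one (G := D.group K)).symm ▸ h1⟩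
      mul_mem' := by
        rintro a b ⟨ha, pa, pa'⟩ ⟨hb, pb, pb'⟩
        exact ⟨mul_mem ha hb, hmul ⟨a, ha⟩ ⟨b, hb⟩ pa pb, hmul _ _ pb' pa'⟩
      inv_mem' := by
        rintro a ⟨ha, pa, pa'⟩
        exact ⟨inv_mem ha, pa', (inv_inv (⟨a, ha⟩ : D.group K)).symm ▸ pa⟩ }
  have hS : D.group K ≤ S := group_le_of_gx hD K fun r hr t => by
    refine ⟨xg_mem_group hD r t, hgen r hr t, ?_⟩
    convert hgen r hr (-t) using 1
    exact Subtype.ext (xg_inv hD r t)
  obtain ⟨_, hg, _⟩ := hS g.2
  exact hg

include hD in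
theorem hom_ext {M : Type*} [Monoid M] {f g : D.group K →* M}
    (h : ∀ r < D.nroots, ∀ t, f (gxG hD K r t) = g (gxG hD K r t)) : f = g :=
  MonoidHom.ext fun x => group_induction hD K (P := fun x => f x = g x) (by simp)
    (fun a b ha hb => by simp [ha, hb]) h x

/-- Elements of the group are automorphisms of the Lie algebra. -/
theorem conj_ad (hD : Good D) (g : D.group K) (v : D.Idx → K) :
    ((g : GL D.Idx K) : Matrix D.Idx D.Idx K) * ad D K v =
      ad D K (((g : GL D.Idx K) : Matrix D.Idx D.Idx K) *ᵥ v) * ((g : GL D.Idx K) : Matrix D.Idx D.Idx K) := by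
  revert v
  refine group_induction hD K (P := fun g => ∀ v : D.Idx → K,
    ((g : GL D.Idx K) : Matrix D.Idx D.Idx K) * ad D K v =
      ad D K (((g : GL D.Idx K) : Matrix D.Idx D.Idx K) *ᵥ v) *
        ((g : GL D.Idx K) : Matrix D.Idx D.Idx K)) (by simp) ?_ ?_ g
  · intro a b ha hb v
    simp only [Subgroup.coe_mul, Units.val_mul]
    rw [mul_assoc, hb, ← mul_assoc, ha, mul_assoc, Matrix.mulVec_mulVec]
  · intro r hr t v
    simp only [gxG, coe_xg, x_eq_xR D hr]
    exact hD.xR_conj hr t v

end Group

/-! ### The graph endomorphism -/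

section Graph

variable {H} {p : ℕ} (hH : HalfPre H p) (hD : Good D) (K : Type*) [Field K] [CharP K p]

include hH hD in
theorem blk_group (g : D.group K) (a b : Fin H.m) :
    ((g : GL D.Idx K) : Matrix D.Idx D.Idx K) (H.iL a) (H.iS b) = 0 := by
  revert a b
  refine group_induction hD K (P := fun g => ∀ a b : Fin H.m,
    ((g : GL D.Idx K) : Matrix D.Idx D.Idx K) (H.iL a) (H.iS b) = 0) ?_ ?_ ?_ g
  · intro a b
    have : H.iL a ≠ H.iS b := fun h => Sum.inr_ne_inl (hH.inj (a₁ := Sum.inr a) (a₂ := Sum.inl b) h)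
    simp [this]
  · intro g h hg hh a b
    simp only [Subgroup.coe_mul, Units.val_mul, Matrix.mul_apply, hH.sum_split]
    simp [hg, hh]
  · intro r hr t a b
    simp only [gxG, coe_xg, x_eq_xR D hr]
    exact hH.xR_blk hD hr t a b

/-- The action on I, as a monoid homomorphism. -/
def phiS : D.group K →* Matrix (Fin H.m) (Fin H.m) K where
  toFun g := ((g : GL D.Idx K) : Matrix D.Idx D.Idx K).submatrix H.iS H.iS
  map_one' := by
    have := hH; have := hD
    simp [Matrix.submatrix_one _ hH.injS]
  map_mul' g h := by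
    ext a b
    simp [Matrix.mul_apply, hH.sum_split, blk_group hH hD K h]

/-- The action on L/I, as a monoid homomorphism. -/
def phiL : D.group K →* Matrix (Fin H.m) (Fin H.m) K where
  toFun g := ((g : GL D.Idx K) : Matrix D.Idx D.Idx K).submatrix H.iL H.iL
  map_one' := by
    have := hH; have := hD
    simp [Matrix.submatrix_one _ hH.injL]
  map_mul' g h := by
    ext a b
    simp [Matrix.mul_apply, hH.sum_split, blk_group hH hD K g]

/-- The action on I. -/
def PhiS : D.group K →* GL (Fin H.m) K := (phiS hH hD K).toHomUnits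

/-- The action on L/I. -/
def PhiL : D.group K →* GL (Fin H.m) K := (phiL hH hD K).toHomUnits

@[simp] theorem PhiS_apply (g : D.group K) (a b : Fin H.m) :
    (PhiS hH hD K g : Matrix (Fin H.m) (Fin H.m) K) a b =
      ((g : GL D.Idx K) : Matrix D.Idx D.Idx K) (H.iS a) (H.iS b) := rfl

@[simp] theorem PhiL_apply (g : D.group K) (a b : Fin H.m) :
    (PhiL hH hD K g : Matrix (Fin H.m) (Fin H.m) K) a b =
      ((g : GL D.Idx K) : Matrix D.Idx D.Idx K) (H.iL a) (H.iL b) := rfl

theorem PhiL_gx {r : ℕ} (hr : r < D.nroots) (t : K) :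
    PhiL hH hD K (gxG hD K r t) = PhiS hH hD K (gxG hD K (H.rho r) (t ^ H.lam r)) := by
  ext a b
  simp only [PhiL_apply, PhiS_apply, gxG, coe_xg, x_eq_xR D hr, x_eq_xR D (hH.rho_lt r hr)]
  exact hH.xR_twist hD hr t a b

theorem PhiS_injective {hH : HalfPre H p} (hO : HalfOK H p) : Function.Injective (PhiS hH hD K) := by
  refine (injective_iff_map_eq_one _).2 fun g hg => ?_
  set M := ((g : GL D.Idx K) : Matrix D.Idx D.Idx K) with hM
  have hfix : ∀ v : D.Idx → K, (∀ b, v (H.iL b) = 0) → M *ᵥ v = v := by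
    intro v hv
    ext a
    simp only [Matrix.mulVec, dotProduct, hH.sum_split, hv, mul_zero, Finset.sum_const_zero, add_zero]
    rcases hH.cases_idx a with ⟨c, rfl⟩ | ⟨c, rfl⟩
    · have : ∀ b, M (H.iS c) (H.iS b) = if c = b then 1 else 0 := fun b => by
        have := congrArg (fun N : GL (Fin H.m) K => (N : Matrix (Fin H.m) (Fin H.m) K) c b) hg
        simpa [Matrix.one_apply] using this
      simp [this]
    · simp [hM, blk_group hH hD K g, hv]
  refine Subtype.ext (Units.ext (Matrix.ext_of_mulVec_single fun b => ?_))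
  simp only [OneMemClass.coe_one, Units.val_one, Matrix.one_mulVec]
  ext a
  have hcomm : ∀ x ∈ H.cert a, adE D K x.1 *ᵥ (M *ᵥ Pi.single b 1 - Pi.single b 1) = 0 := by
    intro x hx
    obtain ⟨hs, hsome⟩ := hO.cert_mem a x hx
    obtain ⟨c, hc⟩ := Option.isSome_iff_exists.1 hsome
    have hc' : H.iS c = Sum.inr ⟨x.1, hs⟩ := key_injective D ((hH.posS_iff _ _).1 hc)
    have he : M *ᵥ ev D K x.1 = ev D K x.1 := hfix _ fun d => by
      rw [ev_of_lt D K hs, Pi.single_apply, if_neg]
      rw [← hc']
      exact fun h => Sum.inr_ne_inl (hH.inj (a₁ := Sum.inr d) (a₂ := Sum.inl c) h)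
    have hv := conj_ad K hD g (ev D K x.1)
    rw [← hM, he, ad_ev D hs] at hv
    have hI : M *ᵥ (adE D K x.1 *ᵥ Pi.single b 1) = adE D K x.1 *ᵥ Pi.single b 1 := hfix _ fun d => by
      rw [Matrix.mulVec_single_one, Matrix.col_apply, ← adE_map D (Int.castRingHom K)]
      exact (CharP.intCast_eq_zero_iff K p _).2 (Int.dvd_of_emod_eq_zero (hO.ideal a x hx d b))
    rw [Matrix.mulVec_sub, Matrix.mulVec_mulVec, ← hv, ← Matrix.mulVec_mulVec, hI, sub_self]
  set w := M *ᵥ Pi.single b 1 - Pi.single b 1 with hw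
  have hzero : ((H.cert a).map fun x => (x.2.2 : K) * (adE D K x.1 *ᵥ w) x.2.1).sum = 0 :=
    List.sum_eq_zero fun y hy => by
      obtain ⟨x, hx, rfl⟩ := List.mem_map.1 hy
      simp [hcomm x hx]
  have hswap : ((H.cert a).map fun x => (x.2.2 : K) * (adE D K x.1 *ᵥ w) x.2.1).sum =
      ∑ a', (((H.cert a).map fun x => x.2.2 * adE D ℤ x.1 x.2.1 a').sum : K) * w a' := by
    generalize H.cert a = L
    induction L with
    | nil => simp
    | cons x L ih =>
      simp only [List.map_cons, List.sum_cons, Int.cast_add, add_mul, Finset.sum_add_distrib, ← ih]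
      congr 1
      simp only [Matrix.mulVec, dotProduct, Finset.mul_sum, Int.cast_mul, mul_assoc,
        ← adE_map D (Int.castRingHom K), Matrix.map_apply, eq_intCast]
  have hdelta : ∀ a', (((H.cert a).map fun x => x.2.2 * adE D ℤ x.1 x.2.1 a').sum : K) =
      if a' = a then 1 else 0 := fun a' => by
    have := (CharP.intCast_eq_intCast K p).2 (hO.cert_sum a a')
    rw [this]
    split_ifs <;> simp
  rw [hswap] at hzero
  simp only [hdelta, ite_mul, one_mul, zero_mul, Finset.sum_ite_eq', Finset.mem_univ, if_true] at hzero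
  exact sub_eq_zero.1 hzero

theorem PhiL_mem_range (g : D.group K) : PhiL hH hD K g ∈ (PhiS hH hD K).range :=
  group_induction hD K (P := fun g => PhiL hH hD K g ∈ (PhiS hH hD K).range)
    (by simp) (fun a b ha hb => by rw [map_mul]; exact mul_mem ha hb)
    (fun r hr t => ⟨_, (PhiL_gx hH hD K hr t).symm⟩) g

variable (hinj : Function.Injective (PhiS hH hD K))

/-- The graph endomorphism x_r(t) ↦ x_{ρ r}(t^λ), given faithfulness on I. -/
noncomputable def graphEndPre : D.group K →* D.group K :=
  (MonoidHom.ofInjective hinj).symm.toMonoidHom.comp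
    ((PhiL hH hD K).codRestrict _ (PhiL_mem_range hH hD K))

theorem PhiS_graphEndPre (g : D.group K) : PhiS hH hD K (graphEndPre hH hD K hinj g) = PhiL hH hD K g := by
  rw [graphEndPre, MonoidHom.comp_apply, MulEquiv.coe_toMonoidHom, MonoidHom.apply_ofInjective_symm]
  rfl

theorem graphEndPre_gx {r : ℕ} (hr : r < D.nroots) (t : K) :
    graphEndPre hH hD K hinj (gxG hD K r t) = gxG hD K (H.rho r) (t ^ H.lam r) :=
  hinj (by rw [PhiS_graphEndPre, PhiL_gx hH hD K hr])

end Graph

section GraphOK

variable {H} {p : ℕ} (hH : HalfOK H p) (hD : Good D) (K : Type*) [Field K] [CharP K p]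

/-- The graph endomorphism x_r(t) ↦ x_{ρ r}(t^λ). -/
noncomputable def graphEnd : D.group K →* D.group K :=
  graphEndPre hH.toHalfPre hD K (PhiS_injective hD K hH)

theorem graphEnd_gx {r : ℕ} (hr : r < D.nroots) (t : K) :
    graphEnd hH hD K (gxG hD K r t) = gxG hD K (H.rho r) (t ^ H.lam r) :=
  graphEndPre_gx hH.toHalfPre hD K (PhiS_injective hD K hH) hr t

end GraphOK

/-! ### Field endomorphisms -/

section FieldEnd

variable (hD : Good D) {K : Type*} [Field K] (f : K →+* K)

theorem map_xg (r : ℕ) (t : K) : Matrix.GeneralLinearGroup.map f (xg hD K r t) = xg hD K r (f t) := by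
  refine Units.ext ?_
  show (D.x K r t).map f = D.x K r (f t)
  by_cases hr : r < D.nroots
  · rw [x_eq_xR D hr, x_eq_xR D hr, xR_map]
  · rw [x_of_le D (Nat.not_lt.1 hr), x_of_le D (Nat.not_lt.1 hr)]
    simp

/-- The endomorphism given by a field endomorphism. -/
def fieldEnd : D.group K →* D.group K :=
  ((Matrix.GeneralLinearGroup.map f).comp (D.group K).subtype).codRestrict _ fun g =>
    group_induction hD K (P := fun g => Matrix.GeneralLinearGroup.map f (g : GL D.Idx K) ∈ D.group K)
      (by simp) (fun a b ha hb => by simpa using mul_mem ha hb)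
      (fun r _ t => by simp only [gxG, map_xg hD f]; exact xg_mem_group hD r (f t)) g

theorem fieldEnd_gx (r : ℕ) (t : K) : fieldEnd hD f (gxG hD K r t) = gxG hD K r (f t) :=
  Subtype.ext (map_xg hD f r t)

theorem fieldEnd_injective : Function.Injective (fieldEnd hD f) := fun _ _ hgh =>
  Subtype.ext (Units.ext (Matrix.map_injective f.injective
    (congrArg (fun x : D.group K => ((x : GL D.Idx K) : Matrix D.Idx D.Idx K)) hgh)))

end FieldEnd

/-! ### The square of the graph endomorphism -/

section SquarePre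

variable {H} {p : ℕ} [Fact p.Prime] (hH : HalfPre H p) (hD : Good D) (K : Type*) [Field K] [CharP K p]
  (hinj : Function.Injective (PhiS hH hD K))

theorem graphEndPre_graphEndPre (g : D.group K) :
    graphEndPre hH hD K hinj (graphEndPre hH hD K hinj g) = fieldEnd hD (frobenius K p) g := by
  refine DFunLike.congr_fun (hom_ext hD K (f := (graphEndPre hH hD K hinj).comp (graphEndPre hH hD K hinj))
    (g := fieldEnd hD (frobenius K p)) fun r hr t => ?_) g
  rw [MonoidHom.comp_apply, graphEndPre_gx hH hD K hinj hr, graphEndPre_gx hH hD K hinj (hH.rho_lt r hr), hH.rho_rho r hr,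
    fieldEnd_gx, ← pow_mul, hH.lam_mul r hr, frobenius_def]

theorem graphEndPre_injective : Function.Injective (graphEndPre hH hD K hinj) := fun g h hgh =>
  fieldEnd_injective hD (frobenius K p) (by rw [← graphEndPre_graphEndPre hH hD K hinj, ← graphEndPre_graphEndPre hH hD K hinj, hgh])

theorem graphEndPre_surjective (hperf : Function.Surjective (frobenius K p)) :
    Function.Surjective (graphEndPre hH hD K hinj) := by
  intro g
  refine group_induction hD K (P := fun g => ∃ x, graphEndPre hH hD K hinj x = g) ⟨1, map_one _⟩ ?_ ?_ g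
  · rintro a b ⟨x, rfl⟩ ⟨y, rfl⟩
    exact ⟨x * y, map_mul _ _ _⟩
  · intro r hr t
    obtain ⟨u, hu⟩ := hperf t
    refine ⟨gxG hD K (H.rho r) (u ^ H.lam r), ?_⟩
    rw [graphEndPre_gx hH hD K hinj (hH.rho_lt r hr), hH.rho_rho r hr, ← pow_mul, hH.lam_mul r hr]
    rw [frobenius_def] at hu
    rw [hu]

end SquarePre

section Square

variable {H} {p : ℕ} [Fact p.Prime] (hH : HalfOK H p) (hD : Good D) (K : Type*) [Field K] [CharP K p]

theorem graphEnd_graphEnd (g : D.group K) :
    graphEnd hH hD K (graphEnd hH hD K g) = fieldEnd hD (frobenius K p) g :=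
  graphEndPre_graphEndPre hH.toHalfPre hD K (PhiS_injective hD K hH) g

theorem graphEnd_injective : Function.Injective (graphEnd hH hD K) :=
  graphEndPre_injective hH.toHalfPre hD K (PhiS_injective hD K hH)

theorem graphEnd_surjective (hperf : Function.Surjective (frobenius K p)) :
    Function.Surjective (graphEnd hH hD K) :=
  graphEndPre_surjective hH.toHalfPre hD K (PhiS_injective hD K hH) hperf

end Square

end Cfsg.Agent.Twisted
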