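/-
Twisted groups, part 5: the endomorphism σ = (graph) ∘ (t ↦ t^(p^m)) as a fold of the root group data.

* `FoldOK H`      : decidable conditions on ρ, λ relative to ±, positivity and fundamental reflections.
* `twist`, `sg`   : σ on the group, and extended to GL.
* `sg_xg`         : σ x_r(t) = x_{ρ r}(t^(p^m λ r)).
* `chevFold`      : the `Fold` of `chevRGD`.
* `twFix`, `mem_twFix`; `rankOne_of` : relative rank one from a decidable table check.
-/
import Cfsg.Agent.Lib.Twisted.Half
import Cfsg.Agent.Lib.Twisted.Fixed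
import Cfsg.Agent.Lib.ChevBN.Instance

set_option autoImplicit false

namespace Cfsg.Agent.Twisted

open Cfsg.Lie Matrix
open Cfsg.Lie.ChevalleyDatum
open Cfsg.Agent.Chev Cfsg.Agent.ChevBN Cfsg.Agent.ChevSt

variable {D : ChevalleyDatum}

/-- The index of the fundamental root paired with the given one. -/
def revI (i : Fin D.rank) : Fin D.rank := ⟨D.rank - 1 - i.val, by omega⟩

/-- Compatibility of ρ and λ with signs, fundamental roots and reflections. -/
structure FoldOK (H : Half D) (p : ℕ) : Prop where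
  rho_neg : ∀ r < D.nroots, H.rho (D.neg r) = D.neg (H.rho r)
  lam_neg : ∀ r < D.nroots, H.lam (D.neg r) = H.lam r
  lam_cases : ∀ r < D.nroots, H.lam r = 1 ∨ H.lam r = p
  rho_pos : ∀ r < D.nroots, D.IsPosRoot (H.rho r) ↔ D.IsPosRoot r
  rho_simple : ∀ i : Fin D.rank, H.rho (D.simple i.val) = D.simple (revI i).val
  rho_refl : ∀ i : Fin D.rank, ∀ r < D.nroots, H.rho (wN D i.val r) = wN D (revI i).val (H.rho r)

section Twist

variable {H : Half D} {p : ℕ} [Fact p.Prime] (hH : HalfOK H p) (hF : FoldOK H p) (hD : Good D)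
  (K : Type*) [Field K] [CharP K p] (m : ℕ)

/-- σ on the group. -/
noncomputable def twist : D.group K →* D.group K :=
  (graphEnd hH hD K).comp (fieldEnd hD (iterateFrobenius K p m))

open Classical in
/-- σ extended to GL. -/
noncomputable def sg (g : GL D.Idx K) : GL D.Idx K :=
  if h : g ∈ D.group K then (twist hH hD K m ⟨g, h⟩ : GL D.Idx K) else g

theorem sg_of_mem (g : D.group K) : sg hH hD K m g = twist hH hD K m g := by
  rw [sg, dif_pos g.2]

theorem sg_mem {g : GL D.Idx K} (h : g ∈ D.group K) : sg hH hD K m g ∈ D.group K := by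
  rw [sg, dif_pos h]
  exact (twist hH hD K m ⟨g, h⟩).2

theorem sg_mul {g g' : GL D.Idx K} (h : g ∈ D.group K) (h' : g' ∈ D.group K) :
    sg hH hD K m (g * g') = sg hH hD K m g * sg hH hD K m g' := by
  rw [sg, sg, sg, dif_pos (mul_mem h h'), dif_pos h, dif_pos h', ← Subgroup.coe_mul, ← map_mul]
  rfl

/-- The exponent of σ at a root. -/
def ex (H : Half D) (p m r : ℕ) : ℕ := p ^ m * H.lam r

/-- σ x_r(t) = x_{ρ r}(t^(p^m λ r)). -/
theorem sg_xg {r : ℕ} (hr : r < D.nroots) (t : K) :
    sg hH hD K m (xg hD K r t) = xg hD K (H.rho r) (t ^ ex H p m r) := by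
  show sg hH hD K m (gxG hD K r t : GL D.Idx K) = (gxG hD K (H.rho r) (t ^ ex H p m r) : GL D.Idx K)
  rw [sg_of_mem, twist, MonoidHom.comp_apply, fieldEnd_gx, graphEnd_gx hH hD K hr, iterateFrobenius_def,
    ex, pow_mul]

include hF in
omit [Fact p.Prime] in
theorem ex_pow {r : ℕ} (hr : r < D.nroots) : ∃ j, ex H p m r = p ^ j := by
  rcases hF.lam_cases r hr with h | h
  · exact ⟨m, by rw [ex, h, mul_one]⟩
  · exact ⟨m + 1, by rw [ex, h, pow_succ]⟩

theorem neg_pow_char (j : ℕ) (x : K) : (-x) ^ p ^ j = -(x ^ p ^ j) := by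
  simpa only [iterateFrobenius_def] using map_neg (iterateFrobenius K p j) x

include hF in
theorem sg_ng {r : ℕ} (hr : r < D.nroots) (t : K) :
    sg hH hD K m (ng hD K r t) = ng hD K (H.rho r) (t ^ ex H p m r) := by
  have hn := hD.neg_lt r hr
  have hm := fun s (u : K) => xg_mem_group hD s u
  obtain ⟨j, hj⟩ := ex_pow hF m hr
  have he : ex H p m (D.neg r) = ex H p m r := by rw [ex, ex, hF.lam_neg r hr]
  rw [ng, ng, sg_mul hH hD K m (mul_mem (hm _ _) (hm _ _)) (hm _ _), sg_mul hH hD K m (hm _ _) (hm _ _),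
    sg_xg hH hD K m hr, sg_xg hH hD K m hn, hF.rho_neg r hr, he]
  congr 3
  rw [hj, neg_pow_char K j, inv_pow]

include hF in
theorem sg_hg {r : ℕ} (hr : r < D.nroots) (t : K) :
    sg hH hD K m (hg hD K r t) = hg hD K (H.rho r) (t ^ ex H p m r) := by
  have hm := fun s (u : K) => mul_mem (mul_mem (xg_mem_group hD s u) (xg_mem_group hD (D.neg s) (-u⁻¹)))
    (xg_mem_group hD s u)
  obtain ⟨j, hj⟩ := ex_pow hF m hr
  rw [hg, hg, sg_mul hH hD K m (show ng hD K r t ∈ D.group K from hm r t)
    (show ng hD K r (-1) ∈ D.group K from hm r (-1)), sg_ng hH hF hD K m hr, sg_ng hH hF hD K m hr]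
  congr 2
  rw [hj, neg_pow_char K j, one_pow]

variable {M : List (List ℤ)} {d : ℤ} (hR : Roots D M d)

include hR in
theorem mem_group_of_mem_G {g : GL D.Idx K} (h : g ∈ (chevRGD hD hR K).G) : g ∈ D.group K := by
  rwa [chev_G hD hR] at h

/-- σ as a fold of the root group data. -/
noncomputable def chevFold : Fold (chevRGD hD hR K) where
  s := sg hH hD K m
  rho r := ⟨H.rho r.val, hH.rho_lt r.val r.isLt⟩
  rhoI := revI
  s_mul x hx y hy := sg_mul hH hD K m (mem_group_of_mem_G hD K hR hx) (mem_group_of_mem_G hD K hR hy)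
  s_mem x hx := by
    rw [chev_G hD hR]
    exact sg_mem hH hD K m (mem_group_of_mem_G hD K hR hx)
  s_U r x hx := by
    obtain ⟨t, rfl⟩ := (mem_rootSubgroup hD _).1 hx
    rw [sg_xg hH hD K m r.isLt]
    exact xg_mem_rootSubgroup hD _ _
  s_H x hx := by
    suffices sg hH hD K m x ∈ D.diagonalSubgroup K from this
    change x ∈ D.diagonalSubgroup K at hx
    let S : Subgroup (GL D.Idx K) :=
      { carrier := {g | g ∈ D.group K ∧ sg hH hD K m g ∈ D.diagonalSubgroup K}
        one_mem' := ⟨one_mem _, by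
          rw [show (1 : GL D.Idx K) = ((1 : D.group K) : GL D.Idx K) from rfl, sg_of_mem, map_one]
          exact one_mem _⟩
        mul_mem' := fun ha hb => ⟨mul_mem ha.1 hb.1, by rw [sg_mul hH hD K m ha.1 hb.1]; exact mul_mem ha.2 hb.2⟩
        inv_mem' := fun {a} ha => ⟨inv_mem ha.1, by
          rw [show a⁻¹ = ((⟨a, ha.1⟩⁻¹ : D.group K) : GL D.Idx K) from rfl, sg_of_mem, map_inv, Subgroup.coe_inv,
            ← sg_of_mem]
          exact inv_mem ha.2⟩ }
    suffices D.diagonalSubgroup K ≤ S from (this hx).2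
    refine (Subgroup.closure_le _).2 ?_
    rintro g ⟨r, t, hr, ht, e⟩
    obtain rfl : g = hg hD K r t := Units.ext (e.trans (coe_hg hD r t).symm)
    refine ⟨mul_mem ?_ ?_, ?_⟩
    iterate 2 exact mul_mem (mul_mem (xg_mem_group hD _ _) (xg_mem_group hD _ _)) (xg_mem_group hD _ _)
    rw [sg_hg hH hF hD K m hr]
    exact Subgroup.subset_closure ⟨_, _, hH.rho_lt r hr, pow_ne_zero _ ht, coe_hg hD _ _⟩
  s_n i := by
    show sg hH hD K m (ng hD K (D.simple i.val) 1) = ng hD K (D.simple (revI i).val) 1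
    rw [sg_ng hH hF hD K m (hD.simple_lt i.val i.isLt), one_pow, hF.rho_simple]
  rho_simple i := Fin.ext (hF.rho_simple i)
  rho_w i r := Fin.ext (hF.rho_refl i r.val r.isLt)
  rho_pos r := hF.rho_pos r.val r.isLt

/-- The fixed subgroup of σ. -/
noncomputable def twFix : Subgroup (GL D.Idx K) := (chevFold hH hF hD K m hR).fix

theorem mem_twFix {g : GL D.Idx K} :
    g ∈ twFix hH hF hD K m hR ↔ g ∈ D.group K ∧ sg hH hD K m g = g := by
  show g ∈ (chevRGD hD hR K).G ∧ _ ↔ _
  rw [chev_G hD hR]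
  rfl

end Twist

/-- The action of a word of fundamental reflections on root indices. -/
def wwN (D : ChevalleyDatum) (l : List (Fin D.rank)) (r : ℕ) : ℕ := l.foldr (fun i q => wN D i.val q) r

theorem chev_ww {M : List (List ℤ)} {d : ℤ} (hD : Good D) (hR : Roots D M d) (K : Type*) [Field K]
    (l : List (Fin D.rank)) (r : Fin D.nroots) :
    ((chevRGD hD hR K).ww l r).val = wwN D l r.val := by
  induction l with
  | nil => rfl
  | cons i l ih =>
    rw [RGD.RootData.ww_cons, wwN, List.foldr_cons, ← wwN, ← ih]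
    rfl

/-- The table condition for relative rank one with w₀ = `l`. -/
structure LongOK (D : ChevalleyDatum) (l : List (Fin D.rank)) : Prop where
  rank : D.rank = 2
  neg_pos : ∀ r < D.nroots, D.IsPosRoot r → ¬ D.IsPosRoot (wwN D l r)
  simple : ∀ i : Fin D.rank, ∃ i' : Fin D.rank, wwN D l (D.simple i.val) = D.neg (D.simple i'.val)

theorem rankOne_of {H : Half D} {p : ℕ} [Fact p.Prime] (hH : HalfOK H p) (hF : FoldOK H p) (hD : Good D)
    (K : Type*) [Field K] [CharP K p] (m : ℕ) {M : List (List ℤ)} {d : ℤ} (hR : Roots D M d)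
    {l : List (Fin D.rank)} (hl : LongOK D l) : RankOne (chevFold hH hF hD K m hR) l where
  nonempty := ⟨⟨0, by rw [hl.rank]; norm_num⟩⟩
  trans i j := by
    have := hl.rank
    by_cases h : j = i
    · exact Or.inl h
    · refine Or.inr (Fin.ext ?_)
      show j.val = D.rank - 1 - i.val
      have : j.val ≠ i.val := fun e => h (Fin.ext e)
      omega
  neg_pos r hr h := hl.neg_pos r.val r.isLt hr (chev_ww hD hR K l r ▸ h)
  simple i := by
    obtain ⟨i', e⟩ := hl.simple i
    exact ⟨i', Fin.ext ((chev_ww hD hR K l _).trans e)⟩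

end Cfsg.Agent.Twisted
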