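/-
Twisted groups, part 17: the monomial representatives in characteristic 2.

* `nw_conj_xg`, `nw_conj_ng`, `nw_conj_hg` : conjugation by a word of fundamental n's, without signs.
* `nw_eq_of_wwN` : two words with the same action on the roots give the same element.
* `hg_eq_torusHom`.
-/
import Cfsg.Agent.Lib.Twisted.Sigma
import Cfsg.Agent.Lib.ChevSt.Centre
import Cfsg.Agent.Lib.ChevOrder.CardH

set_option autoImplicit false

namespace Cfsg.Agent.Twisted

open Cfsg.Lie Cfsg.Lie.ChevalleyDatum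
open Cfsg.Agent.Chev Cfsg.Agent.ChevBN Cfsg.Agent.ChevSt

variable {D : ChevalleyDatum} {M : List (List ℤ)} {d : ℤ} (hD : Good D) (hR : Roots D M d)
  {K : Type*} [Field K]

omit [Field K] in
theorem wwN_lt (hD : Good D) (l : List (Fin D.rank)) {s : ℕ} (hs : s < D.nroots) : wwN D l s < D.nroots := by
  induction l with
  | nil => exact hs
  | cons i l ih => exact ChevSt.refl_lt hD (hD.simple_lt i.val i.isLt) ih

theorem neg_one_eq_one [CharP K 2] : (-1 : K) = 1 := CharTwo.neg_eq 1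

include hD in
theorem nSign_cast [CharP K 2] {r s : ℕ} (hr : r < D.nroots) (hs : s < D.nroots) : (nSign D r s : K) = 1 := by
  rcases (ChevBN.nSign_cases hD hr hs).1 with h | h <;> rw [h] <;> simp [neg_one_eq_one]

include hR in
theorem nw_conj_ng [CharP K 2] (l : List (Fin D.rank)) {s : ℕ} (hs : s < D.nroots) (u : K) :
    (chevRGD hD hR K).nw l * ng hD K s u * ((chevRGD hD hR K).nw l)⁻¹ = ng hD K (wwN D l s) u := by
  induction l with
  | nil => simp [wwN, RGD.RootData.nw]
  | cons i l ih =>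
    rw [RGD.RootData.nw_cons, mul_inv_rev, show (chevRGD hD hR K).n i * (chevRGD hD hR K).nw l * ng hD K s u *
      (((chevRGD hD hR K).nw l)⁻¹ * ((chevRGD hD hR K).n i)⁻¹) = (chevRGD hD hR K).n i *
      ((chevRGD hD hR K).nw l * ng hD K s u * ((chevRGD hD hR K).nw l)⁻¹) * ((chevRGD hD hR K).n i)⁻¹ by group, ih]
    show ng hD K (D.simple i.val) 1 * ng hD K (wwN D l s) u * (ng hD K (D.simple i.val) 1)⁻¹ = _
    rw [ng_conj_ng hD hR i.isLt (wwN_lt hD l hs), nSign_cast hD (hD.simple_lt i.val i.isLt) (wwN_lt hD l hs),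
      one_mul]
    rfl

include hR in
theorem nw_conj_xg [CharP K 2] (l : List (Fin D.rank)) {s : ℕ} (hs : s < D.nroots) (u : K) :
    (chevRGD hD hR K).nw l * xg hD K s u * ((chevRGD hD hR K).nw l)⁻¹ = xg hD K (wwN D l s) u := by
  induction l with
  | nil => simp [wwN, RGD.RootData.nw]
  | cons i l ih =>
    rw [RGD.RootData.nw_cons, mul_inv_rev, show (chevRGD hD hR K).n i * (chevRGD hD hR K).nw l * xg hD K s u *
      (((chevRGD hD hR K).nw l)⁻¹ * ((chevRGD hD hR K).n i)⁻¹) = (chevRGD hD hR K).n i *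
      ((chevRGD hD hR K).nw l * xg hD K s u * ((chevRGD hD hR K).nw l)⁻¹) * ((chevRGD hD hR K).n i)⁻¹ by group, ih]
    show ng hD K (D.simple i.val) 1 * xg hD K (wwN D l s) u * (ng hD K (D.simple i.val) 1)⁻¹ = _
    rw [ng_conj_xg hD i.isLt (wwN_lt hD l hs), nSign_cast hD (hD.simple_lt i.val i.isLt) (wwN_lt hD l hs),
      one_mul]
    rfl

include hR in
theorem nw_conj_hg [CharP K 2] (l : List (Fin D.rank)) {s : ℕ} (hs : s < D.nroots) (t : K) :
    (chevRGD hD hR K).nw l * hg hD K s t * ((chevRGD hD hR K).nw l)⁻¹ = hg hD K (wwN D l s) t := by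
  rw [hg, hg, ← nw_conj_ng hD hR l hs t, ← nw_conj_ng hD hR l hs (-1)]
  group

include hR in
/-- Two words with the same action on the roots give the same element. -/
theorem nw_eq_of_wwN [CharP K 2] {l l' : List (Fin D.rank)}
    (h : ∀ s < D.nroots, wwN D l s = wwN D l' s) :
    (chevRGD hD hR K).nw l = (chevRGD hD hR K).nw l' := by
  have hG : ∀ k, (chevRGD hD hR K).nw k ∈ D.group K := fun k => chev_G hD hR (F := K) ▸ (chevRGD hD hR K).N_le_G ((chevRGD hD hR K).nw_mem_N k)
  set g := ((chevRGD hD hR K).nw l)⁻¹ * (chevRGD hD hR K).nw l' with hg'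
  have hgG : g ∈ D.group K := mul_mem (inv_mem (hG l)) (hG l')
  have hc : ∀ x ∈ D.group K, g * x * g⁻¹ = x := by
    intro x hx
    refine group_le_of_gx hD K (P := (MulAut.conj g).toMonoidHom.eqLocus (MonoidHom.id _)) (fun s hs t => ?_) hx
    show g * xg hD K s t * g⁻¹ = xg hD K s t
    rw [hg', show ((chevRGD hD hR K).nw l)⁻¹ * (chevRGD hD hR K).nw l' * xg hD K s t * (((chevRGD hD hR K).nw l)⁻¹ * (chevRGD hD hR K).nw l')⁻¹ =
      ((chevRGD hD hR K).nw l)⁻¹ * ((chevRGD hD hR K).nw l' * xg hD K s t * ((chevRGD hD hR K).nw l')⁻¹) * (chevRGD hD hR K).nw l by group, nw_conj_xg hD hR l' hs t,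
      ← h s hs, ← nw_conj_xg hD hR l hs t]
    group
  have h1 : (⟨g, hgG⟩ : D.group K) ∈ Subgroup.center (D.group K) := Subgroup.mem_center_iff.2 fun x =>
    Subtype.ext (by
      show (x : GL D.Idx K) * g = g * x
      exact mul_inv_eq_iff_eq_mul.1 (hc x x.2) |>.symm)
  rw [center_group_eq_bot hD hR, Subgroup.mem_bot] at h1
  exact inv_mul_eq_one.1 (congrArg Subtype.val h1)

/-- h_r(t) in torus coordinates. -/
theorem hg_eq_torusHom {r : ℕ} (hr : r < D.nroots) (t : Kˣ) :
    hg hD K r (t : K) = ChevOrder.torusHom D K fun i => t ^ (D.coroot.getD r #[]).getD i.val 0 := by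
  refine Units.ext ?_
  rw [coe_hg, ChevOrder.coe_torusHom, hMat_eq_diag hD hr t.ne_zero, Units.mk0_val]
  congr 1
  ext1 s
  rw [ChevOrder.chi, Chev.pairing_eq_sum]
  simp only [← zpow_mul]
  rw [ChevOrder.zpow_sum']

end Cfsg.Agent.Twisted
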