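/-
Twisted groups, part 2: the short-root data of G₂ in characteristic 3 and F₄ in characteristic 2.
-/
import Cfsg.Agent.Lib.Twisted.Half
import Cfsg.Prelude.Def_ChevG2
import Cfsg.Prelude.Def_ChevF4

set_option autoImplicit false

namespace Cfsg.Agent.Twisted

open Cfsg.Lie
open Cfsg.Lie.ChevalleyDatum

/-- The graph data of type G2 in characteristic 3. -/
def halfG2 : Half chevG2 where
  m := 7
  iS := ![.inl (0 : Fin 2), .inr (2 : Fin 12), .inr (3 : Fin 12), .inr (4 : Fin 12), .inr (7 : Fin 12), .inr (8 : Fin 12), .inr (9 : Fin 12)]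
  iL := ![.inl (1 : Fin 2), .inr (0 : Fin 12), .inr (1 : Fin 12), .inr (5 : Fin 12), .inr (6 : Fin 12), .inr (10 : Fin 12), .inr (11 : Fin 12)]
  rho r := #[2, 3, 0, 1, 5, 4, 7, 6, 10, 11, 8, 9].getD r r
  lam r := #[1, 1, 3, 3, 3, 1, 1, 3, 3, 3, 1, 1].getD r 1
  cert := Sum.elim
    ![[(2, .inr (2 : Fin 12), 1)], [(3, .inr (3 : Fin 12), 1), (2, .inr (2 : Fin 12), 1)]]
    ![[(8, .inr (2 : Fin 12), 2)], [(7, .inr (2 : Fin 12), 2)], [(7, .inr (3 : Fin 12), 2)], [(4, .inr (2 : Fin 12), 2)], [(3, .inr (2 : Fin 12), 1)], [(4, .inr (3 : Fin 12), 1)], [(3, .inr (4 : Fin 12), 1)], [(2, .inr (3 : Fin 12), 1)], [(2, .inr (4 : Fin 12), 2)], [(2, .inl (0 : Fin 2), 1)], [(2, .inr (7 : Fin 12), 2)], [(2, .inr (8 : Fin 12), 2)]]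

/-- The graph data of type F4 in characteristic 2. -/
def halfF4 : Half chevF4 where
  m := 26
  iS := ![.inl (0 : Fin 4), .inl (1 : Fin 4), .inr (3 : Fin 48), .inr (7 : Fin 48), .inr (8 : Fin 48), .inr (9 : Fin 48), .inr (10 : Fin 48), .inr (11 : Fin 48), .inr (12 : Fin 48), .inr (13 : Fin 48), .inr (14 : Fin 48), .inr (18 : Fin 48), .inr (19 : Fin 48), .inr (20 : Fin 48), .inr (27 : Fin 48), .inr (28 : Fin 48), .inr (29 : Fin 48), .inr (33 : Fin 48), .inr (34 : Fin 48), .inr (35 : Fin 48), .inr (36 : Fin 48), .inr (37 : Fin 48), .inr (38 : Fin 48), .inr (39 : Fin 48), .inr (40 : Fin 48), .inr (44 : Fin 48)]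
  iL := ![.inl (3 : Fin 4), .inl (2 : Fin 4), .inr (0 : Fin 48), .inr (1 : Fin 48), .inr (2 : Fin 48), .inr (4 : Fin 48), .inr (15 : Fin 48), .inr (5 : Fin 48), .inr (16 : Fin 48), .inr (21 : Fin 48), .inr (23 : Fin 48), .inr (6 : Fin 48), .inr (17 : Fin 48), .inr (22 : Fin 48), .inr (25 : Fin 48), .inr (30 : Fin 48), .inr (41 : Fin 48), .inr (24 : Fin 48), .inr (26 : Fin 48), .inr (31 : Fin 48), .inr (42 : Fin 48), .inr (32 : Fin 48), .inr (43 : Fin 48), .inr (45 : Fin 48), .inr (46 : Fin 48), .inr (47 : Fin 48)]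
  rho r := #[3, 7, 8, 0, 9, 11, 18, 1, 2, 4, 15, 5, 16, 21, 23, 10, 12, 19, 6, 17, 22, 13, 20, 14, 33, 27, 34, 25, 30, 41, 28, 35, 37, 24, 26, 31, 42, 32, 43, 45, 46, 29, 36, 38, 47, 39, 40, 44].getD r r
  lam r := #[1, 1, 1, 2, 1, 1, 1, 2, 2, 2, 2, 2, 2, 2, 2, 1, 1, 1, 2, 2, 2, 1, 1, 1, 1, 1, 1, 2, 2, 2, 1, 1, 1, 2, 2, 2, 2, 2, 2, 2, 2, 1, 1, 1, 2, 1, 1, 1].getD r 1
  cert := Sum.elim
    ![[(3, .inr (3 : Fin 48), 1)], [(14, .inr (14 : Fin 48), 1)], [(8, .inr (8 : Fin 48), 1), (14, .inr (14 : Fin 48), 1)], [(10, .inr (10 : Fin 48), 1), (14, .inr (14 : Fin 48), 1)]]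
    ![[(29, .inr (3 : Fin 48), 1)], [(28, .inr (3 : Fin 48), 1)], [(27, .inr (3 : Fin 48), 1)], [(33, .inr (7 : Fin 48), 1)], [(20, .inr (3 : Fin 48), 1)], [(19, .inr (3 : Fin 48), 1)], [(18, .inr (3 : Fin 48), 1)], [(14, .inr (3 : Fin 48), 1)], [(13, .inr (3 : Fin 48), 1)], [(12, .inr (3 : Fin 48), 1)], [(11, .inr (3 : Fin 48), 1)], [(10, .inr (3 : Fin 48), 1)], [(9, .inr (3 : Fin 48), 1)], [(8, .inr (3 : Fin 48), 1)], [(7, .inr (3 : Fin 48), 1)], [(13, .inr (7 : Fin 48), 1)], [(12, .inr (7 : Fin 48), 1)], [(11, .inr (7 : Fin 48), 1)], [(10, .inr (7 : Fin 48), 1)], [(9, .inr (7 : Fin 48), 1)], [(8, .inr (7 : Fin 48), 1)], [(10, .inr (8 : Fin 48), 1)], [(9, .inr (8 : Fin 48), 1)], [(10, .inr (9 : Fin 48), 1)], [(9, .inr (10 : Fin 48), 1)], [(8, .inr (9 : Fin 48), 1)], [(8, .inr (10 : Fin 48), 1)], [(7, .inr (8 : Fin 48), 1)], [(7, .inr (9 : Fin 48), 1)], [(7, .inr (10 : Fin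 48), 1)], [(7, .inr (11 : Fin 48), 1)], [(7, .inr (12 : Fin 48), 1)], [(7, .inr (13 : Fin 48), 1)], [(3, .inr (7 : Fin 48), 1)], [(3, .inr (8 : Fin 48), 1)], [(3, .inr (9 : Fin 48), 1)], [(3, .inr (10 : Fin 48), 1)], [(3, .inr (11 : Fin 48), 1)], [(3, .inr (12 : Fin 48), 1)], [(3, .inr (13 : Fin 48), 1)], [(3, .inr (14 : Fin 48), 1)], [(3, .inr (18 : Fin 48), 1)], [(3, .inr (19 : Fin 48), 1)], [(3, .inr (20 : Fin 48), 1)], [(3, .inl (1 : Fin 4), 1)], [(3, .inr (27 : Fin 48), 1)], [(3, .inr (28 : Fin 48), 1)], [(3, .inr (29 : Fin 48), 1)]]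

/-- The conditions of `HalfOK` on one root. -/
def rootOK {D : ChevalleyDatum} (H : Half D) (p r : ℕ) : Prop :=
  H.rho r < D.nroots ∧ H.rho (H.rho r) = r ∧ H.lam r * H.lam (H.rho r) = p ∧
    ∀ b, ZeroMod p (H.blkTerms r b) ∧ ZeroMod p (H.twistTerms r b)

instance {D : ChevalleyDatum} (H : Half D) (p r : ℕ) : Decidable (rootOK H p r) := by
  unfold rootOK; infer_instance

/-- The conditions of `HalfOK` on one coordinate. -/
def certOK {D : ChevalleyDatum} (H : Half D) (p : ℕ) (a : D.Idx) : Prop :=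
  (∀ x ∈ H.cert a, (x.1 < D.nroots ∧ (H.posS (Sum.inr x.1)).isSome) ∧
    ∀ b c, Chev.adE D ℤ x.1 (H.iL b) c % (p : ℤ) = 0) ∧
  ∀ a', ((H.cert a).map fun x => x.2.2 * Chev.adE D ℤ x.1 x.2.1 a').sum % (p : ℤ) =
    (if a' = a then 1 else 0) % (p : ℤ)

instance {D : ChevalleyDatum} (H : Half D) (p : ℕ) (a : D.Idx) : Decidable (certOK H p a) := by
  unfold certOK; infer_instance

theorem halfOK_of {D : ChevalleyDatum} {H : Half D} {p : ℕ}
    (h₁ : Function.Injective (Sum.elim H.iS H.iL)) (h₂ : H.m + H.m = D.rank + D.nroots)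
    (h₃ : ∀ r < D.nroots, rootOK H p r) (h₄ : ∀ a, certOK H p a) : HalfOK H p where
  inj := h₁
  card := h₂
  rho_lt r hr := (h₃ r hr).1
  rho_rho r hr := (h₃ r hr).2.1
  lam_mul r hr := (h₃ r hr).2.2.1
  blk r hr b := ((h₃ r hr).2.2.2 b).1
  twist r hr b := ((h₃ r hr).2.2.2 b).2
  cert_mem a x hx := ((h₄ a).1 x hx).1
  ideal a x hx := ((h₄ a).1 x hx).2
  cert_sum a := (h₄ a).2

set_option maxHeartbeats 4000000 in
theorem halfG2_ok : HalfOK halfG2 3 := by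
  refine halfOK_of ?_ rfl ?_ ?_ <;> decide +kernel

set_option maxHeartbeats 4000000 in
theorem halfF4_ok : HalfOK halfF4 2 := by
  refine halfOK_of ?_ rfl ?_ ?_ <;> decide +kernel

end Cfsg.Agent.Twisted
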