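/-
Twisted groups, part 4: fixed points of an automorphism of root group data permuting the fundamental
roots transitively (relative rank one).

For `R : RGD.RootData` and `σ : Fold R` with hypothesis `RankOne σ l₀` (`l₀` a word for w₀):
* `Fold.fix`, `Fold.U1`, `Fold.H1`;
* `RankOne.form`        : a fixed element is `u h` or `u m c`, all factors fixed, m ∈ H n_{w₀};
* `RankOne.bnPair`      : the (B,N)-pair of the fixed group;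
* `RankOne.card_fix`    : |fix| = |U1| |H1| (1 + |U1|);
* `RankOne.borel_inter` : B ∩ m B m⁻¹ = H.
-/
import Cfsg.Agent.Lib.RGD.BN

set_option autoImplicit false

namespace Cfsg.Agent.Twisted

open RGD

variable {Γ : Type*} [Group Γ] {Φ I : Type*} (R : RootData Γ Φ I)

/-- An endomorphism of `R.G` permuting root subgroups and fundamental reflections. -/
structure Fold where
  s : Γ → Γ
  rho : Φ → Φ
  rhoI : I → I
  s_mul : ∀ x ∈ R.G, ∀ y ∈ R.G, s (x * y) = s x * s y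
  s_mem : ∀ x ∈ R.G, s x ∈ R.G
  s_U : ∀ r, ∀ x ∈ R.U r, s x ∈ R.U (rho r)
  s_H : ∀ x ∈ R.H, s x ∈ R.H
  s_n : ∀ i, s (R.n i) = R.n (rhoI i)
  rho_simple : ∀ i, rho (R.simple i) = R.simple (rhoI i)
  rho_w : ∀ i r, rho (R.w i r) = R.w (rhoI i) (rho r)
  rho_pos : ∀ r, R.pos (rho r) ↔ R.pos r

variable {R} (σ : Fold R)

namespace Fold

theorem s_one : σ.s 1 = 1 := by
  have h := σ.s_mul 1 (one_mem _) 1 (one_mem _)
  rw [mul_one] at h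
  exact left_eq_mul.1 h

theorem s_inv {x : Γ} (hx : x ∈ R.G) : σ.s x⁻¹ = (σ.s x)⁻¹ := by
  refine (inv_eq_of_mul_eq_one_right ?_).symm
  rw [← σ.s_mul x hx _ (inv_mem hx), mul_inv_cancel, σ.s_one]

theorem s_span {A A' : Set Φ} (hA : ∀ r ∈ A, R.pos r ∧ σ.rho r ∈ A') {x : Γ} (hx : x ∈ R.span A) :
    σ.s x ∈ R.span A' := by
  let K : Subgroup Γ :=
    { carrier := {y | y ∈ R.G ∧ σ.s y ∈ R.span A'}
      one_mem' := ⟨one_mem _, by rw [σ.s_one]; exact one_mem _⟩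
      mul_mem' := fun {a b} ha hb => ⟨mul_mem ha.1 hb.1, by rw [σ.s_mul a ha.1 b hb.1]; exact mul_mem ha.2 hb.2⟩
      inv_mem' := fun {a} ha => ⟨inv_mem ha.1, by rw [σ.s_inv ha.1]; exact inv_mem ha.2⟩ }
  have : R.span A ≤ K := R.span_le fun r hr y hy =>
    ⟨R.B_le_G (R.Upos_le_B (R.U_le_Upos (hA r hr).1 hy)), R.U_le_span (hA r hr).2 (σ.s_U r y hy)⟩
  exact (this hx).2

theorem s_Upos {x : Γ} (hx : x ∈ R.Upos) : σ.s x ∈ R.Upos :=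
  σ.s_span (fun _ hr => ⟨hr, (σ.rho_pos _).2 hr⟩) hx

theorem s_B {x : Γ} (hx : x ∈ R.B) : σ.s x ∈ R.B := by
  obtain ⟨u, hu, h, hh, rfl⟩ := R.exists_B hx
  rw [σ.s_mul u (R.B_le_G (R.Upos_le_B hu)) h (R.B_le_G (R.H_le_B hh))]
  exact mul_mem (R.Upos_le_B (σ.s_Upos hu)) (R.H_le_B (σ.s_H h hh))

theorem s_nw (l : List I) : σ.s (R.nw l) = R.nw (l.map σ.rhoI) := by
  induction l with
  | nil => exact σ.s_one
  | cons i l ih =>
    rw [RootData.nw_cons, σ.s_mul _ (R.n_mem_G i) _ (R.N_le_G (R.nw_mem_N l)), σ.s_n, ih, List.map_cons,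
      RootData.nw_cons]

theorem rho_ww (l : List I) (r : Φ) : σ.rho (R.ww l r) = R.ww (l.map σ.rhoI) (σ.rho r) := by
  induction l with
  | nil => rfl
  | cons i l ih => rw [RootData.ww_cons, σ.rho_w, ih, List.map_cons, RootData.ww_cons]

/-- The fixed subgroup. -/
def fix : Subgroup Γ where
  carrier := {g | g ∈ R.G ∧ σ.s g = g}
  one_mem' := ⟨one_mem _, σ.s_one⟩
  mul_mem' := fun {a b} ha hb => ⟨mul_mem ha.1 hb.1, by rw [σ.s_mul a ha.1 b hb.1, ha.2, hb.2]⟩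
  inv_mem' := fun {a} ha => ⟨inv_mem ha.1, by rw [σ.s_inv ha.1, ha.2]⟩

/-- The fixed part of U. -/
def U1 : Subgroup Γ where
  carrier := {x | x ∈ R.Upos ∧ x ∈ σ.fix}
  one_mem' := ⟨one_mem _, one_mem _⟩
  mul_mem' := fun ha hb => ⟨mul_mem ha.1 hb.1, mul_mem ha.2 hb.2⟩
  inv_mem' := fun ha => ⟨inv_mem ha.1, inv_mem ha.2⟩

/-- The fixed part of H. -/
def H1 : Subgroup Γ where
  carrier := {x | x ∈ R.H ∧ x ∈ σ.fix}
  one_mem' := ⟨one_mem _, one_mem _⟩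
  mul_mem' := fun ha hb => ⟨mul_mem ha.1 hb.1, mul_mem ha.2 hb.2⟩
  inv_mem' := fun ha => ⟨inv_mem ha.1, inv_mem ha.2⟩

theorem U1_eq : σ.U1 = R.Upos ⊓ σ.fix := rfl

theorem H1_eq : σ.H1 = R.H ⊓ σ.fix := rfl

theorem mem_fix {g : Γ} : g ∈ σ.fix ↔ g ∈ R.G ∧ σ.s g = g := Iff.rfl

end Fold

/-- Uniqueness of u h. -/
theorem eq_of_mul_eq {u u' h h' : Γ} (hu : u ∈ R.Upos) (hu' : u' ∈ R.Upos) (hh : h ∈ R.H) (hh' : h' ∈ R.H)
    (e : u * h = u' * h') : u = u' ∧ h = h' := by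
  have h1 : u'⁻¹ * u = h' * h⁻¹ := by
    calc u'⁻¹ * u = u'⁻¹ * (u * h) * h⁻¹ := by group
      _ = _ := by rw [e]; group
  have h2 : u'⁻¹ * u ∈ R.Upos ⊓ R.H :=
    Subgroup.mem_inf.2 ⟨mul_mem (inv_mem hu') hu, h1 ▸ mul_mem hh' (inv_mem hh)⟩
  rw [show R.Upos ⊓ R.H = ⊥ from R.U_inf_H, Subgroup.mem_bot, inv_mul_eq_one] at h2
  exact ⟨h2.symm, mul_left_cancel (h2 ▸ e)⟩

/-- Words congruent modulo H from their double cosets. -/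
theorem exists_H_of_doubleCoset {l l' : List I} {b b' c c' : Γ} (hb : b ∈ R.B) (hb' : b' ∈ R.B)
    (hc : c ∈ R.B) (hc' : c' ∈ R.B) (e : b * R.nw l * b' = c * R.nw l' * c') :
    ∃ h ∈ R.H, R.nw l' = h * R.nw l := by
  set P := R.bnPair
  let toG : ∀ x, x ∈ R.G → R.G := fun x hx => ⟨x, hx⟩
  let n : P.N := ⟨toG _ (R.N_le_G (R.nw_mem_N l)), R.nw_mem_N l⟩
  let n' : P.N := ⟨toG _ (R.N_le_G (R.nw_mem_N l')), R.nw_mem_N l'⟩
  have h1 : toG _ (mul_mem (mul_mem (R.B_le_G hb) (R.N_le_G (R.nw_mem_N l))) (R.B_le_G hb')) ∈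
      BN.C P (QuotientGroup.mk n) :=
    (BN.mem_C_mk P).2 ⟨toG b (R.B_le_G hb), hb, toG b' (R.B_le_G hb'), hb', rfl⟩
  have h2 : toG _ (mul_mem (mul_mem (R.B_le_G hb) (R.N_le_G (R.nw_mem_N l))) (R.B_le_G hb')) ∈
      BN.C P (QuotientGroup.mk n') :=
    (BN.mem_C_mk P).2 ⟨toG c (R.B_le_G hc), hc, toG c' (R.B_le_G hc'), hc', Subtype.ext e⟩
  have h3 : (R.nw l)⁻¹ * R.nw l' ∈ R.B := (BN.mk_eq_iff P).1 (BN.C_unique P h1 h2)
  have h4 : (R.nw l)⁻¹ * R.nw l' ∈ R.H := by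
    rw [← R.B_inf_N]
    exact Subgroup.mem_inf.2 ⟨h3, mul_mem (inv_mem (R.nw_mem_N l)) (R.nw_mem_N l')⟩
  exact ⟨_, R.nw_conj_H l h4, by group⟩

theorem exists_bruhat {g : Γ} (hg : g ∈ R.G) : ∃ b ∈ R.B, ∃ l, ∃ b' ∈ R.B, g = b * R.nw l * b' := by
  obtain ⟨w, hw⟩ := BN.exists_mem_C R.bnPair ⟨g, hg⟩
  induction w using QuotientGroup.induction_on with
  | H n =>
    obtain ⟨b, hb, b', hb', e⟩ := (BN.mem_C_mk R.bnPair).1 hw
    obtain ⟨h, hh, l, hl⟩ := R.mem_N_iff.1 n.2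
    refine ⟨(b : Γ) * h, mul_mem hb (R.H_le_B hh), l, (b' : Γ), hb', ?_⟩
    have := congrArg Subtype.val e
    simp only [Subgroup.coe_mul] at this
    rw [this, show ((n : R.G) : Γ) = h * R.nw l from hl]
    group

theorem nw_mem_H_of_simples : ∀ {l : List I}, (∀ i, R.pos (R.ww l (R.simple i))) → R.nw l ∈ R.H := by
  intro l
  induction hn : l.length using Nat.strong_induction_on generalizing l with
  | _ q ih =>
    intro h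
    rcases List.eq_nil_or_concat' l with rfl | ⟨l, j, rfl⟩
    · exact one_mem _
    have h1 := h j
    rw [RootData.ww_append, RootData.ww_cons, RootData.ww_nil, R.w_simple, R.ww_neg, R.pos_neg] at h1
    obtain ⟨l', hlen, k, hk, e⟩ := R.exists_shorter h1
    rw [e]
    refine mul_mem hk (ih l'.length (by subst hn; simp; omega) rfl fun i => ?_)
    exact (R.pos_ww_congr hk e _).1 (h i)

/-- Relative rank one: `rhoI` is transitive and `l₀` is a word for the longest element. -/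
structure RankOne (σ : Fold R) (l₀ : List I) : Prop where
  nonempty : Nonempty I
  trans : ∀ i j, j = i ∨ j = σ.rhoI i
  neg_pos : ∀ r, R.pos r → ¬ R.pos (R.ww l₀ r)
  simple : ∀ i, ∃ i', R.ww l₀ (R.simple i) = R.neg (R.simple i')

namespace RankOne

variable {σ} {l₀ : List I} (h1 : RankOne σ l₀)
include h1

theorem neg_preimage {r : Φ} (hr : ¬ R.pos r) : R.pos (R.ww l₀ r) := by
  have h := h1.neg_pos (R.neg r) (by rw [R.pos_neg]; exact hr)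
  rw [R.ww_neg, R.pos_neg] at h
  exact not_not.1 h

theorem nw_mul_mem {l' : List I} (hl' : ∀ j, ¬ R.pos (R.ww l' (R.simple j))) : R.nw l' * R.nw l₀ ∈ R.H := by
  rw [← RootData.nw_append]
  refine nw_mem_H_of_simples fun j => ?_
  obtain ⟨j', e⟩ := h1.simple j
  rw [RootData.ww_append, e, R.ww_neg, R.pos_neg]
  exact hl' j'

theorem sq_mem : R.nw l₀ * R.nw l₀ ∈ R.H :=
  h1.nw_mul_mem fun j => h1.neg_pos _ (R.pos_simple j)

theorem word_cases {l : List I}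
    (hl : ∀ r, R.pos (R.ww l (σ.rho r)) ↔ R.pos (R.ww l r)) :
    R.nw l ∈ R.H ∨ ∃ h ∈ R.H, R.nw l = h * R.nw l₀ := by
  by_cases h : ∀ i, R.pos (R.ww l (R.simple i))
  · exact Or.inl (nw_mem_H_of_simples h)
  right
  push Not at h
  obtain ⟨i, hi⟩ := h
  have hall : ∀ j, ¬ R.pos (R.ww l (R.simple j)) := by
    intro j
    rcases h1.trans i j with rfl | rfl
    · exact hi
    · rwa [← σ.rho_simple, hl]
  exact ⟨_, mul_mem (h1.nw_mul_mem hall) (inv_mem h1.sq_mem), by group⟩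

theorem conj_Upos {x : Γ} (hx : x ∈ R.Upos) : R.nw l₀ * x * (R.nw l₀)⁻¹ ∈ R.Vneg :=
  R.span_conj (fun r hr y hy => R.U_le_span (h1.neg_pos r hr) (by
    rw [← R.map_conj_U l₀ r]; exact ⟨y, hy, rfl⟩)) x hx

/-- Uniqueness of u h n₀ c. -/
theorem form_unique {u u' h h' c c' : Γ} (hu : u ∈ R.Upos) (hu' : u' ∈ R.Upos) (hh : h ∈ R.H) (hh' : h' ∈ R.H)
    (hc : c ∈ R.Upos) (hc' : c' ∈ R.Upos) (e : u * (h * R.nw l₀) * c = u' * (h' * R.nw l₀) * c') :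
    u = u' ∧ h = h' ∧ c = c' := by
  set n := R.nw l₀
  have e1 : n * (c * c'⁻¹) * n⁻¹ = h⁻¹ * u⁻¹ * u' * h' := by
    calc n * (c * c'⁻¹) * n⁻¹ = h⁻¹ * u⁻¹ * (u * (h * n) * c) * c'⁻¹ * n⁻¹ := by group
      _ = _ := by rw [e]; group
  have e2 : n * (c * c'⁻¹) * n⁻¹ ∈ R.B ⊓ R.Vneg :=
    Subgroup.mem_inf.2 ⟨e1 ▸ mul_mem (mul_mem (mul_mem (R.H_le_B (inv_mem hh)) (R.Upos_le_B (inv_mem hu))) (R.Upos_le_B hu'))
      (R.H_le_B hh'), h1.conj_Upos (mul_mem hc (inv_mem hc'))⟩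
  rw [show R.B ⊓ R.Vneg = ⊥ from R.B_inf_V, Subgroup.mem_bot, conj_eq_one_iff, mul_inv_eq_one] at e2
  subst e2
  obtain ⟨a, b⟩ := eq_of_mul_eq hu hu' hh hh'
    (mul_right_cancel (b := n) (by simpa [mul_assoc] using mul_right_cancel e))
  exact ⟨a, b, rfl⟩

omit h1 in
theorem exists_form {g : Γ} {b b' : Γ} (hb : b ∈ R.B) (hb' : b' ∈ R.B) {k : Γ} (hk : k ∈ R.H)
    (e : g = b * (k * R.nw l₀) * b') :
    ∃ u ∈ R.Upos, ∃ h ∈ R.H, ∃ c ∈ R.Upos, g = u * (h * R.nw l₀) * c := by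
  obtain ⟨u, hu, h, hh, rfl⟩ := R.exists_B hb
  obtain ⟨v, hv, m, hm, rfl⟩ := R.exists_B hb'
  refine ⟨u, hu, _, mul_mem (mul_mem hh hk) (R.nw_conj_H l₀ hm), m⁻¹ * v * m, ?_, ?_⟩
  · have := R.H_conj_span _ (inv_mem hm) v hv
    rwa [inv_inv] at this
  · rw [e]
    group

omit h1 in
theorem s_form {u h n c : Γ} (hu : u ∈ R.G) (hh : h ∈ R.G) (hn : n ∈ R.G) (hc : c ∈ R.G) :
    σ.s (u * (h * n) * c) = σ.s u * (σ.s h * σ.s n) * σ.s c := by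
  rw [σ.s_mul _ (mul_mem hu (mul_mem hh hn)) c hc, σ.s_mul u hu _ (mul_mem hh hn), σ.s_mul h hh n hn]

theorem s_n0 : ∃ k ∈ R.H, σ.s (R.nw l₀) = k * R.nw l₀ := by
  rw [σ.s_nw]
  have h : ∀ j, ¬ R.pos (R.ww (l₀.map σ.rhoI) (R.simple j)) := by
    intro j
    obtain ⟨j', hj'⟩ : ∃ j', σ.rhoI j' = j := by
      rcases h1.trans (σ.rhoI j) j with h | h
      · exact ⟨j, h.symm⟩
      · exact ⟨_, h.symm⟩
    rw [← hj', ← σ.rho_simple, ← σ.rho_ww, σ.rho_pos]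
    exact h1.neg_pos _ (R.pos_simple j')
  exact ⟨_, mul_mem (h1.nw_mul_mem h) (inv_mem h1.sq_mem), by group⟩

/-- The two cells of the fixed group. -/
theorem form {g : Γ} (hg : g ∈ σ.fix) :
    (∃ u ∈ σ.U1, ∃ h ∈ σ.H1, g = u * h) ∨
      ∃ u ∈ σ.U1, ∃ h ∈ R.H, h * R.nw l₀ ∈ σ.fix ∧ ∃ c ∈ σ.U1, g = u * (h * R.nw l₀) * c := by
  obtain ⟨b, hb, l, b', hb', e⟩ := exists_bruhat hg.1
  have hU : ∀ {x}, x ∈ R.Upos → x ∈ R.G := fun hx => R.B_le_G (R.Upos_le_B hx)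
  have hH : ∀ {x}, x ∈ R.H → x ∈ R.G := fun hx => R.B_le_G (R.H_le_B hx)
  have hl : ∀ r, R.pos (R.ww l (σ.rho r)) ↔ R.pos (R.ww l r) := by
    have e' : g = σ.s b * R.nw (l.map σ.rhoI) * σ.s b' := by
      rw [← hg.2, e, σ.s_mul _ (mul_mem (R.B_le_G hb) (R.N_le_G (R.nw_mem_N l))) _ (R.B_le_G hb'),
        σ.s_mul _ (R.B_le_G hb) _ (R.N_le_G (R.nw_mem_N l)), σ.s_nw]
    obtain ⟨h, hh, eh⟩ := exists_H_of_doubleCoset hb hb' (σ.s_B hb) (σ.s_B hb') (e.symm.trans e')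
    intro r
    rw [← R.pos_ww_congr hh eh, ← σ.rho_ww, σ.rho_pos]
  rcases h1.word_cases hl with hH' | ⟨k, hk, ek⟩
  · left
    obtain ⟨u, hu, h, hh, rfl⟩ := R.exists_B
      (show g ∈ R.B from e ▸ mul_mem (mul_mem hb (R.H_le_B hH')) hb')
    have h2 := hg.2
    rw [σ.s_mul u (hU hu) h (hH hh)] at h2
    obtain ⟨eu, eh⟩ := eq_of_mul_eq (σ.s_Upos hu) hu (σ.s_H h hh) hh h2
    exact ⟨u, ⟨hu, hU hu, eu⟩, h, ⟨hh, hH hh, eh⟩, rfl⟩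
  · right
    obtain ⟨u, hu, h, hh, c, hc, rfl⟩ := exists_form hb hb' hk (ek ▸ e)
    obtain ⟨j, hj, ej⟩ := h1.s_n0
    have hn : R.nw l₀ ∈ R.G := R.N_le_G (R.nw_mem_N l₀)
    have h2 := hg.2
    rw [s_form (hU hu) (hH hh) hn (hU hc), ej, ← mul_assoc (σ.s h)] at h2
    obtain ⟨eu, eh, ec⟩ := h1.form_unique (σ.s_Upos hu) hu (mul_mem (σ.s_H h hh) hj) hh (σ.s_Upos hc) hc h2
    refine ⟨u, ⟨hu, hU hu, eu⟩, h, hh, ⟨mul_mem (hH hh) hn, ?_⟩, c, ⟨hc, hU hc, ec⟩, rfl⟩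
    rw [σ.s_mul h (hH hh) _ hn, ej, ← mul_assoc, eh]

variable {h₀ : Γ} (hh₀ : h₀ ∈ R.H) (hm : h₀ * R.nw l₀ ∈ σ.fix)
include hh₀ hm

theorem form' {g : Γ} (hg : g ∈ σ.fix) :
    (∃ u ∈ σ.U1, ∃ h ∈ σ.H1, g = u * h) ∨
      ∃ u ∈ σ.U1, ∃ h ∈ σ.H1, ∃ c ∈ σ.U1, g = u * h * (h₀ * R.nw l₀) * c := by
  refine (h1.form hg).imp id fun ⟨u, hu, h, hh, hf, c, hc, e⟩ => ?_
  refine ⟨u, hu, h * h₀⁻¹, ⟨mul_mem hh (inv_mem hh₀), ?_⟩, c, hc, by rw [e]; group⟩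
  have := mul_mem hf (inv_mem hm)
  rwa [show h * R.nw l₀ * (h₀ * R.nw l₀)⁻¹ = h * h₀⁻¹ by group] at this

omit h1 in
theorem conj_H1 {h : Γ} (hh : h ∈ σ.H1) :
    (h₀ * R.nw l₀) * h * (h₀ * R.nw l₀)⁻¹ ∈ σ.H1 := by
  refine ⟨?_, mul_mem (mul_mem hm hh.2) (inv_mem hm)⟩
  rw [show (h₀ * R.nw l₀) * h * (h₀ * R.nw l₀)⁻¹ = h₀ * (R.nw l₀ * h * (R.nw l₀)⁻¹) * h₀⁻¹ by group]
  exact mul_mem (mul_mem hh₀ (R.nw_conj_H l₀ hh.1)) (inv_mem hh₀)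

omit hm in
theorem not_mem_B {u h c : Γ} (hu : u ∈ σ.U1) (hh : h ∈ σ.H1) (hc : c ∈ σ.U1) :
    u * h * (h₀ * R.nw l₀) * c ∉ R.B := by
  intro hB
  have h2 : R.nw l₀ ∈ R.B := by
    have := mul_mem (mul_mem (inv_mem (mul_mem (mul_mem (R.Upos_le_B hu.1) (R.H_le_B hh.1)) (R.H_le_B hh₀))) hB)
      (inv_mem (R.Upos_le_B hc.1))
    rwa [show (u * h * h₀)⁻¹ * (u * h * (h₀ * R.nw l₀) * c) * c⁻¹ = R.nw l₀ by group] at this
  have h3 := (R.nw_mem_B_iff l₀).1 h2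
  obtain ⟨i⟩ := h1.nonempty
  exact h1.neg_pos _ (R.pos_simple i) ((R.mem_H_iff l₀).1 h3 _ (R.pos_simple i))

theorem card_fix :
    Nat.card σ.fix = Nat.card σ.U1 * Nat.card σ.H1 + Nat.card σ.U1 * Nat.card σ.H1 * Nat.card σ.U1 ∨
      Infinite σ.fix := by
  rcases finite_or_infinite σ.fix with _ | hinf
  swap
  · exact Or.inr hinf
  left
  have : Finite σ.U1 := Finite.of_injective _ (Subgroup.inclusion_injective (fun _ hx => hx.2 : σ.U1 ≤ σ.fix))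
  have : Finite σ.H1 := Finite.of_injective _ (Subgroup.inclusion_injective (fun _ hx => hx.2 : σ.H1 ≤ σ.fix))
  let f : (σ.U1 × σ.H1) ⊕ ((σ.U1 × σ.H1) × σ.U1) → σ.fix := Sum.elim
    (fun x => ⟨x.1 * x.2, mul_mem x.1.2.2 x.2.2.2⟩)
    (fun x => ⟨x.1.1 * x.1.2 * (h₀ * R.nw l₀) * x.2,
      mul_mem (mul_mem (mul_mem x.1.1.2.2 x.1.2.2.2) hm) x.2.2.2⟩)
  have hbij : Function.Bijective f := by
    constructor
    · rintro (⟨u, h⟩ | ⟨⟨u, h⟩, c⟩) (⟨u', h'⟩ | ⟨⟨u', h'⟩, c'⟩) e <;>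
        have e' := congrArg Subtype.val e <;> simp only [f, Sum.elim_inl, Sum.elim_inr] at e'
      · obtain ⟨a, b⟩ := eq_of_mul_eq u.2.1 u'.2.1 h.2.1 h'.2.1 e'
        rw [Subtype.ext a, Subtype.ext b]
      · exact absurd (e' ▸ mul_mem (R.Upos_le_B u.2.1) (R.H_le_B h.2.1)) (h1.not_mem_B hh₀ u'.2 h'.2 c'.2)
      · exact absurd (e'.symm ▸ mul_mem (R.Upos_le_B u'.2.1) (R.H_le_B h'.2.1))
          (h1.not_mem_B hh₀ u.2 h.2 c.2)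
      · simp only [mul_assoc] at e'
        obtain ⟨a, b, d⟩ := h1.form_unique u.2.1 u'.2.1 (mul_mem h.2.1 hh₀) (mul_mem h'.2.1 hh₀) c.2.1 c'.2.1
          (by simpa [mul_assoc] using e')
        rw [Subtype.ext a, Subtype.ext (mul_right_cancel b), Subtype.ext d]
    · rintro ⟨g, hg⟩
      rcases h1.form' hh₀ hm hg with ⟨u, hu, h, hh, e⟩ | ⟨u, hu, h, hh, c, hc, e⟩
      · exact ⟨Sum.inl (⟨u, hu⟩, ⟨h, hh⟩), Subtype.ext e.symm⟩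
      · exact ⟨Sum.inr ((⟨u, hu⟩, ⟨h, hh⟩), ⟨c, hc⟩), Subtype.ext e.symm⟩
  rw [← Nat.card_eq_of_bijective f hbij, Nat.card_sum, Nat.card_prod, Nat.card_prod, Nat.card_prod]

theorem borel_inter {g : Γ} (hg : g ∈ σ.fix) (hB : g ∈ R.B)
    (hB' : (h₀ * R.nw l₀)⁻¹ * g * (h₀ * R.nw l₀) ∈ R.B) : g ∈ σ.H1 := by
  rcases h1.form hg with ⟨u, hu, h, hh, e⟩ | ⟨u, hu, h, hh, hf, c, hc, e⟩
  · subst e
    set n := R.nw l₀
    have hn : n⁻¹ * (h₀⁻¹ * h * h₀) * n ∈ R.B :=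
      R.H_le_B (R.nw_conj_H' l₀ (mul_mem (mul_mem (inv_mem hh₀) hh.1) hh₀))
    have h2 := mul_mem hB' (inv_mem hn)
    rw [show (h₀ * n)⁻¹ * (u * h) * (h₀ * n) * (n⁻¹ * (h₀⁻¹ * h * h₀) * n)⁻¹ =
      (n * n)⁻¹ * (n * (h₀⁻¹ * u * h₀) * n⁻¹) * (n * n) by group] at h2
    have hu' := R.H_conj_span {s | R.pos s} (inv_mem hh₀) u hu.1
    rw [inv_inv] at hu'
    have h3 : (n * n)⁻¹ * (n * (h₀⁻¹ * u * h₀) * n⁻¹) * (n * n) ∈ R.B ⊓ R.Vneg := by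
      refine Subgroup.mem_inf.2 ⟨h2, ?_⟩
      have := R.H_conj_span {s | ¬ R.pos s} (inv_mem h1.sq_mem) _ (h1.conj_Upos hu')
      rwa [inv_inv] at this
    rw [show R.B ⊓ R.Vneg = ⊥ from R.B_inf_V, Subgroup.mem_bot] at h3
    have hu1 : u = 1 := by
      calc u = h₀ * n⁻¹ * (n * n) * ((n * n)⁻¹ * (n * (h₀⁻¹ * u * h₀) * n⁻¹) * (n * n)) * (n * n)⁻¹ * n * h₀⁻¹ := by
            group
        _ = 1 := by rw [h3]; group
    rw [hu1, one_mul]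
    exact hh
  · exact absurd hB (by
      have := h1.not_mem_B hh₀ hu (h := h * h₀⁻¹) ?_ hc
      · rwa [show u * (h * h₀⁻¹) * (h₀ * R.nw l₀) * c = g by rw [e]; group] at this
      · refine ⟨mul_mem hh (inv_mem hh₀), ?_⟩
        have := mul_mem hf (inv_mem hm)
        rwa [show h * R.nw l₀ * (h₀ * R.nw l₀)⁻¹ = h * h₀⁻¹ by group] at this)

/-- The (B,N)-pair of a fixed group of relative rank one. -/
def bnPair (hne : ∃ x ∈ σ.U1, x ≠ 1) : Cfsg.BNPair σ.fix where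
  B := R.B.subgroupOf σ.fix
  N := R.N.subgroupOf σ.fix
  S := {⟨h₀ * R.nw l₀, hm⟩}
  sup_eq_top := by
    rw [eq_top_iff]
    rintro ⟨g, hg⟩ -
    rcases h1.form' hh₀ hm hg with ⟨u, hu, h, hh, e⟩ | ⟨u, hu, h, hh, c, hc, e⟩
    · exact Subgroup.mem_sup_left (show g ∈ R.B from e ▸ mul_mem (R.Upos_le_B hu.1) (R.H_le_B hh.1))
    · have e' : (⟨g, hg⟩ : σ.fix) = ⟨u * h, mul_mem hu.2 hh.2⟩ * ⟨_, hm⟩ * ⟨c, hc.2⟩ := Subtype.ext e
      rw [e']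
      exact mul_mem (mul_mem (Subgroup.mem_sup_left (show _ ∈ R.B from
        mul_mem (R.Upos_le_B hu.1) (R.H_le_B hh.1))) (Subgroup.mem_sup_right (show _ ∈ R.N from
          mul_mem (R.H_le_N hh₀) (R.nw_mem_N l₀)))) (Subgroup.mem_sup_left (R.Upos_le_B hc.1))
  conj_mem n hn t ht := by
    rw [Subgroup.mem_subgroupOf] at hn ⊢
    have hH : (t : Γ) ∈ R.H := by rw [← R.B_inf_N]; exact Subgroup.mem_inf.2 ⟨ht.1, ht.2⟩
    exact R.H_le_B (R.conj_H_mem hn hH)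
  subset := by
    rintro _ rfl
    exact mul_mem (R.H_le_N hh₀) (R.nw_mem_N l₀)
  sq_mem := by
    rintro _ rfl
    have k := h1.sq_mem
    show h₀ * R.nw l₀ * (h₀ * R.nw l₀) ∈ R.B
    rw [show h₀ * R.nw l₀ * (h₀ * R.nw l₀) =
      h₀ * (R.nw l₀ * h₀ * (R.nw l₀)⁻¹) * (R.nw l₀ * R.nw l₀) by group]
    exact R.H_le_B (mul_mem (mul_mem hh₀ (R.nw_conj_H l₀ hh₀)) k)
  inj := by rintro _ rfl _ rfl _; rfl
  closure_sup := by
    refine le_antisymm (sup_le ((Subgroup.closure_le _).2 ?_) inf_le_right) ?_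
    · rintro _ rfl
      exact mul_mem (R.H_le_N hh₀) (R.nw_mem_N l₀)
    rintro ⟨g, hg⟩ hgN
    rcases h1.form' hh₀ hm hg with ⟨u, hu, h, hh, e⟩ | ⟨u, hu, h, hh, c, hc, e⟩
    · exact Subgroup.mem_sup_right
        ⟨show g ∈ R.B from e ▸ mul_mem (R.Upos_le_B hu.1) (R.H_le_B hh.1), hgN⟩
    · obtain ⟨k, hk, l, hl⟩ := R.mem_N_iff.1 (show g ∈ R.N from hgN)
      obtain ⟨j, hj, ej⟩ := exists_H_of_doubleCoset (l := l) (l' := l₀) (b := k) (b' := 1)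
        (c := u * h * h₀) (c' := c) (R.H_le_B hk) (one_mem _)
        (mul_mem (mul_mem (R.Upos_le_B hu.1) (R.H_le_B hh.1)) (R.H_le_B hh₀)) (R.Upos_le_B hc.1)
        (by rw [mul_one, ← hl, e]; group)
      have hgH : g * (h₀ * R.nw l₀)⁻¹ ∈ σ.H1 := by
        refine ⟨?_, mul_mem hg (inv_mem hm)⟩
        rw [hl, ej, show k * R.nw l * (h₀ * (j * R.nw l))⁻¹ = k * j⁻¹ * h₀⁻¹ by group]
        exact mul_mem (mul_mem hk (inv_mem hj)) (inv_mem hh₀)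
      have e' : (⟨g, hg⟩ : σ.fix) = ⟨_, hgH.2⟩ * ⟨_, hm⟩ :=
        Subtype.ext (by show g = g * (h₀ * R.nw l₀)⁻¹ * (h₀ * R.nw l₀); group)
      rw [e']
      exact mul_mem (Subgroup.mem_sup_right (Subgroup.mem_inf.2 ⟨R.H_le_B hgH.1, R.H_le_N hgH.1⟩))
        (Subgroup.mem_sup_left (Subgroup.subset_closure rfl))
  mul_mem_union := by
    rintro _ rfl ⟨n, hnf⟩ hn ⟨b, hbf⟩ hb
    simp only [Subgroup.mem_subgroupOf] at hn hb
    simp only [DoubleCoset.mem_doubleCoset, Set.mem_union]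
    have hform := h1.form' hh₀ hm (mul_mem (mul_mem hm hbf) hnf)
    rcases h1.form' hh₀ hm hnf with ⟨u, hu, h, hh, e⟩ | ⟨u, hu, h, hh, c, hc, e⟩
    · left
      refine ⟨1, one_mem _, ⟨n⁻¹ * b * n, mul_mem (mul_mem (inv_mem hnf) hbf) hnf⟩, ?_, Subtype.ext (by
        simp only [Subgroup.coe_mul, OneMemClass.coe_one]; group)⟩
      have hnB : n ∈ R.B := e ▸ mul_mem (R.Upos_le_B hu.1) (R.H_le_B hh.1)
      exact mul_mem (mul_mem (inv_mem hnB) hb) hnB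
    · rcases hform with ⟨u', hu', h', hh', e'⟩ | ⟨u', hu', h', hh', c', hc', e'⟩
      · left
        have hsn : h₀ * R.nw l₀ * n ∈ R.B := by
          obtain ⟨k, hk, l, hl⟩ := R.mem_N_iff.1 hn
          obtain ⟨j, hj, ej⟩ := exists_H_of_doubleCoset (l := l) (l' := l₀) (b := k) (b' := 1)
            (c := u * h * h₀) (c' := c) (R.H_le_B hk) (one_mem _)
            (mul_mem (mul_mem (R.Upos_le_B hu.1) (R.H_le_B hh.1)) (R.H_le_B hh₀)) (R.Upos_le_B hc.1)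
            (by rw [mul_one, ← hl, e]; group)
          have k2 := h1.sq_mem
          rw [hl, show R.nw l = j⁻¹ * R.nw l₀ by rw [ej]; group,
            show h₀ * R.nw l₀ * (k * (j⁻¹ * R.nw l₀)) =
              h₀ * (R.nw l₀ * (k * j⁻¹) * (R.nw l₀)⁻¹) * (R.nw l₀ * R.nw l₀) by group]
          exact R.H_le_B (mul_mem (mul_mem hh₀ (R.nw_conj_H l₀ (mul_mem hk (inv_mem hj)))) k2)
        refine ⟨⟨(h₀ * R.nw l₀ * b * n) * (h₀ * R.nw l₀ * n)⁻¹,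
          mul_mem (mul_mem (mul_mem hm hbf) hnf) (inv_mem (mul_mem hm hnf))⟩, ?_, 1, one_mem _, Subtype.ext (by
          simp only [Subgroup.coe_mul, OneMemClass.coe_one]; group)⟩
        exact mul_mem (e' ▸ mul_mem (R.Upos_le_B hu'.1) (R.H_le_B hh'.1)) (inv_mem hsn)
      · right
        refine ⟨⟨u' * h' * h⁻¹ * u⁻¹, mul_mem (mul_mem (mul_mem hu'.2 hh'.2) (inv_mem hh.2)) (inv_mem hu.2)⟩, ?_,
          ⟨c⁻¹ * c', mul_mem (inv_mem hc.2) hc'.2⟩, ?_, Subtype.ext ?_⟩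
        · exact mul_mem (mul_mem (mul_mem (R.Upos_le_B hu'.1) (R.H_le_B hh'.1)) (R.H_le_B (inv_mem hh.1)))
            (R.Upos_le_B (inv_mem hu.1))
        · exact R.Upos_le_B (mul_mem (inv_mem hc.1) hc'.1)
        · show h₀ * R.nw l₀ * b * n = u' * h' * h⁻¹ * u⁻¹ * n * (c⁻¹ * c')
          rw [e', e]
          group
  conj_ne := by
    rintro _ rfl h
    obtain ⟨x, hx, hx1⟩ := hne
    set n := R.nw l₀
    have hm2 : h₀ * n * (h₀ * n) ∈ R.B := by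
      rw [show h₀ * n * (h₀ * n) = h₀ * (n * h₀ * n⁻¹) * (n * n) by group]
      exact R.H_le_B (mul_mem (mul_mem hh₀ (R.nw_conj_H l₀ hh₀)) h1.sq_mem)
    have h2 : (⟨h₀ * n, hm⟩ : σ.fix) * ⟨x * (h₀ * n * (h₀ * n))⁻¹, mul_mem hx.2 (inv_mem (mul_mem hm hm))⟩ *
        ⟨h₀ * n, hm⟩ ∈ (R.B.subgroupOf σ.fix : Set σ.fix) :=
      h ▸ Set.mem_image_of_mem _ (show (⟨x * (h₀ * n * (h₀ * n))⁻¹, mul_mem hx.2 (inv_mem (mul_mem hm hm))⟩ : σ.fix) ∈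
          (R.B.subgroupOf σ.fix : Set σ.fix) from mul_mem (R.Upos_le_B hx.1) (inv_mem hm2))
    have h3 : h₀ * (n * x * n⁻¹) * h₀⁻¹ ∈ R.B := by
      have h2' : h₀ * n * (x * (h₀ * n * (h₀ * n))⁻¹) * (h₀ * n) ∈ R.B := h2
      rwa [show h₀ * n * (x * (h₀ * n * (h₀ * n))⁻¹) * (h₀ * n) = h₀ * (n * x * n⁻¹) * h₀⁻¹ by group] at h2'
    have h4 : h₀ * (n * x * n⁻¹) * h₀⁻¹ ∈ R.B ⊓ R.Vneg :=
      Subgroup.mem_inf.2 ⟨h3, R.H_conj_span {s | ¬ R.pos s} hh₀ _ (h1.conj_Upos hx.1)⟩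
    rw [show R.B ⊓ R.Vneg = ⊥ from R.B_inf_V, Subgroup.mem_bot, conj_eq_one_iff, conj_eq_one_iff] at h4
    exact hx1 h4

end RankOne

end Cfsg.Agent.Twisted
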