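/-
Twisted groups, part 16: products of root subgroups over closed lists of roots, and their fixed parts.

* `sp`                    : the product of the root subgroups of a list of roots.
* `ClosedL`, `NormL`      : decidable table conditions.
* `card_sp`, `conj_sp`, `exists_split`, `split_unique`;
* `fix_split`, `card_fix_split` : fixed parts of a product decomposition.
-/
import Cfsg.Agent.Lib.Twisted.Fixed
import Cfsg.Agent.Lib.ChevBN.Instance
import Cfsg.Agent.Lib.ChevOrder.CardU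

set_option autoImplicit false

namespace Cfsg.Agent.Twisted

open Cfsg.Lie Cfsg.Lie.ChevalleyDatum
open Cfsg.Agent.Chev Cfsg.Agent.ChevBN Cfsg.Agent.ChevSt

variable {D : ChevalleyDatum} {M : List (List ℤ)} {d : ℤ}

/-- A list of positive roots closed under commutator terms. -/
def ClosedL (D : ChevalleyDatum) (L : List ℕ) : Prop :=
  L.Nodup ∧ (∀ r ∈ L, r < D.nroots ∧ D.IsPosRoot r) ∧
    ∀ r ∈ L, ∀ s ∈ L, s ≠ r → ∀ τ ∈ D.commTerms r s, τ.1 ∈ L

/-- The roots of `A` send those of `B` to `B`. -/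
def NormL (D : ChevalleyDatum) (A B : List ℕ) : Prop :=
  ∀ r ∈ A, ∀ s ∈ B, r < D.nroots ∧ s < D.nroots ∧ s ≠ r ∧ s ≠ D.neg r ∧
    ∀ τ ∈ D.commTerms r s, τ.1 < D.nroots ∧ τ.1 ∈ B

variable (hD : Good D) (hR : Roots D M d) (K : Type*) [Field K]

/-- The product of the root subgroups of a list of roots. -/
def sp (L : List ℕ) : Subgroup (GL D.Idx K) := (chevRGD hD hR K).span {r | r.val ∈ L}

variable {K}

theorem xg_mem_sp {L : List ℕ} {r : ℕ} (hr : r < D.nroots) (h : r ∈ L) (t : K) :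
    xg hD K r t ∈ sp hD hR K L :=
  (chevRGD hD hR K).U_le_span (r := ⟨r, hr⟩) h (xg_mem_rootSubgroup hD r t)

theorem sp_le {L : List ℕ} {P : Subgroup (GL D.Idx K)}
    (h : ∀ r ∈ L, r < D.nroots → ∀ t, xg hD K r t ∈ P) : sp hD hR K L ≤ P :=
  (chevRGD hD hR K).span_le fun r hr x hx => by
    obtain ⟨t, rfl⟩ := (mem_rootSubgroup hD r.val).1 hx
    exact h r.val hr r.isLt t

theorem sp_mono {A B : List ℕ} (h : A ⊆ B) : sp hD hR K A ≤ sp hD hR K B :=
  sp_le hD hR fun _ hr hlt t => xg_mem_sp hD hR hlt (h hr) t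

theorem sp_congr {A B : List ℕ} (h : ∀ r, r ∈ A ↔ r ∈ B) : sp hD hR K A = sp hD hR K B :=
  le_antisymm (sp_mono hD hR fun r => (h r).1) (sp_mono hD hR fun r => (h r).2)

theorem sp_nil : sp hD hR K [] = ⊥ := le_bot_iff.1 (sp_le hD hR fun _ hr => by simp at hr)

theorem sp_append (A B : List ℕ) : sp hD hR K (A ++ B) = sp hD hR K A ⊔ sp hD hR K B :=
  le_antisymm (sp_le hD hR fun r hr hlt t => by
    rcases List.mem_append.1 hr with h | h
    · exact Subgroup.mem_sup_left (xg_mem_sp hD hR hlt h t)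
    · exact Subgroup.mem_sup_right (xg_mem_sp hD hR hlt h t))
    (sup_le (sp_mono hD hR (List.subset_append_left A B)) (sp_mono hD hR (List.subset_append_right A B)))

theorem sp_singleton {r : ℕ} {g : GL D.Idx K} (hg : g ∈ sp hD hR K [r]) : ∃ t, g = xg hD K r t := by
  have h : sp hD hR K [r] ≤ D.rootSubgroup K r := sp_le hD hR fun s hs hlt t => by
    rw [List.mem_singleton] at hs
    subst hs
    exact xg_mem_rootSubgroup hD s t
  exact (mem_rootSubgroup hD r).1 (h hg)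

theorem card_sp {L : List ℕ} (hL : ClosedL D L) :
    Nat.card (sp hD hR K L) = Nat.card K ^ L.length := by
  classical
  obtain ⟨hnd, hpos, hcl⟩ := hL
  have e : sp hD hR K L = (ChevOrder.matSys D hD K).genBy (L.toFinset : Set ℕ) := by
    refine le_antisymm (sp_le hD hR fun r hr _ t => Subgroup.subset_closure ⟨r, by simpa using hr, t, rfl⟩)
      ((Subgroup.closure_le _).2 ?_)
    rintro g ⟨r, hr, t, rfl⟩
    simp only [List.coe_toFinset, Set.mem_setOf_eq] at hr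
    exact xg_mem_sp hD hR (hpos r hr).1 hr t
  rw [e, ChevOrder.card_genBy _ hD (isLin_ht hD M) L.toFinset.card L.toFinset rfl,
    List.toFinset_card_of_nodup hnd]
  · exact fun q hq => ⟨(hpos q (List.mem_toFinset.1 hq)).1,
      hR.ht_pos q (hpos q (List.mem_toFinset.1 hq)).1 (hpos q (List.mem_toFinset.1 hq)).2⟩
  · exact fun r hr s hs hne τ hτ =>
      List.mem_toFinset.2 (hcl r (List.mem_toFinset.1 hr) s (List.mem_toFinset.1 hs) hne τ hτ)

theorem xg_conj_mem {A B : List ℕ} (h : NormL D A B) {r s : ℕ} (hr : r ∈ A) (hs : s ∈ B) (t u : K) :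
    xg hD K r t * xg hD K s u * (xg hD K r t)⁻¹ ∈ sp hD hR K B := by
  obtain ⟨hr', hs', h1, h2, hc⟩ := h r hr s hs
  set w : List (GL D.Idx K) := (D.commWord K r s (-t) u).map fun p => xg hD K p.1 p.2 with hw
  have e : xg hD K r t * xg hD K s u * (xg hD K r t)⁻¹ = xg hD K s u * w.prod := by
    rw [xg_inv, mul_assoc]
    have hc' : xg hD K s u * xg hD K r (-t) = xg hD K r (-t) * xg hD K s u * w.prod := by
      apply Units.ext
      rw [Units.val_mul, Units.val_mul, Units.val_mul, coe_xg, coe_xg,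
        hD.commutator hr' hs' h1 h2, ← Units.coeHom_apply w.prod, map_list_prod, hw, List.map_map]
      rfl
    rw [hc', ← mul_assoc, ← mul_assoc, xg_add hD hr', add_neg_cancel, xg_zero, one_mul]
  rw [e]
  refine mul_mem (xg_mem_sp hD hR hs' hs u) (list_prod_mem fun g hg => ?_)
  simp only [hw, ChevalleyDatum.commWord, List.map_map, List.mem_map, Function.comp_apply] at hg
  obtain ⟨τ, hτ, rfl⟩ := hg
  exact xg_mem_sp hD hR (hc τ hτ).1 (hc τ hτ).2 _

theorem conj_sp {A B : List ℕ} (h : NormL D A B) {x y : GL D.Idx K} (hx : x ∈ sp hD hR K A)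
    (hy : y ∈ sp hD hR K B) : x * y * x⁻¹ ∈ sp hD hR K B ∧ x⁻¹ * y * x ∈ sp hD hR K B := by
  let P : Subgroup (GL D.Idx K) :=
    { carrier := {x | ∀ y ∈ sp hD hR K B, x * y * x⁻¹ ∈ sp hD hR K B ∧ x⁻¹ * y * x ∈ sp hD hR K B}
      one_mem' := fun y hy => by simpa using hy
      mul_mem' := fun {a b} ha hb y hy => by
        constructor
        · have := (ha _ (hb y hy).1).1; simpa [mul_assoc] using this
        · have := (hb _ (ha y hy).2).2; simpa [mul_assoc] using this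
      inv_mem' := fun {a} ha y hy => by
        simpa [and_comm] using ha y hy }
  refine (sp_le hD hR (P := P) (fun r hr _ t y hy => ?_) hx) y hy
  have key : ∀ t : K, xg hD K r t * y * (xg hD K r t)⁻¹ ∈ sp hD hR K B := fun t =>
    (chevRGD hD hR K).span_conj (fun s hs z hz => by
      obtain ⟨u, rfl⟩ := (mem_rootSubgroup hD _).1 hz
      exact xg_conj_mem hD hR h hr hs t u) y hy
  refine ⟨key t, ?_⟩
  simpa [xg_inv] using key (-t)

theorem exists_split {A B : List ℕ} (h : NormL D A B) {g : GL D.Idx K} (hg : g ∈ sp hD hR K (A ++ B)) :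
    ∃ a ∈ sp hD hR K A, ∃ b ∈ sp hD hR K B, g = a * b := by
  rw [sp_append, sup_comm] at hg
  obtain ⟨b, hb, a, ha, rfl⟩ := RGD.exists_mul_of_mem_sup (fun x hx y hy => (conj_sp hD hR h hx hy).1) hg
  exact ⟨a, ha, a⁻¹ * b * a, (conj_sp hD hR h ha hb).2, by group⟩

/-- `A ++ B` is a product decomposition. -/
def Splits (A B : List ℕ) : Prop :=
  ∀ g ∈ sp hD hR K (A ++ B), ∃ a ∈ sp hD hR K A, ∃ b ∈ sp hD hR K B, g = a * b

theorem split_unique [Finite K] {A B : List ℕ} (hA : ClosedL D A) (hB : ClosedL D B) (hAB : ClosedL D (A ++ B))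
    (hs : Splits hD hR (K := K) A B) {a a' b b' : GL D.Idx K} (ha : a ∈ sp hD hR K A) (ha' : a' ∈ sp hD hR K A)
    (hb : b ∈ sp hD hR K B) (hb' : b' ∈ sp hD hR K B) (e : a * b = a' * b') : a = a' ∧ b = b' := by
  classical
  haveI : Fintype K := Fintype.ofFinite K
  let f : sp hD hR K A × sp hD hR K B → sp hD hR K (A ++ B) := fun p =>
    ⟨p.1 * p.2, mul_mem (sp_mono hD hR (List.subset_append_left A B) p.1.2)
      (sp_mono hD hR (List.subset_append_right A B) p.2.2)⟩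
  have hf : Function.Bijective f := by
    refine (Nat.bijective_iff_surjective_and_card f).2 ⟨?_, ?_⟩
    · rintro ⟨g, hg⟩
      obtain ⟨a, ha, b, hb, rfl⟩ := hs g hg
      exact ⟨(⟨a, ha⟩, ⟨b, hb⟩), rfl⟩
    · rw [Nat.card_prod, card_sp hD hR hA, card_sp hD hR hB, card_sp hD hR hAB, List.length_append, pow_add]
  have := hf.1 (show f (⟨a, ha⟩, ⟨b, hb⟩) = f (⟨a', ha'⟩, ⟨b', hb'⟩) from Subtype.ext e)
  simp only [Prod.mk.injEq, Subtype.mk.injEq] at this
  exact this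

theorem borel_le_group' {L : List ℕ} (h : ∀ r ∈ L, r < D.nroots ∧ D.IsPosRoot r) :
    sp hD hR K L ≤ (chevRGD hD hR K).G :=
  ((chevRGD hD hR K).span_mono fun r hr => (h r.val hr).2).trans
    ((chevRGD hD hR K).Upos_le_B.trans (chevRGD hD hR K).B_le_G)

section Fixed

variable (σ : Fold (chevRGD hD hR K)) {f : ℕ → ℕ} (hf : ∀ r : Fin D.nroots, (σ.rho r).val = f r.val)
include hf

theorem s_mem_sp {L : List ℕ} (hL : ClosedL D L) (hst : ∀ r ∈ L, f r ∈ L) {x : GL D.Idx K}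
    (hx : x ∈ sp hD hR K L) : σ.s x ∈ sp hD hR K L :=
  σ.s_span (A := {r | r.val ∈ L}) (fun r hr => ⟨(hL.2.1 r.val hr).2, by
    show (σ.rho r).val ∈ L
    rw [hf]; exact hst r.val hr⟩) hx

theorem fix_split [Finite K] {A B : List ℕ} (hA : ClosedL D A) (hB : ClosedL D B) (hAB : ClosedL D (A ++ B))
    (hsA : ∀ r ∈ A, f r ∈ A) (hsB : ∀ r ∈ B, f r ∈ B) (hs : Splits hD hR (K := K) A B) {g : GL D.Idx K}
    (hg : g ∈ sp hD hR K (A ++ B) ⊓ σ.fix) :
    ∃ a ∈ sp hD hR K A ⊓ σ.fix, ∃ b ∈ sp hD hR K B ⊓ σ.fix, g = a * b := by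
  obtain ⟨hg1, hg2⟩ := Subgroup.mem_inf.1 hg
  obtain ⟨a, ha, b, hb, rfl⟩ := hs g hg1
  have hGa := borel_le_group' hD hR hA.2.1 ha
  have hGb := borel_le_group' hD hR hB.2.1 hb
  have e : σ.s a * σ.s b = a * b := by rw [← σ.s_mul a hGa b hGb]; exact hg2.2
  obtain ⟨ea, eb⟩ := split_unique hD hR hA hB hAB hs (s_mem_sp hD hR σ hf hA hsA ha) ha
    (s_mem_sp hD hR σ hf hB hsB hb) hb e
  exact ⟨a, ⟨ha, hGa, ea⟩, b, ⟨hb, hGb, eb⟩, rfl⟩

theorem card_fix_split [Finite K] {A B : List ℕ} (hA : ClosedL D A) (hB : ClosedL D B)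
    (hAB : ClosedL D (A ++ B)) (hsA : ∀ r ∈ A, f r ∈ A) (hsB : ∀ r ∈ B, f r ∈ B)
    (hs : Splits hD hR (K := K) A B) :
    Nat.card ↥(sp hD hR K (A ++ B) ⊓ σ.fix) =
      Nat.card ↥(sp hD hR K A ⊓ σ.fix) * Nat.card ↥(sp hD hR K B ⊓ σ.fix) := by
  rw [← Nat.card_prod]
  refine (Nat.card_congr (Equiv.ofBijective
    (fun p : ↥(sp hD hR K A ⊓ σ.fix) × ↥(sp hD hR K B ⊓ σ.fix) =>
      (⟨p.1 * p.2, ⟨mul_mem (sp_mono hD hR (List.subset_append_left A B) p.1.2.1)
        (sp_mono hD hR (List.subset_append_right A B) p.2.2.1), mul_mem p.1.2.2 p.2.2.2⟩⟩ :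
        ↥(sp hD hR K (A ++ B) ⊓ σ.fix))) ⟨?_, ?_⟩)).symm
  · rintro ⟨a, b⟩ ⟨a', b'⟩ e
    obtain ⟨ea, eb⟩ := split_unique hD hR hA hB hAB hs a.2.1 a'.2.1 b.2.1 b'.2.1 (congrArg Subtype.val e)
    rw [Subtype.ext ea, Subtype.ext eb]
  · rintro ⟨g, hg⟩
    obtain ⟨a, ha, b, hb, rfl⟩ := fix_split hD hR σ hf hA hB hAB hsA hsB hs hg
    exact ⟨(⟨a, ha⟩, ⟨b, hb⟩), rfl⟩

end Fixed

end Cfsg.Agent.Twisted
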