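/-
Twisted groups, part 18: the 16 root classes of ²F₄ and their table conditions.

* `cls j` (j < 16): the classes in radial order, `cls (j + 8) = - cls j`; `seg a b` a segment of positive classes.
* `W i`, `ew l`, `wcl i`: the fundamental reflections of the dihedral group of order 16.
-/
import Cfsg.Agent.Lib.Twisted.Span
import Cfsg.Agent.Lib.Twisted.Sigma
import Cfsg.Agent.Lib.Twisted.Data
import Cfsg.Agent.Lib.ChevBN.RootTables
import Cfsg.Agent.Lib.Chev.DataF4

set_option autoImplicit false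
set_option maxRecDepth 100000
set_option synthInstance.maxSize 4000

namespace Cfsg.Agent.Twisted.F4

open Cfsg.Lie Cfsg.Lie.ChevalleyDatum
open Cfsg.Agent.Chev Cfsg.Agent.ChevBN

/-- The classes of roots. -/
def cls (j : ℕ) : List ℕ :=
  [[33, 24], [34, 26, 36, 42], [38, 43], [29, 41, 44, 47], [39, 45], [35, 31, 40, 46], [37, 32], [27, 25, 28, 30],
    [14, 23], [13, 21, 11, 5], [9, 4], [18, 6, 3, 0], [8, 2], [12, 16, 7, 1], [10, 15], [20, 22, 19, 17]].getD j []

/-- A segment of classes. -/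
def seg (a b : ℕ) : List ℕ := (List.range' a (b - a)).flatMap cls

/-- The words of the fundamental reflections of the twisted group. -/
def W (i : Fin 2) : List (Fin chevF4.rank) :=
  if i = 0 then [(0 : Fin 4), (3 : Fin 4)] else [(1 : Fin 4), (2 : Fin 4), (1 : Fin 4), (2 : Fin 4)]

/-- A word of the twisted Weyl group as a word of the Weyl group. -/
def ew (l : List (Fin 2)) : List (Fin chevF4.rank) := l.flatMap W

/-- The action on classes. -/
def wcl (i : Fin 2) (j : Fin 16) : Fin 16 := if i = 0 then 8 - j else 6 - j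

theorem foldF4 : FoldOK halfF4 2 where
  rho_neg := by decide +kernel
  lam_neg := by decide +kernel
  lam_cases := by decide +kernel
  rho_pos := by decide +kernel
  rho_simple := by decide +kernel
  rho_refl := by decide +kernel

theorem cls_spec : ∀ j < 16, ∀ r ∈ cls j,
    r < chevF4.nroots ∧ halfF4.rho r ∈ cls j ∧ (chevF4.IsPosRoot r ↔ j < 8) := by
  decide +kernel

theorem cls_cover : ∀ r < chevF4.nroots, ∃ j < 16, r ∈ cls j := by decide +kernel

theorem cls_w : ∀ i : Fin 2, ∀ j : Fin 16, ∀ r ∈ cls j.val,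
    wwN chevF4 (W i) r ∈ cls (wcl i j).val := by
  decide +kernel

theorem W_sq : ∀ i : Fin 2, ∀ r < chevF4.nroots, wwN chevF4 (W i ++ W i) r = r := by decide +kernel

theorem W_rev : ∀ i : Fin 2, ∀ r < chevF4.nroots,
    wwN chevF4 ((W i).map revI) r = wwN chevF4 (W i) r := by
  decide +kernel

theorem seg_closed : ∀ b ≤ 8, ∀ a ≤ b, ClosedL chevF4 (seg a b) := by
  unfold ClosedL; decide +kernel

theorem seg_norm : ∀ b ≤ 8, ∀ a < b, NormL chevF4 (cls a) (seg (a + 1) b) := by
  unfold NormL; decide +kernel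

theorem last_norm : NormL chevF4 (cls 7) (seg 0 7) := by unfold NormL; decide +kernel

theorem seg_cons : ∀ b ≤ 8, ∀ a < b, seg a b = cls a ++ seg (a + 1) b := by decide +kernel

theorem seg_split : ∀ c ≤ 8, ∀ b ≤ c, ∀ a ≤ b, seg a c = seg a b ++ seg b c := by decide +kernel

theorem seg_self : ∀ a, seg a a = [] := fun a => by simp [seg]

theorem seg_one : ∀ a < 8, seg a (a + 1) = cls a := by decide +kernel

theorem seg_all : ∀ r < chevF4.nroots, chevF4.IsPosRoot r ↔ r ∈ seg 0 8 := by decide +kernel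

theorem seg_rho : ∀ b ≤ 8, ∀ a ≤ b, ∀ r ∈ seg a b, halfF4.rho r ∈ seg a b := by decide +kernel

theorem b2_closed : ClosedL chevF4 [27] ∧ ClosedL chevF4 [25] ∧ ClosedL chevF4 [28] ∧ ClosedL chevF4 [30] ∧
    ClosedL chevF4 [28, 30] ∧ ClosedL chevF4 [25, 28, 30] ∧ ClosedL chevF4 [27, 25, 28, 30] ∧
    ClosedL chevF4 [33] ∧ ClosedL chevF4 [24] ∧ ClosedL chevF4 [33, 24] := by
  unfold ClosedL; decide +kernel

theorem b2_norm : NormL chevF4 [27] [25, 28, 30] ∧ NormL chevF4 [25] [28, 30] ∧ NormL chevF4 [28] [30] ∧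
    NormL chevF4 [33] [24] := by
  unfold NormL; decide +kernel

end Cfsg.Agent.Twisted.F4
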