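/-
Twisted groups, part 19: fixed parts of the classes and segments of ²F₄.

* `σF`, `X j` (the fixed part of a class), `n' l` (fixed representatives);
* `mem_X0_iff`, `mem_X7_iff`, `mem_X8_iff`, `mem_X15_iff`;
* `card_X`, `seg_fix_le`, `card_seg_fix`.
-/
import Cfsg.Agent.Lib.Twisted.F4Tables
import Cfsg.Agent.Lib.Twisted.CharTwo
import Cfsg.Prelude.Def_LieTwisted

set_option autoImplicit false
set_option maxRecDepth 10000
set_option linter.unusedSectionVars false

namespace Cfsg.Agent.Twisted.F4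

open Cfsg.Lie Cfsg.Lie.ChevalleyDatum Matrix
open Cfsg.Agent.Chev Cfsg.Agent.ChevBN

/-- The root group data of F₄. -/
noncomputable abbrev RF (K : Type*) [Field K] : RGD.RootData (GL chevF4.Idx K) (Fin chevF4.nroots) (Fin chevF4.rank) :=
  chevRGD DataF4.good rootsF4 K

/-- σ. -/
noncomputable abbrev σF (K : Type*) [Field K] [CharP K 2] (m : ℕ) : Fold (RF K) :=
  chevFold halfF4_ok foldF4 DataF4.good K m rootsF4

/-- x_r(t). -/
abbrev xF (K : Type*) [Field K] (r : ℕ) (t : K) : GL chevF4.Idx K := xg DataF4.good K r t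

/-- The product of the root subgroups of a list. -/
noncomputable abbrev spF (K : Type*) [Field K] (L : List ℕ) : Subgroup (GL chevF4.Idx K) :=
  sp DataF4.good rootsF4 K L

/-- The fixed part of a class. -/
noncomputable def X (K : Type*) [Field K] [CharP K 2] (m : ℕ) (j : Fin 16) : Subgroup (GL chevF4.Idx K) :=
  spF K (cls j.val) ⊓ (σF K m).fix

variable {K : Type*} [Field K] [CharP K 2] {m : ℕ}

/-! ### Representatives -/

theorem σ_rho (r : Fin chevF4.nroots) : ((σF K m).rho r).val = halfF4.rho r.val := rfl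

theorem nW_fixed (i : Fin 2) : (RF K).nw (W i) ∈ (σF K m).fix := by
  refine ⟨(RF K).N_le_G ((RF K).nw_mem_N _), ?_⟩
  rw [Fold.s_nw]
  exact nw_eq_of_wwN DataF4.good rootsF4 (W_rev i)

theorem ew_cons (i : Fin 2) (l : List (Fin 2)) : ew (i :: l) = W i ++ ew l := rfl

theorem nw_ew_fixed (l : List (Fin 2)) : (RF K).nw (ew l) ∈ (σF K m).fix := by
  induction l with
  | nil => exact one_mem _
  | cons i l ih => rw [ew_cons, RGD.RootData.nw_append]; exact mul_mem (nW_fixed i) ih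

theorem nW_sq (i : Fin 2) : (RF K).nw (W i) * (RF K).nw (W i) = 1 := by
  rw [← RGD.RootData.nw_append]
  exact nw_eq_of_wwN DataF4.good rootsF4 (l' := []) (fun s hs => W_sq i s hs)

theorem nW_inv (i : Fin 2) : ((RF K).nw (W i))⁻¹ = (RF K).nw (W i) :=
  inv_eq_of_mul_eq_one_right (nW_sq i)

theorem nW_conj_sp (i : Fin 2) {A B : List ℕ} (h : ∀ r ∈ A, wwN chevF4 (W i) r ∈ B) {x : GL chevF4.Idx K}
    (hx : x ∈ spF K A) : (RF K).nw (W i) * x * ((RF K).nw (W i))⁻¹ ∈ spF K B := by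
  refine (RF K).span_conj (A' := {r | r.val ∈ B}) (fun r hr z hz => ?_) x hx
  obtain ⟨u, rfl⟩ := (mem_rootSubgroup DataF4.good _).1 hz
  rw [nw_conj_xg DataF4.good rootsF4 (W i) r.isLt]
  exact xg_mem_sp DataF4.good rootsF4 (wwN_lt DataF4.good _ r.isLt) (h r.val hr) u

theorem nW_conj_X (i : Fin 2) (j : Fin 16) {x : GL chevF4.Idx K} (hx : x ∈ X K m j) :
    (RF K).nw (W i) * x * ((RF K).nw (W i))⁻¹ ∈ X K m (wcl i j) :=
  Subgroup.mem_inf.2 ⟨nW_conj_sp i (cls_w i j) (Subgroup.mem_inf.1 hx).1,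
    mul_mem (mul_mem (nW_fixed i) (Subgroup.mem_inf.1 hx).2) (inv_mem (nW_fixed i))⟩

theorem wcl_wcl : ∀ i : Fin 2, ∀ j : Fin 16, wcl i (wcl i j) = j := by decide

theorem map_conj_X (i : Fin 2) (j : Fin 16) :
    (X K m j).map (MulAut.conj ((RF K).nw (W i))).toMonoidHom = X K m (wcl i j) :=
  RGD.RootData.map_conj_eq _ (fun _ hx => nW_conj_X i j hx) fun y hy => by
    have := nW_conj_X i _ hy
    rw [wcl_wcl, nW_inv] at this
    rwa [nW_inv]

/-! ### The four generating classes -/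

section Coord

variable [Fintype K] (hK : Fintype.card K = 2 ^ (2 * m + 1))
include hK

theorem pow_e_e (x : K) : (x ^ 2 ^ m) ^ (2 * 2 ^ m) = x := by
  rw [← pow_mul, show 2 ^ m * (2 * 2 ^ m) = Fintype.card K by rw [hK]; ring, FiniteField.pow_card]

theorem sg_xF {r : ℕ} (hr : r < chevF4.nroots) (t : K) :
    (σF K m).s (xF K r t) = xF K (halfF4.rho r) (t ^ (2 ^ m * halfF4.lam r)) :=
  sg_xg halfF4_ok DataF4.good K m hr t

theorem exists_pair_coord {g : GL chevF4.Idx K} (hg : g ∈ spF K [33, 24]) :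
    ∃ a b, g = xF K 33 a * xF K 24 b := by
  obtain ⟨x, hx, y, hy, rfl⟩ := exists_split DataF4.good rootsF4 b2_norm.2.2.2 (A := [33]) (B := [24]) hg
  obtain ⟨a, rfl⟩ := sp_singleton DataF4.good rootsF4 hx
  obtain ⟨b, rfl⟩ := sp_singleton DataF4.good rootsF4 hy
  exact ⟨a, b, rfl⟩

theorem pair_unique {a b a' b' : K} (h : xF K 33 a * xF K 24 b = xF K 33 a' * xF K 24 b') :
    a = a' ∧ b = b' := by
  obtain ⟨h1, h2⟩ := split_unique DataF4.good rootsF4 b2_closed.2.2.2.2.2.2.2.1 b2_closed.2.2.2.2.2.2.2.2.1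
    b2_closed.2.2.2.2.2.2.2.2.2 (fun g hg => exists_split DataF4.good rootsF4 b2_norm.2.2.2 hg)
    (xg_mem_sp _ _ (by decide) (by simp) a) (xg_mem_sp _ _ (by decide) (by simp) a')
    (xg_mem_sp _ _ (by decide) (by simp) b) (xg_mem_sp _ _ (by decide) (by simp) b') h
  exact ⟨xg_inj' h1 (by decide), xg_inj' h2 (by decide)⟩
where
  xg_inj' {r : ℕ} {s t : K} (h : xF K r s = xF K r t) (hr : r < chevF4.nroots) : s = t := by
    have h' : xF K r (s - t) = 1 := by
      show xg DataF4.good K r (s - t) = 1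
      rw [sub_eq_add_neg, ← xg_add DataF4.good hr, ← xg_inv]
      exact mul_inv_eq_one.2 h
    exact sub_eq_zero.1 (xg_eq_one DataF4.good hr h')

theorem comm_free' {r s : ℕ} (hr : r < 48) (hs : s < 48) (h₁ : s ≠ r) (h₂ : s ≠ chevF4.neg r)
    (h : chevF4.commTerms r s = []) (t u : K) : xF K s u * xF K r t = xF K r t * xF K s u := by
  apply Units.ext
  rw [Units.val_mul, Units.val_mul, coe_xg, coe_xg, DataF4.good.commutator hr hs h₁ h₂,
    ChevalleyDatum.commWord, h]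
  simp [ChevalleyDatum.wordMat]

theorem comm2725 (t u : K) :
    xF K 25 u * xF K 27 t = xF K 27 t * xF K 25 u * xF K 28 (t * u) * xF K 30 (t ^ 2 * u) := by
  apply Units.ext
  rw [Units.val_mul, Units.val_mul, Units.val_mul, Units.val_mul, coe_xg, coe_xg, coe_xg, coe_xg,
    DataF4.good.commutator (r := 27) (s := 25) (by decide) (by decide) (by decide) (by decide),
    ChevalleyDatum.commWord,
    show chevF4.commTerms 27 25 = [(28, -1, 1, 1), (30, -1, 2, 1)] by decide +kernel]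
  simp [ChevalleyDatum.wordMat, CharTwo.neg_eq, mul_assoc]

theorem mem_X0_iff {g : GL chevF4.Idx K} :
    g ∈ X K m 0 ↔ ∃ t, g = xF K 33 (t ^ 2 ^ m) * xF K 24 t := by
  have hG : ∀ a b : K, xF K 33 a * xF K 24 b ∈ spF K [33, 24] := fun a b =>
    mul_mem (xg_mem_sp _ _ (by decide) (by simp) a) (xg_mem_sp _ _ (by decide) (by simp) b)
  have hs : ∀ a b : K, (σF K m).s (xF K 33 a * xF K 24 b) =
      xF K 33 (b ^ 2 ^ m) * xF K 24 (a ^ (2 * 2 ^ m)) := by
    intro a b
    have hm : ∀ r (x : K), r ∈ [33, 24] → r < chevF4.nroots → xF K r x ∈ (RF K).G := fun r x hr hlt =>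
      borel_le_group' DataF4.good rootsF4 b2_closed.2.2.2.2.2.2.2.2.2.2.1
        (xg_mem_sp DataF4.good rootsF4 hlt hr x)
    rw [(σF K m).s_mul _ (hm _ a (by simp) (by decide)) _ (hm _ b (by simp) (by decide)),
      sg_xF hK (r := 33) (by decide), sg_xF hK (r := 24) (by decide),
      show halfF4.rho 33 = 24 from rfl, show halfF4.rho 24 = 33 from rfl, show halfF4.lam 33 = 2 from rfl,
      show halfF4.lam 24 = 1 from rfl, mul_one, mul_comm (2 ^ m) 2,
      comm_free' hK (r := 33) (s := 24) (by decide) (by decide) (by decide) (by decide) (by decide +kernel)]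
  constructor
  · rintro ⟨hg, -, hfix⟩
    obtain ⟨a, b, rfl⟩ := exists_pair_coord hK hg
    rw [hs] at hfix
    obtain ⟨ha, -⟩ := pair_unique hK hfix
    exact ⟨b, by rw [ha]⟩
  · rintro ⟨t, rfl⟩
    refine ⟨hG _ _, borel_le_group' DataF4.good rootsF4 b2_closed.2.2.2.2.2.2.2.2.2.2.1 (hG _ _), ?_⟩
    rw [hs, pow_e_e hK]

theorem exists_b2_coord {g : GL chevF4.Idx K} (hg : g ∈ spF K [27, 25, 28, 30]) :
    ∃ a b c e, g = xF K 27 a * xF K 25 b * xF K 28 c * xF K 30 e := by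
  obtain ⟨x, hx, y, hy, rfl⟩ := exists_split DataF4.good rootsF4 b2_norm.1 (A := [27]) (B := [25, 28, 30]) hg
  obtain ⟨x₂, hx₂, y₂, hy₂, rfl⟩ := exists_split DataF4.good rootsF4 b2_norm.2.1 (A := [25]) (B := [28, 30]) hy
  obtain ⟨x₃, hx₃, y₃, hy₃, rfl⟩ := exists_split DataF4.good rootsF4 b2_norm.2.2.1 (A := [28]) (B := [30]) hy₂
  obtain ⟨a, rfl⟩ := sp_singleton DataF4.good rootsF4 hx
  obtain ⟨b, rfl⟩ := sp_singleton DataF4.good rootsF4 hx₂
  obtain ⟨c, rfl⟩ := sp_singleton DataF4.good rootsF4 hx₃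
  obtain ⟨e, rfl⟩ := sp_singleton DataF4.good rootsF4 hy₃
  exact ⟨a, b, c, e, by simp only [mul_assoc]⟩

theorem b2_unique {a b c e a' b' c' e' : K}
    (h : xF K 27 a * xF K 25 b * xF K 28 c * xF K 30 e = xF K 27 a' * xF K 25 b' * xF K 28 c' * xF K 30 e') :
    a = a' ∧ b = b' ∧ c = c' ∧ e = e' := by
  have m1 : ∀ {r : ℕ} {L : List ℕ} (x : K), r < chevF4.nroots → r ∈ L → xF K r x ∈ spF K L :=
    fun x hlt hr => xg_mem_sp DataF4.good rootsF4 hlt hr x
  simp only [mul_assoc] at h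
  obtain ⟨h1, h⟩ := split_unique DataF4.good rootsF4 b2_closed.1 b2_closed.2.2.2.2.2.1 b2_closed.2.2.2.2.2.2.1
    (fun g hg => exists_split DataF4.good rootsF4 b2_norm.1 hg) (m1 a (by decide) (by simp))
    (m1 a' (by decide) (by simp))
    (mul_mem (m1 b (by decide) (by simp)) (mul_mem (m1 c (by decide) (by simp)) (m1 e (by decide) (by simp))))
    (mul_mem (m1 b' (by decide) (by simp)) (mul_mem (m1 c' (by decide) (by simp)) (m1 e' (by decide) (by simp)))) h
  obtain ⟨h2, h⟩ := split_unique DataF4.good rootsF4 b2_closed.2.1 b2_closed.2.2.2.2.1 b2_closed.2.2.2.2.2.1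
    (fun g hg => exists_split DataF4.good rootsF4 b2_norm.2.1 hg) (m1 b (by decide) (by simp))
    (m1 b' (by decide) (by simp)) (mul_mem (m1 c (by decide) (by simp)) (m1 e (by decide) (by simp)))
    (mul_mem (m1 c' (by decide) (by simp)) (m1 e' (by decide) (by simp))) h
  obtain ⟨h3, h4⟩ := split_unique DataF4.good rootsF4 b2_closed.2.2.1 b2_closed.2.2.2.1 b2_closed.2.2.2.2.1
    (fun g hg => exists_split DataF4.good rootsF4 b2_norm.2.2.1 hg) (m1 c (by decide) (by simp))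
    (m1 c' (by decide) (by simp)) (m1 e (by decide) (by simp)) (m1 e' (by decide) (by simp)) h
  exact ⟨pair_unique.xg_inj' h1 (by decide), pair_unique.xg_inj' h2 (by decide),
    pair_unique.xg_inj' h3 (by decide), pair_unique.xg_inj' h4 (by decide)⟩

theorem mem_X7_iff {g : GL chevF4.Idx K} :
    g ∈ X K m 7 ↔ ∃ t u, g = xF K 27 (t ^ 2 ^ m) * xF K 25 t * xF K 28 (t ^ (2 ^ m + 1) + u) *
      xF K 30 (u ^ (2 * 2 ^ m)) := by
  have hm : ∀ {r : ℕ} (x : K), r < chevF4.nroots → r ∈ [27, 25, 28, 30] → xF K r x ∈ spF K [27, 25, 28, 30] :=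
    fun x hlt hr => xg_mem_sp DataF4.good rootsF4 hlt hr x
  have hG : ∀ a b c e : K, xF K 27 a * xF K 25 b * xF K 28 c * xF K 30 e ∈ spF K [27, 25, 28, 30] :=
    fun a b c e => mul_mem (mul_mem (mul_mem (hm a (by decide) (by simp)) (hm b (by decide) (by simp)))
      (hm c (by decide) (by simp))) (hm e (by decide) (by simp))
  have hle := borel_le_group' (K := K) DataF4.good rootsF4 b2_closed.2.2.2.2.2.2.1.2.1
  have hs : ∀ a b c e : K, (σF K m).s (xF K 27 a * xF K 25 b * xF K 28 c * xF K 30 e) =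
      xF K 27 (b ^ 2 ^ m) * xF K 25 (a ^ (2 * 2 ^ m)) * xF K 28 (b ^ 2 ^ m * a ^ (2 * 2 ^ m) + e ^ 2 ^ m) *
        xF K 30 ((b ^ 2 ^ m) ^ 2 * a ^ (2 * 2 ^ m) + c ^ (2 * 2 ^ m)) := by
    intro a b c e
    have g1 := hle (hm a (r := 27) (by decide) (by simp))
    have g2 := hle (hm b (r := 25) (by decide) (by simp))
    have g3 := hle (hm c (r := 28) (by decide) (by simp))
    have g4 := hle (hm e (r := 30) (by decide) (by simp))
    rw [(σF K m).s_mul _ (mul_mem (mul_mem g1 g2) g3) _ g4, (σF K m).s_mul _ (mul_mem g1 g2) _ g3,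
      (σF K m).s_mul _ g1 _ g2, sg_xF hK (r := 27) (by decide), sg_xF hK (r := 25) (by decide),
      sg_xF hK (r := 28) (by decide), sg_xF hK (r := 30) (by decide),
      show halfF4.rho 27 = 25 from rfl, show halfF4.rho 25 = 27 from rfl, show halfF4.rho 28 = 30 from rfl,
      show halfF4.rho 30 = 28 from rfl, show halfF4.lam 27 = 2 from rfl, show halfF4.lam 25 = 1 from rfl,
      show halfF4.lam 28 = 2 from rfl, show halfF4.lam 30 = 1 from rfl, mul_one, mul_comm (2 ^ m) 2,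
      comm2725 hK]
    have e30 : ∀ x y : K, xF K 30 x * xF K 28 y = xF K 28 y * xF K 30 x := fun x y =>
      comm_free' hK (r := 28) (s := 30) (by decide) (by decide) (by decide) (by decide) (by decide +kernel) y x
    simp only [mul_assoc]
    congr 2
    rw [e30, ← mul_assoc (xF K 30 (_ * _)), e30, mul_assoc, ← mul_assoc (xF K 28 _)]
    rw [xg_add DataF4.good (by decide), xg_add DataF4.good (by decide)]
  have h2m : ∀ x : K, (x ^ (2 * 2 ^ m)) ^ 2 ^ m = x := fun x => by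
    rw [← pow_mul, mul_comm, pow_mul, pow_e_e hK]
  have hf : (2 : K) = 0 := CharTwo.two_eq_zero
  constructor
  · rintro ⟨hg, -, hfix⟩
    obtain ⟨a, b, c, e, rfl⟩ := exists_b2_coord hK hg
    rw [hs] at hfix
    obtain ⟨ha, hb, hc, -⟩ := b2_unique hK hfix
    refine ⟨b, e ^ 2 ^ m, ?_⟩
    rw [← ha, ← hc, hb, pow_e_e hK, pow_succ]
  · rintro ⟨t, u, rfl⟩
    refine ⟨hG _ _ _ _, hle (hG _ _ _ _), ?_⟩
    rw [hs, pow_e_e hK, h2m, add_pow_char_pow_two, pow_succ t (2 ^ m), mul_pow, pow_e_e hK,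
      show ((t ^ 2 ^ m) ^ 2 : K) = t ^ (2 * 2 ^ m) by rw [← pow_mul, mul_comm]]
    congr 2
    linear_combination (t ^ (2 * 2 ^ m) * t) * hf
where
  add_pow_char_pow_two {x y : K} : (x + y) ^ (2 * 2 ^ m) = x ^ (2 * 2 ^ m) + y ^ (2 * 2 ^ m) := by
    rw [← pow_succ', add_pow_char_pow]

theorem mem_X8_iff {g : GL chevF4.Idx K} :
    g ∈ X K m 8 ↔ ∃ t, g = xF K 14 (t ^ 2 ^ m) * xF K 23 t := by
  have e : ∀ t : K, (RF K).nw (W 0) * (xF K 33 (t ^ 2 ^ m) * xF K 24 t) * ((RF K).nw (W 0))⁻¹ =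
      xF K 14 (t ^ 2 ^ m) * xF K 23 t := by
    intro t
    rw [show (RF K).nw (W 0) * (xF K 33 (t ^ 2 ^ m) * xF K 24 t) * ((RF K).nw (W 0))⁻¹ =
      ((RF K).nw (W 0) * xF K 33 (t ^ 2 ^ m) * ((RF K).nw (W 0))⁻¹) *
      ((RF K).nw (W 0) * xF K 24 t * ((RF K).nw (W 0))⁻¹) by group,
      nw_conj_xg DataF4.good rootsF4 (W 0) (s := 33) (by decide),
      nw_conj_xg DataF4.good rootsF4 (W 0) (s := 24) (by decide),
      show wwN chevF4 (W 0) 33 = 14 by decide +kernel, show wwN chevF4 (W 0) 24 = 23 by decide +kernel]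
  rw [← show wcl 0 (0 : Fin 16) = 8 from rfl, ← map_conj_X, Subgroup.mem_map]
  constructor
  · rintro ⟨x, hx, rfl⟩
    obtain ⟨t, rfl⟩ := (mem_X0_iff hK).1 hx
    exact ⟨t, e t⟩
  · rintro ⟨t, rfl⟩
    exact ⟨_, (mem_X0_iff hK).2 ⟨t, rfl⟩, e t⟩

theorem mem_X15_iff {g : GL chevF4.Idx K} :
    g ∈ X K m 15 ↔ ∃ t u, g = xF K 20 (t ^ 2 ^ m) * xF K 22 t * xF K 19 (t ^ (2 ^ m + 1) + u) *
      xF K 17 (u ^ (2 * 2 ^ m)) := by
  have e : ∀ a b c d : K, (RF K).nw (W 1) * (xF K 27 a * xF K 25 b * xF K 28 c * xF K 30 d) *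
      ((RF K).nw (W 1))⁻¹ = xF K 20 a * xF K 22 b * xF K 19 c * xF K 17 d := by
    intro a b c d
    set n := (RF K).nw (W 1) with hn
    rw [show n * (xF K 27 a * xF K 25 b * xF K 28 c * xF K 30 d) * n⁻¹ = (n * xF K 27 a * n⁻¹) *
      (n * xF K 25 b * n⁻¹) * (n * xF K 28 c * n⁻¹) * (n * xF K 30 d * n⁻¹) by group, hn,
      nw_conj_xg DataF4.good rootsF4 (W 1) (s := 27) (by decide),
      nw_conj_xg DataF4.good rootsF4 (W 1) (s := 25) (by decide),
      nw_conj_xg DataF4.good rootsF4 (W 1) (s := 28) (by decide),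
      nw_conj_xg DataF4.good rootsF4 (W 1) (s := 30) (by decide),
      show wwN chevF4 (W 1) 27 = 20 by decide +kernel, show wwN chevF4 (W 1) 25 = 22 by decide +kernel,
      show wwN chevF4 (W 1) 28 = 19 by decide +kernel, show wwN chevF4 (W 1) 30 = 17 by decide +kernel]
  rw [← show wcl 1 (7 : Fin 16) = 15 from rfl, ← map_conj_X, Subgroup.mem_map]
  constructor
  · rintro ⟨x, hx, rfl⟩
    obtain ⟨t, u, rfl⟩ := (mem_X7_iff hK).1 hx
    exact ⟨t, u, e _ _ _ _⟩
  · rintro ⟨t, u, rfl⟩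
    exact ⟨_, (mem_X7_iff hK).2 ⟨t, u, rfl⟩, e _ _ _ _⟩

theorem card_X0 : Nat.card ↥(X K m 0) = 2 ^ (2 * m + 1) := by
  rw [← hK, ← Nat.card_eq_fintype_card]
  refine (Nat.card_congr (Equiv.ofBijective (fun t : K => (⟨_, (mem_X0_iff hK).2 ⟨t, rfl⟩⟩ : ↥(X K m 0)))
    ⟨fun t t' h => (pair_unique hK (congrArg Subtype.val h)).2, ?_⟩)).symm
  rintro ⟨g, hg⟩
  obtain ⟨t, rfl⟩ := (mem_X0_iff hK).1 hg
  exact ⟨t, rfl⟩

theorem card_X7 : Nat.card ↥(X K m 7) = (2 ^ (2 * m + 1)) ^ 2 := by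
  rw [← hK, ← Nat.card_eq_fintype_card, sq, ← Nat.card_prod]
  refine (Nat.card_congr (Equiv.ofBijective (fun t : K × K => (⟨_, (mem_X7_iff hK).2 ⟨t.1, t.2, rfl⟩⟩ : ↥(X K m 7)))
    ⟨fun t t' h => ?_, ?_⟩)).symm
  · obtain ⟨-, h1, h2, -⟩ := b2_unique hK (congrArg Subtype.val h)
    rw [h1] at h2
    exact Prod.ext h1 (add_left_cancel h2)
  · rintro ⟨g, hg⟩
    obtain ⟨t, u, rfl⟩ := (mem_X7_iff hK).1 hg
    exact ⟨(t, u), rfl⟩

/-! ### All classes -/

theorem card_X_wcl (i : Fin 2) (j : Fin 16) : Nat.card ↥(X K m (wcl i j)) = Nat.card ↥(X K m j) := by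
  rw [← map_conj_X, Subgroup.card_map_of_injective (MulAut.conj _).injective]

theorem card_X : ∀ j : Fin 16, Nat.card ↥(X K m j) = (2 ^ (2 * m + 1)) ^ ((cls j.val).length / 2) := by
  have step : ∀ (i : Fin 2) (j : Fin 16), ((cls (wcl i j).val).length = (cls j.val).length) →
      Nat.card ↥(X K m j) = (2 ^ (2 * m + 1)) ^ ((cls j.val).length / 2) →
      Nat.card ↥(X K m (wcl i j)) = (2 ^ (2 * m + 1)) ^ ((cls (wcl i j).val).length / 2) :=
    fun i j h1 h2 => by rw [card_X_wcl hK, h1, h2]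
  have h0 : Nat.card ↥(X K m 0) = (2 ^ (2 * m + 1)) ^ ((cls (0 : Fin 16).val).length / 2) :=
    (card_X0 hK).trans (pow_one _).symm
  have h7 : Nat.card ↥(X K m 7) = (2 ^ (2 * m + 1)) ^ ((cls (7 : Fin 16).val).length / 2) := card_X7 hK
  have h8 := step 0 0 rfl h0
  have h6 := step 1 0 rfl h0
  have h14 := step 1 _ rfl h8
  have h2 := step 0 _ rfl h6
  have h4 := step 1 _ rfl h2
  have h10 := step 0 _ rfl h14
  have h12 := step 1 _ rfl h10
  have h1 := step 0 7 rfl h7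
  have h15 := step 1 7 rfl h7
  have h5 := step 1 _ rfl h1
  have h9 := step 0 _ rfl h15
  have h3 := step 0 _ rfl h5
  have h13 := step 1 _ rfl h9
  have h11 := step 0 _ rfl h13
  intro j
  fin_cases j
  exacts [h0, h1, h2, h3, h4, h5, h6, h7, h8, h9, h10, h11, h12, h13, h14, h15]

/-- The fixed part of a segment is generated by those of its classes. -/
theorem seg_fix_le {P : Subgroup (GL chevF4.Idx K)} :
    ∀ (b a : ℕ), b ≤ 8 → a ≤ b → (∀ j : Fin 16, a ≤ j.val → j.val < b → X K m j ≤ P) →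
      spF K (seg a b) ⊓ (σF K m).fix ≤ P := by
  intro b a hb hab
  induction hn : b - a generalizing a with
  | zero =>
    intro _
    obtain rfl : a = b := by omega
    rw [seg_self]
    show sp DataF4.good rootsF4 K [] ⊓ _ ≤ P
    rw [sp_nil]
    simp
  | succ n ih =>
    intro hP g hg
    have hlt : a < b := by omega
    have he := seg_cons b hb a hlt
    rw [he] at hg
    obtain ⟨x, hx, y, hy, rfl⟩ := fix_split DataF4.good rootsF4 (σF K m) σ_rho
      (seg_one a (by omega) ▸ seg_closed (a + 1) (by omega) a (by omega)) (seg_closed b hb (a + 1) hlt)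
      (he ▸ seg_closed b hb a hab) (seg_one a (by omega) ▸ seg_rho (a + 1) (by omega) a (by omega))
      (seg_rho b hb (a + 1) hlt) (fun g hg => exists_split DataF4.good rootsF4 (seg_norm b hb a hlt) hg) hg
    exact mul_mem (hP ⟨a, by omega⟩ le_rfl hlt hx)
      (ih (a + 1) hlt (by omega) (fun j h1 h2 => hP j (by omega) h2) hy)

theorem seg_splits : ∀ (b a c : ℕ), c ≤ 8 → a ≤ b → b ≤ c →
    Splits DataF4.good rootsF4 (K := K) (seg a b) (seg b c) := by
  intro b a c hc hab hbc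
  induction hn : b - a generalizing a with
  | zero =>
    obtain rfl : a = b := by omega
    intro g hg
    rw [seg_self, List.nil_append] at hg
    exact ⟨1, one_mem _, g, hg, (one_mul g).symm⟩
  | succ n ih =>
    intro g hg
    have hlt : a < b := by omega
    rw [← seg_split c hc b hbc a hab, seg_cons c hc a (by omega)] at hg
    obtain ⟨x, hx, y, hy, rfl⟩ := exists_split DataF4.good rootsF4 (seg_norm c hc a (by omega)) hg
    rw [seg_split c hc b hbc (a + 1) hlt] at hy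
    obtain ⟨y₁, hy₁, y₂, hy₂, rfl⟩ := ih (a + 1) hlt (by omega) y hy
    refine ⟨x * y₁, ?_, y₂, hy₂, (mul_assoc _ _ _).symm⟩
    rw [seg_cons b (by omega) a hlt]
    exact mul_mem (sp_mono _ _ (List.subset_append_left _ _) hx) (sp_mono _ _ (List.subset_append_right _ _) hy₁)

theorem card_seg_fix : ∀ (b a : ℕ), b ≤ 8 → a ≤ b →
    Nat.card ↥(spF K (seg a b) ⊓ (σF K m).fix) = (2 ^ (2 * m + 1)) ^ ((seg a b).length / 2) := by
  intro b a hb hab
  induction hn : b - a generalizing a with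
  | zero =>
    obtain rfl : a = b := by omega
    rw [seg_self]
    show Nat.card ↥(sp DataF4.good rootsF4 K [] ⊓ _) = _
    rw [sp_nil, bot_inf_eq]
    simp
  | succ n ih =>
    have hlt : a < b := by omega
    have he := seg_cons b hb a hlt
    have hev : ∀ b ≤ 8, ∀ a < b, ((cls a).length / 2 + (seg (a + 1) b).length / 2 = (seg a b).length / 2) := by
      decide
    rw [← hev b hb a hlt, pow_add, ← ih (a + 1) hlt (by omega), ← card_X hK ⟨a, by omega⟩, he]
    exact card_fix_split DataF4.good rootsF4 (σF K m) σ_rho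
      (seg_one a (by omega) ▸ seg_closed (a + 1) (by omega) a (by omega)) (seg_closed b hb (a + 1) hlt)
      (he ▸ seg_closed b hb a hab) (seg_one a (by omega) ▸ seg_rho (a + 1) (by omega) a (by omega))
      (seg_rho b hb (a + 1) hlt) (fun g hg => exists_split DataF4.good rootsF4 (seg_norm b hb a hlt) hg)

end Coord

end Cfsg.Agent.Twisted.F4
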