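/-
Twisted groups, part 20: root group data of a set of fundamental roots, and rank one for its fixed part.

* `SubOK`, `subData`, `subFold` : the restriction of root group data and of a fold.
* `sub_rank_one`                : a fixed nontrivial product of negative root elements is a·h·n·c.
-/
import Cfsg.Agent.Lib.Twisted.Fixed

set_option autoImplicit false

namespace Cfsg.Agent.Twisted

open RGD

variable {Γ : Type*} [Group Γ] {Φ I : Type*} (R : RootData Γ Φ I)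

/-- A set of roots attached to some fundamental roots. -/
structure SubOK {I' : Type*} (P : Φ → Prop) (J : I' → I) : Prop where
  inj : Function.Injective J
  simple : ∀ j, P (R.simple (J j))
  neg : ∀ r, P r → P (R.neg r)
  w : ∀ j r, P r → P (R.w (J j) r)
  conj : ∀ j, ∀ x ∈ R.U (R.simple (J j)), ∀ r, P r → R.pos r → r ≠ R.simple (J j) → ∀ y ∈ R.U r,
    x * y * x⁻¹ ∈ R.span {s | P s ∧ R.pos s ∧ s ≠ R.simple (J j)}

variable {R} {I' : Type*} {P : Φ → Prop} {J : I' → I}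

theorem span_le_sub {Q : {r // P r} → Prop} {A : Set Φ} (h : ∀ r ∈ A, ∃ hr : P r, Q ⟨r, hr⟩) :
    R.span A ≤ ⨆ s ∈ {s : {r // P r} | Q s}, R.U s.1 :=
  R.span_le fun r hr => by
    obtain ⟨hr', hq⟩ := h r hr
    exact le_biSup (fun s : {r // P r} => R.U s.1) (show (⟨r, hr'⟩ : {r // P r}) ∈ {s | Q s} from hq)

theorem sub_le_span (Q : Φ → Prop) :
    (⨆ s ∈ {s : {r // P r} | Q s.1}, R.U s.1) ≤ R.span {r | Q r} :=
  iSup₂_le fun s hs => R.U_le_span (r := s.1) hs

/-- The restricted root group data. -/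
def subData (hS : SubOK R P J) : RootData Γ {r // P r} I' where
  U r := R.U r.1
  H := R.H
  n j := R.n (J j)
  simple j := ⟨_, hS.simple j⟩
  pos r := R.pos r.1
  neg r := ⟨_, hS.neg _ r.2⟩
  w j r := ⟨_, hS.w j _ r.2⟩
  neg_neg r := Subtype.ext (R.neg_neg r.1)
  pos_neg r := R.pos_neg r.1
  pos_simple j := R.pos_simple (J j)
  simple_inj _ _ h := hS.inj (R.simple_inj (congrArg Subtype.val h))
  w_simple j := Subtype.ext (R.w_simple (J j))
  w_pos j r hr hne := R.w_pos (J j) r.1 hr fun e => hne (Subtype.ext e)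
  w_neg j r := Subtype.ext (R.w_neg (J j) r.1)
  w_w j r := Subtype.ext (R.w_w (J j) r.1)
  H_conj_U h hh r := R.H_conj_U h hh r.1
  n_conj_U j r := R.n_conj_U (J j) r.1
  n_conj_H j := R.n_conj_H (J j)
  n_sq j := R.n_sq (J j)
  n_mem j := R.n_mem (J j)
  U_conj j x hx r hr hne y hy :=
    span_le_sub (fun s hs => ⟨hs.1, hs.2.1, fun e => hs.2.2 (congrArg Subtype.val e)⟩)
      (hS.conj j x hx r.1 r.2 hr (fun e => hne (Subtype.ext e)) y hy)
  rank_one j := R.rank_one (J j)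
  U_ne_bot r := R.U_ne_bot r.1
  B_inf_V := by
    refine le_bot_iff.1 (le_trans (inf_le_inf (sup_le_sup_right (sub_le_span (R := R) R.pos) _)
      (sub_le_span (R := R) fun r => ¬ R.pos r)) ?_)
    exact R.B_inf_V.le
  U_inf_H := by
    refine le_bot_iff.1 (le_trans (inf_le_inf_right _ (sub_le_span (R := R) R.pos)) ?_)
    exact R.U_inf_H.le

variable (hS : SubOK R P J)

theorem sub_nw (l : List I') : (subData hS).nw l = R.nw (l.map J) := by
  induction l with
  | nil => rfl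
  | cons j l ih => rw [RootData.nw_cons, ih, List.map_cons, RootData.nw_cons]; rfl

theorem sub_ww (l : List I') (r : {r // P r}) : ((subData hS).ww l r).1 = R.ww (l.map J) r.1 := by
  induction l with
  | nil => rfl
  | cons j l ih => rw [RootData.ww_cons, List.map_cons, RootData.ww_cons, ← ih]; rfl

theorem sub_Upos_le : (subData hS).Upos ≤ R.span {r | P r ∧ R.pos r} :=
  iSup₂_le fun s hs => le_biSup R.U (show s.1 ∈ {r | P r ∧ R.pos r} from ⟨s.2, hs⟩)

theorem le_sub_Vneg : R.span {r | P r ∧ ¬ R.pos r} ≤ (subData hS).Vneg :=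
  span_le_sub (Q := fun s => ¬ R.pos s.1) fun _ hr => ⟨hr.1, hr.2⟩

theorem sub_G_le : (subData hS).G ≤ R.G := by
  refine sup_le (sup_le ((subData hS).span_le fun r hr => ((R.U_le_Upos hr).trans R.Upos_le_B).trans R.B_le_G)
    (R.H_le_B.trans R.B_le_G)) (sup_le (R.H_le_B.trans R.B_le_G) ((Subgroup.closure_le _).2 ?_))
  rintro _ ⟨j, rfl⟩
  exact R.n_mem_G (J j)

/-- The restricted fold. -/
def subFold (σ : Fold R) (hρ : ∀ r, P r → P (σ.rho r)) (ρI : I' → I') (hρI : ∀ j, σ.rhoI (J j) = J (ρI j)) :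
    Fold (subData hS) where
  s := σ.s
  rho r := ⟨σ.rho r.1, hρ _ r.2⟩
  rhoI := ρI
  s_mul x hx y hy := σ.s_mul x (sub_G_le hS hx) y (sub_G_le hS hy)
  s_mem := by
    let S : Subgroup Γ :=
      { carrier := {y | y ∈ R.G ∧ σ.s y ∈ (subData hS).G}
        one_mem' := ⟨one_mem _, by rw [σ.s_one]; exact one_mem _⟩
        mul_mem' := fun {a b} ha hb => ⟨mul_mem ha.1 hb.1, by rw [σ.s_mul a ha.1 b hb.1]; exact mul_mem ha.2 hb.2⟩
        inv_mem' := fun {a} ha => ⟨inv_mem ha.1, by rw [σ.s_inv ha.1]; exact inv_mem ha.2⟩ }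
    have hH : R.H ≤ S := fun x hx => ⟨R.B_le_G (R.H_le_B hx),
      (subData hS).B_le_G ((subData hS).H_le_B (σ.s_H x hx))⟩
    have h : (subData hS).G ≤ S := by
      refine sup_le (sup_le ((subData hS).span_le fun r hr x hx => ?_) hH) (sup_le hH ((Subgroup.closure_le _).2 ?_))
      · refine ⟨R.B_le_G (R.Upos_le_B (R.U_le_Upos hr hx)), ?_⟩
        exact (subData hS).B_le_G ((subData hS).Upos_le_B
          ((subData hS).U_le_Upos (r := ⟨σ.rho r.1, hρ _ r.2⟩) ((σ.rho_pos r.1).2 hr) (σ.s_U r.1 x hx)))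
      · rintro _ ⟨j, rfl⟩
        refine ⟨R.n_mem_G (J j), ?_⟩
        show σ.s (R.n (J j)) ∈ _
        rw [σ.s_n, hρI]
        exact (subData hS).n_mem_G (ρI j)
    exact fun x hx => (h hx).2
  s_U r := σ.s_U r.1
  s_H := σ.s_H
  s_n j := by show σ.s (R.n (J j)) = R.n (J (ρI j)); rw [σ.s_n, hρI]
  rho_simple j := Subtype.ext (by show σ.rho (R.simple (J j)) = R.simple (J (ρI j)); rw [σ.rho_simple, hρI])
  rho_w j r := Subtype.ext (by
    show σ.rho (R.w (J j) r.1) = R.w (J (ρI j)) (σ.rho r.1)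
    rw [σ.rho_w, hρI])
  rho_pos r := σ.rho_pos r.1

variable (σ : Fold R) (hρ : ∀ r, P r → P (σ.rho r)) (ρI : I' → I') (hρI : ∀ j, σ.rhoI (J j) = J (ρI j))

/-- A fixed nontrivial product of negative root elements of the subsystem is a·h·n·c. -/
theorem sub_rank_one {l₀ : List I'} (h1 : RankOne (subFold hS σ hρ ρI hρI) l₀)
    (hn : R.nw (l₀.map J) ∈ σ.fix) {y : Γ} (hy : y ∈ R.span {r | P r ∧ ¬ R.pos r}) (hfix : y ∈ σ.fix)
    (hne : y ≠ 1) :
    ∃ a ∈ R.span {r | P r ∧ R.pos r} ⊓ σ.fix, ∃ h ∈ σ.H1,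
      ∃ c ∈ R.span {r | P r ∧ R.pos r} ⊓ σ.fix, y = a * h * R.nw (l₀.map J) * c := by
  set R' := subData hS
  have hV := le_sub_Vneg hS hy
  have hVG : R'.Vneg ≤ R'.G := R'.span_le fun r hr x hx => by
    have h2 := R'.conj_U_mem (R'.map_conj_U l₀ r) hx
    have hpos : R'.pos (R'.ww l₀ r) := h1.neg_preimage hr
    have h3 := R'.B_le_G (R'.Upos_le_B (R'.U_le_Upos hpos h2))
    have hg := R'.N_le_G (R'.nw_mem_N l₀)
    have := mul_mem (mul_mem (inv_mem hg) h3) hg
    simpa [mul_assoc] using this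
  have hyF : y ∈ (subFold hS σ hρ ρI hρI).fix := ⟨hVG hV, hfix.2⟩
  have back : ∀ {x : Γ}, x ∈ (subFold hS σ hρ ρI hρI).fix → x ∈ σ.fix := fun hx => ⟨sub_G_le hS hx.1, hx.2⟩
  rcases h1.form hyF with ⟨u, hu, h, hh, e⟩ | ⟨u, hu, h, hh, hf, c, hc, e⟩
  · refine absurd ?_ hne
    rw [← Subgroup.mem_bot, ← show R'.B ⊓ R'.Vneg = ⊥ from R'.B_inf_V]
    exact Subgroup.mem_inf.2 ⟨e ▸ mul_mem (R'.Upos_le_B hu.1) (R'.H_le_B hh.1), hV⟩
  · have hf' := back hf
    rw [sub_nw] at hf' e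
    have hh' : h ∈ σ.fix := by simpa using mul_mem hf' (inv_mem hn)
    exact ⟨u, ⟨sub_Upos_le hS hu.1, back hu.2⟩, h, ⟨hh, hh'⟩, c, ⟨sub_Upos_le hS hc.1, back hc.2⟩,
      by rw [e, mul_assoc u h]⟩

end Cfsg.Agent.Twisted
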