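/-
Twisted groups, part 21: rank one for the two fundamental classes of ²F₄.
-/
import Cfsg.Agent.Lib.Twisted.F4Unip
import Cfsg.Agent.Lib.Twisted.SubData

set_option autoImplicit false
set_option maxRecDepth 100000

namespace Cfsg.Agent.Twisted.F4

open Cfsg.Lie Cfsg.Lie.ChevalleyDatum
open Cfsg.Agent.Chev Cfsg.Agent.ChevBN

/-- The simple class of a fundamental reflection. -/
def sc (i : Fin 2) : Fin 16 := if i = 0 then 0 else 7

/-- The fundamental roots of a class. -/
def Jof (i : Fin 2) (j : Fin 2) : Fin chevF4.rank :=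
  if i = 0 then ![(0 : Fin 4), (3 : Fin 4)] j else ![(1 : Fin 4), (2 : Fin 4)] j

/-- The roots of a class and its negative. -/
def rts (i : Fin 2) : List ℕ := cls (sc i).val ++ cls ((sc i).val + 8)

/-- The word of the longest element. -/
def l0 (i : Fin 2) : List (Fin 2) := if i = 0 then [0, 1] else [0, 1, 0, 1]

theorem l0_map : ∀ i : Fin 2, (l0 i).map (Jof i) = W i := by decide +kernel

theorem Jof_inj : ∀ i a b, Jof i a = Jof i b → a = b := by decide +kernel

theorem Jof_rev : ∀ i a, revI (Jof i a) = Jof i (1 - a) := by decide +kernel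

theorem rts_simple : ∀ i j, chevF4.simple (Jof i j).val ∈ rts i := by decide +kernel

theorem rts_closed : ∀ i, ∀ r ∈ rts i,
    chevF4.neg r ∈ rts i ∧ halfF4.rho r ∈ rts i ∧ ∀ j, wN chevF4 (Jof i j).val r ∈ rts i := by
  decide +kernel

theorem rts_conj : ∀ i j, NormL chevF4 [chevF4.simple (Jof i j).val]
    ((rts i).filter fun r => decide (chevF4.IsPosRoot r ∧ r ≠ chevF4.simple (Jof i j).val)) := by
  unfold NormL; decide +kernel

theorem rts_long : ∀ i, ∀ r ∈ rts i, chevF4.IsPosRoot r → ¬ chevF4.IsPosRoot (wwN chevF4 (W i) r) := by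
  decide +kernel

theorem rts_long_simple : ∀ i j, ∃ j', wwN chevF4 (W i) (chevF4.simple (Jof i j).val) =
    chevF4.neg (chevF4.simple (Jof i j').val) := by
  decide +kernel

theorem rts_pos : ∀ i, ∀ r ∈ rts i,
    (chevF4.IsPosRoot r → r ∈ cls (sc i).val) ∧ (¬ chevF4.IsPosRoot r → r ∈ cls ((sc i).val + 8)) := by
  decide +kernel

variable (K : Type*) [Field K]

theorem subOK (i : Fin 2) : SubOK (RF K) (fun r => r.val ∈ rts i) (Jof i) where
  inj a b h := Jof_inj i a b h
  simple j := rts_simple i j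
  neg r hr := (rts_closed i r.val hr).1
  w j r hr := (rts_closed i r.val hr).2.2 j
  conj j x hx r hr hpos hne y hy := by
    obtain ⟨t, rfl⟩ := (mem_rootSubgroup DataF4.good _).1 hx
    obtain ⟨u, rfl⟩ := (mem_rootSubgroup DataF4.good _).1 hy
    have h := xg_conj_mem DataF4.good rootsF4 (rts_conj i j) (r := chevF4.simple (Jof i j).val) (s := r.val)
      (by simp) (List.mem_filter.2 ⟨hr, decide_eq_true ⟨hpos, fun e => hne (Fin.ext e)⟩⟩) t u
    refine (RF K).span_mono (fun s hs => ?_) h
    obtain ⟨h1, h2⟩ := List.mem_filter.1 hs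
    obtain ⟨h3, h4⟩ := of_decide_eq_true h2
    exact ⟨h1, h3, fun e => h4 (congrArg Fin.val e)⟩

variable [CharP K 2] (m : ℕ)

/-- σ on the data of a fundamental class. -/
noncomputable def foldJ (i : Fin 2) : Fold (subData (subOK K i)) :=
  subFold (subOK K i) (σF K m) (fun r hr => (rts_closed i r.val hr).2.1) (fun j => 1 - j) (Jof_rev i)

theorem rankOneJ (i : Fin 2) : RankOne (foldJ K m i) (l0 i) where
  nonempty := inferInstance
  trans := by
    intro a b
    show b = a ∨ b = 1 - a
    fin_cases a <;> fin_cases b <;> decide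
  neg_pos r hr h := by
    refine rts_long i r.1.val r.2 hr ?_
    rw [← l0_map i, ← chev_ww DataF4.good rootsF4 K, ← sub_ww (subOK K i)]
    exact h
  simple j := by
    obtain ⟨j', e⟩ := rts_long_simple i j
    refine ⟨j', Subtype.ext (Fin.ext ?_)⟩
    rw [sub_ww (subOK K i), chev_ww DataF4.good rootsF4 K, l0_map]
    exact e

variable {K m}

/-- Rank one. -/
theorem rank_one_X (i : Fin 2) {y : GL chevF4.Idx K} (hy : y ∈ spF K (cls ((sc i).val + 8)))
    (hfix : y ∈ (σF K m).fix) (hne : y ≠ 1) :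
    ∃ a ∈ X K m (sc i), ∃ h ∈ (σF K m).H1, ∃ c ∈ X K m (sc i), y = a * h * (RF K).nw (W i) * c := by
  have hy' : y ∈ (RF K).span {r | r.val ∈ rts i ∧ ¬ (RF K).pos r} := by
    refine (RF K).span_mono (A' := {r | r.val ∈ rts i ∧ ¬ (RF K).pos r}) (fun r hr => ?_) hy
    refine ⟨List.mem_append_right _ hr, fun hp => ?_⟩
    have h1 := ((cls_spec ((sc i).val + 8) (by have : (sc i).val ≤ 7 := by fin_cases i <;> decide
                                               omega) r.val hr).2.2).1 hp
    omega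
  obtain ⟨a, ha, h, hh, c, hc, e⟩ := sub_rank_one (subOK K i) (σF K m)
    (fun r hr => (rts_closed i r.val hr).2.1) (fun j => 1 - j) (Jof_rev i) (rankOneJ K m i)
    (by rw [l0_map]; exact nW_fixed i) hy' hfix hne
  rw [l0_map] at e
  have hle : (RF K).span {r | r.val ∈ rts i ∧ (RF K).pos r} ⊓ (σF K m).fix ≤ X K m (sc i) :=
    inf_le_inf_right _ ((RF K).span_mono fun r hr => (rts_pos i r.val hr.1).1 hr.2)
  exact ⟨a, hle ha, h, hh, c, hle hc, e⟩

end Cfsg.Agent.Twisted.F4
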