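/-
Twisted groups, part 22: the torus and the root group data of ²F₄, and its generation.

* `tH`, `mem_H1_iff`, `card_H1`; `rgdF4'`; `twisted_eq`;
* `diag_inf`, `pos_inf`, `borel_inf`, `monomial_inf` : intersections with the twisted group.
-/
import Cfsg.Agent.Lib.Twisted.F4Levi
import Cfsg.Agent.Lib.ChevOrder.CardH

set_option autoImplicit false
set_option maxRecDepth 10000
set_option linter.unusedSectionVars false
set_option backward.isDefEq.respectTransparency false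

namespace Cfsg.Agent.Twisted.F4

open Cfsg.Lie Cfsg.Lie.ChevalleyDatum Matrix
open Cfsg.Agent.Chev Cfsg.Agent.ChevBN

variable {K : Type*} [Field K] [CharP K 2] [Fintype K] {m : ℕ} (hK : Fintype.card K = 2 ^ (2 * m + 1))
include hK

/-! ### The torus -/

/-- Torus coordinates. -/
abbrev tF (c : Fin 4 → Kˣ) : GL chevF4.Idx K := ChevOrder.torusHom chevF4 K c

theorem tF_mem (c : Fin 4 → Kˣ) : tF c ∈ chevF4.diagonalSubgroup K := by
  rw [← ChevOrder.torusHom_range DataF4.good]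
  exact ⟨c, rfl⟩

theorem tF_surj {h : GL chevF4.Idx K} (hh : h ∈ chevF4.diagonalSubgroup K) : ∃ c, h = tF c := by
  rw [← ChevOrder.torusHom_range DataF4.good] at hh
  obtain ⟨c, rfl⟩ := hh
  exact ⟨c, rfl⟩

theorem tF_inj : Function.Injective (tF (K := K)) := by
  have hb : Function.Bijective (fun c : Fin chevF4.rank → Kˣ =>
      (⟨tF c, tF_mem hK c⟩ : chevF4.diagonalSubgroup K)) := by
    refine (Nat.bijective_iff_surjective_and_card _).2 ⟨?_, ?_⟩
    · rintro ⟨h, hh⟩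
      obtain ⟨c, rfl⟩ := tF_surj hK hh
      exact ⟨c, rfl⟩
    · have h := ChevOrder.card_diagonal (F := K) DataF4.good rootsF4 ChevOrder.torus_F4
      have h1 : ∀ k < 4, ([1, 1, 1, 1] : List ℕ).getD k 0 = 1 := by decide
      rw [Finset.prod_eq_one fun i _ => by rw [h1 i.val i.isLt, Nat.gcd_one_right], one_mul] at h
      rw [h, Nat.card_pi, Finset.prod_const, Finset.card_univ, Fintype.card_fin, Nat.card_units,
        Nat.card_eq_fintype_card]
  exact fun a b e => hb.1 (Subtype.ext e)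

theorem coroot_vals : ∀ i < 4,
    (chevF4.coroot.getD 33 #[]).getD i 0 = (if i = 0 then 1 else 0) ∧
    (chevF4.coroot.getD 27 #[]).getD i 0 = (if i = 1 then 1 else 0) ∧
    (chevF4.coroot.getD 25 #[]).getD i 0 = (if i = 2 then 1 else 0) ∧
    (chevF4.coroot.getD 24 #[]).getD i 0 = (if i = 3 then 1 else 0) ∧
    (chevF4.coroot.getD 37 #[]).getD i 0 = ([1, 2, 2, 0] : List ℤ).getD i 0 ∧
    (chevF4.coroot.getD 32 #[]).getD i 0 = ([0, 1, 2, 1] : List ℤ).getD i 0 := by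
  decide +kernel

theorem hg_simples (a b c d : Kˣ) :
    hg DataF4.good K 33 (a : K) * hg DataF4.good K 27 (b : K) * hg DataF4.good K 25 (c : K) *
      hg DataF4.good K 24 (d : K) = tF ![a, b, c, d] := by
  rw [hg_eq_torusHom DataF4.good (show 33 < chevF4.nroots by decide),
    hg_eq_torusHom DataF4.good (show 27 < chevF4.nroots by decide),
    hg_eq_torusHom DataF4.good (show 25 < chevF4.nroots by decide),
    hg_eq_torusHom DataF4.good (show 24 < chevF4.nroots by decide), ← map_mul, ← map_mul, ← map_mul]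
  refine congrArg _ (funext fun (i : Fin 4) => ?_)
  obtain ⟨h1, h2, h3, h4, -, -⟩ := coroot_vals hK i.val i.isLt
  simp only [Pi.mul_apply, h1, h2, h3, h4]
  fin_cases i <;> simp

theorem hg_simples' (a b c d : Kˣ) :
    hg DataF4.good K 24 (d : K) * hg DataF4.good K 25 (c : K) * hg DataF4.good K 27 (b : K) *
      hg DataF4.good K 33 (a : K) = tF ![a, b, c, d] := by
  rw [hg_eq_torusHom DataF4.good (show 33 < chevF4.nroots by decide),
    hg_eq_torusHom DataF4.good (show 27 < chevF4.nroots by decide),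
    hg_eq_torusHom DataF4.good (show 25 < chevF4.nroots by decide),
    hg_eq_torusHom DataF4.good (show 24 < chevF4.nroots by decide), ← map_mul, ← map_mul, ← map_mul]
  refine congrArg _ (funext fun (i : Fin 4) => ?_)
  obtain ⟨h1, h2, h3, h4, -, -⟩ := coroot_vals hK i.val i.isLt
  simp only [Pi.mul_apply, h1, h2, h3, h4]
  fin_cases i <;> simp

theorem hg_mem_G {r : ℕ} (hr : r < chevF4.nroots) (t : Kˣ) : hg DataF4.good K r (t : K) ∈ (RF K).G :=
  (RF K).B_le_G ((RF K).H_le_B (by rw [hg_eq_torusHom DataF4.good hr]; exact tF_mem hK _))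

theorem s_tF (a b c d : Kˣ) : (σF K m).s (tF ![a, b, c, d]) =
    tF ![d ^ 2 ^ m, c ^ 2 ^ m, b ^ (2 * 2 ^ m), a ^ (2 * 2 ^ m)] := by
  have hs : ∀ r < chevF4.nroots, ∀ t : Kˣ, (σF K m).s (hg DataF4.good K r (t : K)) =
      hg DataF4.good K (halfF4.rho r) ((t ^ (2 ^ m * halfF4.lam r) : Kˣ) : K) := fun r hr t => by
    rw [Units.val_pow_eq_pow_val]
    exact sg_hg halfF4_ok foldF4 DataF4.good K m hr (t : K)
  have g33 := hg_mem_G hK (r := 33) (by decide) a
  have g27 := hg_mem_G hK (r := 27) (by decide) b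
  have g25 := hg_mem_G hK (r := 25) (by decide) c
  have g24 := hg_mem_G hK (r := 24) (by decide) d
  rw [← hg_simples hK, ← hg_simples' hK, (σF K m).s_mul _ (mul_mem (mul_mem g33 g27) g25) _ g24,
    (σF K m).s_mul _ (mul_mem g33 g27) _ g25, (σF K m).s_mul _ g33 _ g27,
    hs 33 (by decide), hs 27 (by decide), hs 25 (by decide), hs 24 (by decide),
    show halfF4.rho 33 = 24 from rfl, show halfF4.rho 27 = 25 from rfl, show halfF4.rho 25 = 27 from rfl,
    show halfF4.rho 24 = 33 from rfl, show halfF4.lam 33 = 2 from rfl, show halfF4.lam 27 = 2 from rfl,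
    show halfF4.lam 25 = 1 from rfl, show halfF4.lam 24 = 1 from rfl, mul_one, mul_comm (2 ^ m) 2]

/-- The fixed torus. -/
def tH (m : ℕ) (x : Kˣ × Kˣ) : GL chevF4.Idx K := tF ![x.1 ^ 2 ^ m, x.2 ^ 2 ^ m, x.2, x.1]

theorem tH_mul (x y : Kˣ × Kˣ) : tH m (x * y) = tH m x * tH m y := by
  simp only [tH, tF, ← map_mul]
  refine congrArg _ (funext fun (i : Fin 4) => ?_)
  fin_cases i <;> simp [mul_pow]

theorem pow_e_e' (a : Kˣ) : (a ^ 2 ^ m) ^ (2 * 2 ^ m) = a :=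
  Units.ext (by push_cast; exact pow_e_e hK (a : K))

theorem mem_H1_iff {h : GL chevF4.Idx K} : h ∈ (σF K m).H1 ↔ ∃ x, h = tH m x := by
  constructor
  · rintro ⟨hh, -, hs⟩
    obtain ⟨c, rfl⟩ := tF_surj hK hh
    obtain ⟨a, b, c', d, rfl⟩ : ∃ a b c' d, c = ![a, b, c', d] :=
      ⟨c (0 : Fin 4), c (1 : Fin 4), c (2 : Fin 4), c (3 : Fin 4), funext fun (i : Fin 4) => by fin_cases i <;> rfl⟩
    rw [s_tF hK] at hs
    have e := tF_inj hK hs
    have e0 := congrFun e (0 : Fin 4)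
    have e1 := congrFun e (1 : Fin 4)
    simp only [Matrix.cons_val_zero, Matrix.cons_val_one] at e0 e1
    exact ⟨(d, c'), by rw [← e0, ← e1, tH]⟩
  · rintro ⟨x, rfl⟩
    refine ⟨tF_mem hK _, (RF K).B_le_G ((RF K).H_le_B (tF_mem hK _)), ?_⟩
    rw [tH, s_tF hK, pow_e_e' hK, pow_e_e' hK]

theorem tH_inj : Function.Injective (tH (K := K) m) := fun x y h => by
  have e := tF_inj hK h
  exact Prod.ext (congrFun e (3 : Fin 4)) (congrFun e (2 : Fin 4))

theorem card_H1 : Nat.card (σF K m).H1 = (2 ^ (2 * m + 1) - 1) ^ 2 := by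
  rw [← hK, ← Nat.card_eq_fintype_card, ← Nat.card_units, sq, ← Nat.card_prod]
  refine (Nat.card_congr (Equiv.ofBijective (fun x : Kˣ × Kˣ =>
    (⟨tH m x, (mem_H1_iff hK).2 ⟨x, rfl⟩⟩ : (σF K m).H1))
    ⟨fun x y h => tH_inj hK (congrArg Subtype.val h), ?_⟩)).symm
  rintro ⟨h, hh⟩
  obtain ⟨x, rfl⟩ := (mem_H1_iff hK).1 hh
  exact ⟨x, rfl⟩

theorem H1_comm {h g : GL chevF4.Idx K} (hh : h ∈ chevF4.diagonalSubgroup K)
    (hg : g ∈ chevF4.diagonalSubgroup K) : h * g = g * h := by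
  obtain ⟨a, rfl⟩ := tF_surj hK hh
  obtain ⟨b, rfl⟩ := tF_surj hK hg
  show ChevOrder.torusHom chevF4 K a * ChevOrder.torusHom chevF4 K b =
    ChevOrder.torusHom chevF4 K b * ChevOrder.torusHom chevF4 K a
  rw [← map_mul, ← map_mul, mul_comm]

theorem nW_conj_H1 (i : Fin 2) {h : GL chevF4.Idx K} (hh : h ∈ (σF K m).H1) :
    (RF K).nw (W i) * h * ((RF K).nw (W i))⁻¹ ∈ (σF K m).H1 :=
  ⟨(RF K).nw_conj_H _ hh.1, mul_mem (mul_mem (nW_fixed i) hh.2) (inv_mem (nW_fixed i))⟩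

/-! ### Root group data -/

theorem X_ne_bot (j : Fin 16) : X K m j ≠ ⊥ := by
  intro h
  have hc := card_X hK (m := m) j
  rw [h, Subgroup.card_bot] at hc
  have h2 : ∀ j : Fin 16, 0 < (cls j.val).length / 2 := by decide
  have : 1 < (2 ^ (2 * m + 1)) ^ ((cls j.val).length / 2) :=
    Nat.one_lt_pow (h2 j).ne' (Nat.one_lt_pow (by omega) one_lt_two)
  omega

theorem exists_n_form (i : Fin 2) : ∃ a ∈ X K m (sc i), ∃ h ∈ (σF K m).H1, ∃ c ∈ X K m (sc i),
    ∃ y ∈ X K m (sc i + 8), h * (RF K).nw (W i) = a⁻¹ * y * c⁻¹ := by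
  obtain ⟨y, hy, hy1⟩ := (Subgroup.ne_bot_iff_exists_ne_one.1 (X_ne_bot hK (m := m) (sc i + 8))) |>
    fun ⟨⟨y, hy⟩, h⟩ => (⟨y, hy, fun e => h (Subtype.ext e)⟩ : ∃ y ∈ X K m (sc i + 8), y ≠ 1)
  have hv : (sc i + 8).val = (sc i).val + 8 := by fin_cases i <;> rfl
  have hy' := Subgroup.mem_inf.1 hy
  rw [hv] at hy'
  obtain ⟨a, ha, h, hh, c, hc, e⟩ := rank_one_X i hy'.1 hy'.2 hy1
  exact ⟨a, ha, h, hh, c, hc, y, hy, by rw [e]; group⟩

theorem U_conj_X (i : Fin 2) {x : GL chevF4.Idx K} (hx : x ∈ X K m (sc i)) {r : Fin 16} (hr : r.val < 8)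
    (hne : r ≠ sc i) {y : GL chevF4.Idx K} (hy : y ∈ X K m r) :
    x * y * x⁻¹ ∈ ⨆ s ∈ {s : Fin 16 | s.val < 8 ∧ s ≠ sc i}, X K m s := by
  obtain ⟨hxs, hxf⟩ := Subgroup.mem_inf.1 hx
  obtain ⟨hys, hyf⟩ := Subgroup.mem_inf.1 hy
  fin_cases i
  · have hsub : ∀ j : Fin 16, j.val < 8 → j ≠ sc 0 → cls j.val ⊆ seg 1 8 := by decide +kernel
    have h := (conj_sp DataF4.good rootsF4 (seg_norm 8 le_rfl 0 (by norm_num)) hxs
      (sp_mono DataF4.good rootsF4 (hsub r hr hne) hys)).1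
    refine seg_fix_le hK 8 1 le_rfl (by norm_num) (fun j h1 h2 => le_biSup (X K m) (show j ∈ {s : Fin 16 |
      s.val < 8 ∧ s ≠ sc 0} from ⟨h2, fun e => ?_⟩)) (Subgroup.mem_inf.2 ⟨h, mul_mem (mul_mem hxf hyf) (inv_mem hxf)⟩)
    rw [e] at h1
    exact absurd h1 (by decide)
  · have hsub : ∀ j : Fin 16, j.val < 8 → j ≠ sc 1 → cls j.val ⊆ seg 0 7 := by decide +kernel
    have h := (conj_sp DataF4.good rootsF4 last_norm hxs
      (sp_mono DataF4.good rootsF4 (hsub r hr hne) hys)).1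
    refine seg_fix_le hK 7 0 (by norm_num) (by norm_num) (fun j h1 h2 => le_biSup (X K m) (show j ∈ {s : Fin 16 |
      s.val < 8 ∧ s ≠ sc 1} from ⟨by omega, fun e => ?_⟩)) (Subgroup.mem_inf.2 ⟨h, mul_mem (mul_mem hxf hyf) (inv_mem hxf)⟩)
    rw [e] at h2
    exact absurd h2 (by decide)

theorem X_le_Upos {j : Fin 16} (hj : j.val < 8) : X K m j ≤ (RF K).Upos :=
  inf_le_left.trans ((RF K).span_mono fun r hr => ((cls_spec j.val j.isLt r.val hr).2.2).2 hj)

theorem X_le_Vneg {j : Fin 16} (hj : ¬ j.val < 8) : X K m j ≤ (RF K).Vneg :=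
  inf_le_left.trans ((RF K).span_mono fun r hr hp => hj (((cls_spec j.val j.isLt r.val hr).2.2).1 hp))

/-- The root group data of ²F₄. -/
noncomputable def rgdF4' : RGD.RootData (GL chevF4.Idx K) (Fin 16) (Fin 2) where
  U := X K m
  H := (σF K m).H1
  n i := (RF K).nw (W i)
  simple := sc
  pos j := j.val < 8
  neg j := j + 8
  w := wcl
  neg_neg := by decide
  pos_neg := by decide
  pos_simple := by decide
  simple_inj := by decide
  w_simple := by decide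
  w_pos := by decide
  w_neg := by decide
  w_w := by decide
  H_conj_U h hh j x hx :=
    Subgroup.mem_inf.2 ⟨(RF K).H_conj_span _ hh.1 x (Subgroup.mem_inf.1 hx).1,
      mul_mem (mul_mem hh.2 (Subgroup.mem_inf.1 hx).2) (inv_mem hh.2)⟩
  n_conj_U i j _ hx := nW_conj_X i j hx
  n_conj_H i _ hh := nW_conj_H1 hK i hh
  n_sq i := by rw [nW_sq i]; exact one_mem _
  n_mem i := by
    obtain ⟨a, ha, h, hh, c, hc, y, hy, e⟩ := exists_n_form hK (m := m) i
    have e' : (RF K).nw (W i) = h⁻¹ * (a⁻¹ * y * c⁻¹) := by rw [← e]; group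
    show (RF K).nw (W i) ∈ _
    rw [e']
    exact mul_mem (Subgroup.mem_sup_right (inv_mem hh)) (mul_mem (mul_mem
      (Subgroup.mem_sup_left (Subgroup.mem_sup_left (inv_mem ha)))
      (Subgroup.mem_sup_left (Subgroup.mem_sup_right hy)))
      (Subgroup.mem_sup_left (Subgroup.mem_sup_left (inv_mem hc))))
  U_conj i _ hx _ hr hne _ hy := U_conj_X hK i hx hr hne hy
  rank_one i y hy hne := by
    have hv : (sc i + 8).val = (sc i).val + 8 := by fin_cases i <;> rfl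
    have hy' := Subgroup.mem_inf.1 hy
    rw [hv] at hy'
    obtain ⟨a, ha, h, hh, c, hc, e⟩ := rank_one_X i hy'.1 hy'.2 hne
    exact ⟨a, ha, h, hh, c, hc, e⟩
  U_ne_bot := X_ne_bot hK
  B_inf_V := by
    refine le_bot_iff.1 (le_trans (inf_le_inf (sup_le_sup (iSup₂_le fun j hj => X_le_Upos hK hj)
      (fun _ h => h.1)) (iSup₂_le fun j hj => X_le_Vneg hK hj)) ?_)
    exact (RF K).B_inf_V.le
  U_inf_H := by
    refine le_bot_iff.1 (le_trans (inf_le_inf (iSup₂_le fun j hj => X_le_Upos hK hj) (fun _ h => h.1)) ?_)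
    exact (RF K).U_inf_H.le

theorem Upos_eq : (rgdF4' hK (m := m)).Upos = (σF K m).U1 := by
  refine le_antisymm (iSup₂_le fun j hj x hx => ⟨X_le_Upos hK hj hx, (Subgroup.mem_inf.1 hx).2⟩) ?_
  intro x hx
  refine seg_fix_le hK 8 0 le_rfl (by norm_num) (fun j _ h2 => le_biSup (X K m) (show j ∈ {s : Fin 16 | s.val < 8}
    from h2)) (Subgroup.mem_inf.2 ⟨(RF K).span_mono (fun r hr => (seg_all r.val r.isLt).1 hr) hx.1, hx.2⟩)

theorem rgd_G_le_fix : (rgdF4' hK (m := m)).G ≤ (σF K m).fix := by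
  refine sup_le (sup_le (iSup₂_le fun j _ x hx => (Subgroup.mem_inf.1 hx).2) fun x hx => hx.2)
    (sup_le (fun x hx => hx.2) ((Subgroup.closure_le _).2 ?_))
  rintro _ ⟨i, rfl⟩
  exact nW_fixed i

/-! ### Generation -/

/-- The twisted group. -/
abbrev T2F4 (K : Type*) [Field K] (m : ℕ) : Subgroup (GL chevF4.Idx K) := twistedF4 K (2 ^ m)

theorem op_mem (t : K) : xF K 33 (t ^ 2 ^ m) * xF K 24 t ∈ T2F4 K m :=
  Subgroup.subset_closure ⟨_, Or.inl ⟨t, Or.inl rfl⟩, by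
    simp [f4PairWord, f4p1, f4p4, ChevalleyDatum.wordMat]⟩

theorem om_mem (t : K) : xF K 14 (t ^ 2 ^ m) * xF K 23 t ∈ T2F4 K m :=
  Subgroup.subset_closure ⟨_, Or.inl ⟨t, Or.inr rfl⟩, by
    simp [f4PairWord, f4m1, f4m4, ChevalleyDatum.wordMat]⟩

theorem b_mem (t u : K) : xF K 27 (t ^ 2 ^ m) * xF K 25 t * xF K 28 (t ^ (2 ^ m + 1) + u) *
    xF K 30 (u ^ (2 * 2 ^ m)) ∈ T2F4 K m :=
  Subgroup.subset_closure ⟨_, Or.inr ⟨t, u, Or.inl rfl⟩, by
    simp [b2ClassWord, f4a, f4b, f4ab, f4aab, ChevalleyDatum.wordMat, mul_assoc]⟩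

theorem bm_mem (t u : K) : xF K 20 (t ^ 2 ^ m) * xF K 22 t * xF K 19 (t ^ (2 ^ m + 1) + u) *
    xF K 17 (u ^ (2 * 2 ^ m)) ∈ T2F4 K m :=
  Subgroup.subset_closure ⟨_, Or.inr ⟨t, u, Or.inr rfl⟩, by
    simp [b2ClassWord, f4ma, f4mb, f4mab, f4maab, ChevalleyDatum.wordMat, mul_assoc]⟩

theorem simple_le (i : Fin 2) : X K m (sc i) ≤ T2F4 K m ∧ X K m (sc i + 8) ≤ T2F4 K m := by
  fin_cases i
  · refine ⟨fun g hg => ?_, fun g hg => ?_⟩
    · obtain ⟨t, rfl⟩ := (mem_X0_iff hK).1 hg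
      exact op_mem hK t
    · obtain ⟨t, rfl⟩ := (mem_X8_iff hK).1 hg
      exact om_mem hK t
  · refine ⟨fun g hg => ?_, fun g hg => ?_⟩
    · obtain ⟨t, u, rfl⟩ := (mem_X7_iff hK).1 hg
      exact b_mem hK t u
    · obtain ⟨t, u, rfl⟩ := (mem_X15_iff hK).1 hg
      exact bm_mem hK t u

theorem np_mem (a : Kˣ) :
    ng DataF4.good K 33 ((a ^ 2 ^ m : Kˣ) : K) * ng DataF4.good K 24 (a : K) ∈ T2F4 K m := by
  have h := mul_mem (mul_mem (op_mem hK (m := m) (a : K)) (om_mem hK (m := m) ((a⁻¹ : Kˣ) : K))) (op_mem hK (m := m) (a : K))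
  have e : ng DataF4.good K 33 ((a ^ 2 ^ m : Kˣ) : K) * ng DataF4.good K 24 (a : K) =
      (xF K 33 ((a : K) ^ 2 ^ m) * xF K 24 a) * (xF K 14 (((a⁻¹ : Kˣ) : K) ^ 2 ^ m) * xF K 23 ((a⁻¹ : Kˣ) : K)) *
        (xF K 33 ((a : K) ^ 2 ^ m) * xF K 24 a) := by
    have c1 : ∀ x y : K, xF K 24 x * xF K 33 y = xF K 33 y * xF K 24 x := fun x y =>
      comm_free' hK (r := 33) (s := 24) (by decide) (by decide) (by decide) (by decide) (by decide +kernel) y x
    have c2 : ∀ x y : K, xF K 24 x * xF K 14 y = xF K 14 y * xF K 24 x := fun x y =>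
      comm_free' hK (r := 14) (s := 24) (by decide) (by decide) (by decide) (by decide) (by decide +kernel) y x
    have c3 : ∀ x y : K, xF K 23 x * xF K 33 y = xF K 33 y * xF K 23 x := fun x y =>
      comm_free' hK (r := 33) (s := 23) (by decide) (by decide) (by decide) (by decide) (by decide +kernel) y x
    simp only [ng, show chevF4.neg 33 = 14 from rfl, show chevF4.neg 24 = 23 from rfl, Units.val_pow_eq_pow_val,
      Units.val_inv_eq_inv_val, inv_pow, CharTwo.neg_eq]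
    simp only [mul_assoc]
    congr 1
    rw [← mul_assoc (xF K 33 _) (xF K 24 _), ← c1, mul_assoc, ← mul_assoc (xF K 14 _) (xF K 24 _), ← c2, mul_assoc]
    congr 1
    congr 1
    rw [c1, ← mul_assoc (xF K 23 _) (xF K 33 _), c3, mul_assoc]
  rw [e]
  exact h

theorem ng_commute (s t : K) :
    Commute (ng DataF4.good K 24 s) (ng DataF4.good K 33 t) := by
  have c : ∀ r ∈ [24, 23], ∀ q ∈ [33, 14], ∀ x y : K, Commute (xF K r x) (xF K q y) := by
    intro r hr q hq x y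
    have hd : ∀ r ∈ [24, 23], ∀ q ∈ [33, 14], q < 48 ∧ r < 48 ∧ r ≠ q ∧ r ≠ chevF4.neg q ∧
        chevF4.commTerms q r = [] := by decide +kernel
    obtain ⟨h1, h2, h3, h4, h5⟩ := hd r hr q hq
    exact comm_free' hK h1 h2 h3 h4 h5 y x
  simp only [ng, show chevF4.neg 33 = 14 from rfl, show chevF4.neg 24 = 23 from rfl]
  refine ((Commute.mul_left ?_ ?_).mul_left ?_) <;>
    refine ((Commute.mul_right ?_ ?_).mul_right ?_) <;> exact c _ (by simp) _ (by simp) _ _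

theorem n0_mem : (RF K).nw (W 0) ∈ T2F4 K m := by
  have h := np_mem hK (m := m) 1
  simp only [one_pow, Units.val_one] at h
  have e : (RF K).nw (W 0) = ng DataF4.good K 33 1 * ng DataF4.good K 24 1 := by
    show ng DataF4.good K 33 1 * (ng DataF4.good K 24 1 * 1) = _
    rw [mul_one]
  rwa [e]

theorem tH_pair_mem (a : Kˣ) : tH m (a, 1) ∈ T2F4 K m := by
  have e : hg DataF4.good K 33 ((a ^ 2 ^ m : Kˣ) : K) * hg DataF4.good K 24 (a : K) = tH m (a, 1) := by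
    rw [tH, one_pow, ← hg_simples hK]
    rw [show hg DataF4.good K 27 ((1 : Kˣ) : K) = 1 from by
        rw [hg_eq_torusHom DataF4.good (show 27 < chevF4.nroots by decide)]; simp [Pi.one_def.symm],
      show hg DataF4.good K 25 ((1 : Kˣ) : K) = 1 from by
        rw [hg_eq_torusHom DataF4.good (show 25 < chevF4.nroots by decide)]; simp [Pi.one_def.symm],
      mul_one, mul_one]
  rw [← e]
  have h := mul_mem (np_mem hK (m := m) a) (np_mem hK (m := m) 1)
  simp only [one_pow, Units.val_one] at h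
  have e2 : hg DataF4.good K 33 ((a ^ 2 ^ m : Kˣ) : K) * hg DataF4.good K 24 (a : K) =
      ng DataF4.good K 33 ((a ^ 2 ^ m : Kˣ) : K) * ng DataF4.good K 24 (a : K) *
        (ng DataF4.good K 33 1 * ng DataF4.good K 24 1) := by
    rw [hg, hg, CharTwo.neg_eq, mul_assoc, mul_assoc (ng DataF4.good K 33 _),
      ← mul_assoc (ng DataF4.good K 24 _) (ng DataF4.good K 33 1), (ng_commute hK _ _).eq, mul_assoc]
  rw [e2]
  exact h

theorem H1_le : (σF K m).H1 ≤ T2F4 K m := by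
  intro g hg'
  obtain ⟨⟨a, b⟩, rfl⟩ := (mem_H1_iff hK).1 hg'
  rw [show ((a, b) : Kˣ × Kˣ) = (a, 1) * (1, b) by simp, tH_mul hK]
  refine mul_mem (tH_pair_mem hK a) ?_
  -- conjugate the torus of the pair class
  obtain ⟨u, hu, h, hh, c, hc, y, hy, e⟩ := exists_n_form hK (m := m) 1
  have hm : h * (RF K).nw (W 1) ∈ T2F4 K m := by
    rw [e]
    exact mul_mem (mul_mem (inv_mem ((simple_le hK 1).1 hu)) ((simple_le hK 1).2 hy)) (inv_mem ((simple_le hK 1).1 hc))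
  set s : Kˣ := (b ^ 2 ^ m) ^ (2 * 2 ^ m - 1) with hs
  have h1 := mul_mem (mul_mem (mul_mem hm (tH_pair_mem hK s)) (inv_mem hm)) (inv_mem (tH_pair_mem hK (m := m) s))
  have hk := nW_conj_H1 hK 1 ((mem_H1_iff hK).2 ⟨(s, 1), rfl⟩)
  rw [show h * (RF K).nw (W 1) * tH m (s, 1) * (h * (RF K).nw (W 1))⁻¹ =
    h * ((RF K).nw (W 1) * tH m (s, 1) * ((RF K).nw (W 1))⁻¹) * h⁻¹ by group,
    H1_comm hK hh.1 hk.1, mul_inv_cancel_right] at h1
  have e3 : (RF K).nw (W 1) * tH m (s, 1) * ((RF K).nw (W 1))⁻¹ * (tH m (s, 1))⁻¹ = tH m (1, b) := by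
    rw [mul_inv_eq_iff_eq_mul, ← tH_mul hK, Prod.mk_mul_mk, one_mul, mul_one]
    have e4 : tH m (s, 1) = hg DataF4.good K 33 ((s ^ 2 ^ m : Kˣ) : K) * hg DataF4.good K 24 (s : K) := by
      rw [tH, one_pow, hg_eq_torusHom DataF4.good (show 33 < chevF4.nroots by decide),
        hg_eq_torusHom DataF4.good (show 24 < chevF4.nroots by decide), ← map_mul]
      refine congrArg _ (funext fun (i : Fin 4) => ?_)
      obtain ⟨h1, -, -, h4, -, -⟩ := coroot_vals hK i.val i.isLt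
      simp only [Pi.mul_apply, h1, h4]
      fin_cases i <;> simp
    rw [e4, show (RF K).nw (W 1) * (hg DataF4.good K 33 ((s ^ 2 ^ m : Kˣ) : K) * hg DataF4.good K 24 (s : K)) *
      ((RF K).nw (W 1))⁻¹ = ((RF K).nw (W 1) * hg DataF4.good K 33 ((s ^ 2 ^ m : Kˣ) : K) * ((RF K).nw (W 1))⁻¹) *
      ((RF K).nw (W 1) * hg DataF4.good K 24 (s : K) * ((RF K).nw (W 1))⁻¹) by group,
      nw_conj_hg DataF4.good rootsF4 (W 1) (s := 33) (by decide),
      nw_conj_hg DataF4.good rootsF4 (W 1) (s := 24) (by decide),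
      show wwN chevF4 (W 1) 33 = 37 by decide +kernel, show wwN chevF4 (W 1) 24 = 32 by decide +kernel,
      hg_eq_torusHom DataF4.good (show 37 < chevF4.nroots by decide),
      hg_eq_torusHom DataF4.good (show 32 < chevF4.nroots by decide), ← map_mul, tH]
    refine congrArg _ (funext fun (i : Fin 4) => ?_)
    obtain ⟨-, -, -, -, h5, h6⟩ := coroot_vals hK i.val i.isLt
    simp only [Pi.mul_apply, h5, h6]
    have hq : ∀ x : Kˣ, x ^ (2 ^ (2 * m + 1) - 1) = 1 := fun x => by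
      classical
      rw [← hK, ← Fintype.card_units, pow_card_eq_one]
    have he : 1 ≤ 2 ^ m := Nat.one_le_two_pow
    have hss : s ^ (2 * 2 ^ m + 1) = b ^ 2 ^ m := by
      rw [hs, ← pow_mul _ (2 * 2 ^ m - 1), show (2 * 2 ^ m - 1) * (2 * 2 ^ m + 1) =
          (2 ^ (2 * m + 1) - 1) * 2 + 1 by
        have e : 2 ^ (2 * m + 1) = 2 * (2 ^ m * 2 ^ m) := by ring
        zify [show 1 ≤ 2 * 2 ^ m by omega, show 1 ≤ 2 ^ (2 * m + 1) from Nat.one_le_two_pow] at e ⊢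
        rw [e]; ring, pow_succ, pow_mul, hq, one_pow, one_mul]
    have hb : b = s ^ (2 * 2 ^ m + 2) := by
      conv_lhs => rw [← pow_e_e' hK (m := m) b, ← hss, ← pow_mul]
      rw [show (2 * 2 ^ m + 1) * (2 * 2 ^ m) = (2 ^ (2 * m + 1) - 1) * 2 + (2 * 2 ^ m + 2) by
        have e : 2 ^ (2 * m + 1) = 2 * (2 ^ m * 2 ^ m) := by ring
        zify [show 1 ≤ 2 ^ (2 * m + 1) from Nat.one_le_two_pow] at e ⊢
        rw [e]; ring, pow_add, pow_mul, hq, one_pow, one_mul]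
    fin_cases i
    · simp
    · simp [← hss, pow_succ, pow_mul, mul_comm, mul_pow]
    · simp [hb, pow_succ, pow_mul, mul_comm, mul_assoc, mul_pow]
    · simp
  rwa [e3] at h1

theorem n_mem_twisted (i : Fin 2) : (RF K).nw (W i) ∈ T2F4 K m := by
  obtain ⟨u, hu, h, hh, c, hc, y, hy, e⟩ := exists_n_form hK (m := m) i
  rw [show (RF K).nw (W i) = h⁻¹ * (u⁻¹ * y * c⁻¹) by rw [← e]; group]
  exact mul_mem (inv_mem (H1_le hK hh)) (mul_mem (mul_mem (inv_mem ((simple_le hK i).1 hu))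
    ((simple_le hK i).2 hy)) (inv_mem ((simple_le hK i).1 hc)))

theorem X_le_twisted : ∀ j : Fin 16, X K m j ≤ T2F4 K m := by
  have step : ∀ (i : Fin 2) (j : Fin 16), X K m j ≤ T2F4 K m → X K m (wcl i j) ≤ T2F4 K m := by
    intro i j h
    rw [← map_conj_X]
    rintro _ ⟨x, hx, rfl⟩
    exact mul_mem (mul_mem (n_mem_twisted hK i) (h hx)) (inv_mem (n_mem_twisted hK i))
  have h0 : X K m 0 ≤ T2F4 K m := (simple_le hK 0).1
  have h7 : X K m 7 ≤ T2F4 K m := (simple_le hK 1).1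
  have h8 := step 0 _ h0
  have h6 := step 1 _ h0
  have h14 := step 1 _ h8
  have h2 := step 0 _ h6
  have h4 := step 1 _ h2
  have h10 := step 0 _ h14
  have h12 := step 1 _ h10
  have h1 := step 0 _ h7
  have h15 := step 1 _ h7
  have h5 := step 1 _ h1
  have h9 := step 0 _ h15
  have h3 := step 0 _ h5
  have h13 := step 1 _ h9
  have h11 := step 0 _ h13
  intro j
  fin_cases j
  exacts [h0, h1, h2, h3, h4, h5, h6, h7, h8, h9, h10, h11, h12, h13, h14, h15]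

theorem twisted_eq : twistedF4 K (2 ^ m) = (rgdF4' hK (m := m)).G := by
  set R := rgdF4' hK (m := m)
  refine le_antisymm ((Subgroup.closure_le _).2 ?_) (sup_le (sup_le (iSup₂_le fun j _ => X_le_twisted hK j)
    (H1_le hK)) (sup_le (H1_le hK) ((Subgroup.closure_le _).2 ?_)))
  swap
  · rintro _ ⟨i, rfl⟩
    exact n_mem_twisted hK i
  have hpos : ∀ i, X K m (sc i) ≤ R.G := fun i =>
    ((R.U_le_Upos (R.pos_simple i)).trans R.Upos_le_B).trans R.B_le_G
  have hneg : ∀ i, X K m (sc i + 8) ≤ R.G := fun i => by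
    rw [show sc i + 8 = wcl i (sc i) from (R.w_simple i).symm, ← map_conj_X]
    rintro _ ⟨x, hx, rfl⟩
    exact mul_mem (mul_mem (R.n_mem_G i) (hpos i hx)) (inv_mem (R.n_mem_G i))
  rintro g ⟨w, (⟨t, rfl | rfl⟩ | ⟨t, u, rfl | rfl⟩), e⟩
  · refine hpos 0 ((mem_X0_iff hK).2 ⟨t, Units.ext ?_⟩)
    rw [e]; simp [f4PairWord, f4p1, f4p4, ChevalleyDatum.wordMat]
  · refine hneg 0 ((mem_X8_iff hK).2 ⟨t, Units.ext ?_⟩)
    rw [e]; simp [f4PairWord, f4m1, f4m4, ChevalleyDatum.wordMat]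
  · refine hpos 1 ((mem_X7_iff hK).2 ⟨t, u, Units.ext ?_⟩)
    rw [e]; simp [b2ClassWord, f4a, f4b, f4ab, f4aab, ChevalleyDatum.wordMat, mul_assoc]
  · refine hneg 1 ((mem_X15_iff hK).2 ⟨t, u, Units.ext ?_⟩)
    rw [e]; simp [b2ClassWord, f4ma, f4mb, f4mab, f4maab, ChevalleyDatum.wordMat, mul_assoc]

/-! ### Intersections -/

theorem twisted_le_fix : twistedF4 K (2 ^ m) ≤ (σF K m).fix := twisted_eq hK ▸ rgd_G_le_fix hK

theorem diag_inf : chevF4.diagonalSubgroup K ⊓ twistedF4 K (2 ^ m) = (σF K m).H1 :=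
  le_antisymm (fun _ hx => ⟨(Subgroup.mem_inf.1 hx).1, twisted_le_fix hK (Subgroup.mem_inf.1 hx).2⟩)
    (le_inf (fun _ hx => hx.1) (H1_le hK))

theorem pos_inf : chevF4.posUnipotent K ⊓ twistedF4 K (2 ^ m) = (rgdF4' hK (m := m)).Upos := by
  rw [← chev_Upos DataF4.good rootsF4]
  refine le_antisymm (fun x hx => ?_) (le_inf ?_ ?_)
  · rw [Upos_eq hK]
    exact ⟨(Subgroup.mem_inf.1 hx).1, twisted_le_fix hK (Subgroup.mem_inf.1 hx).2⟩
  · rw [Upos_eq hK]; exact fun _ hx => hx.1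
  · exact iSup₂_le fun j _ => X_le_twisted hK j

theorem borel_inf : chevF4.borelSubgroup K ⊓ twistedF4 K (2 ^ m) = (rgdF4' hK (m := m)).B := by
  set R := rgdF4' hK (m := m)
  refine le_antisymm (fun x hx => ?_) (le_inf ?_ (by rw [twisted_eq hK]; exact R.B_le_G))
  · obtain ⟨hB, hT⟩ := Subgroup.mem_inf.1 hx
    rw [← chev_B DataF4.good rootsF4] at hB
    obtain ⟨u, hu, h, hh, rfl⟩ := (RF K).exists_B hB
    have hf := twisted_le_fix hK hT
    have h2 := hf.2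
    rw [(σF K m).s_mul u ((RF K).B_le_G ((RF K).Upos_le_B hu)) h ((RF K).B_le_G ((RF K).H_le_B hh))] at h2
    obtain ⟨eu, eh⟩ := eq_of_mul_eq ((σF K m).s_Upos hu) hu ((σF K m).s_H h hh) hh h2
    have hu' : u ∈ R.Upos := by
      rw [Upos_eq hK]; exact ⟨hu, (RF K).B_le_G ((RF K).Upos_le_B hu), eu⟩
    exact mul_mem (R.Upos_le_B hu') (R.H_le_B ⟨hh, (RF K).B_le_G ((RF K).H_le_B hh), eh⟩)
  · rw [← chev_B DataF4.good rootsF4]
    refine sup_le ?_ fun _ hx => (RF K).H_le_B hx.1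
    show R.Upos ≤ _
    rw [Upos_eq hK]
    exact fun _ hx => (RF K).Upos_le_B hx.1

theorem monomial_inf : chevF4.monomialSubgroup K ⊓ twistedF4 K (2 ^ m) = (rgdF4' hK (m := m)).N := by
  set R := rgdF4' hK (m := m)
  have hNle : R.N ≤ (RF K).N := by
    refine sup_le (fun _ hx => (RF K).H_le_N hx.1) ((Subgroup.closure_le _).2 ?_)
    rintro _ ⟨i, rfl⟩
    exact (RF K).nw_mem_N _
  have hnw : ∀ l, R.nw l = (RF K).nw (ew l) := by
    intro l
    induction l with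
    | nil => rfl
    | cons i l ih => rw [RGD.RootData.nw_cons, ih, ew_cons, RGD.RootData.nw_append]; rfl
  refine le_antisymm (fun x hx => ?_) (le_inf ((chev_N DataF4.good rootsF4 (F := K)) ▸ hNle)
    (by rw [twisted_eq hK]; exact R.N_le_G))
  obtain ⟨hN, hT⟩ := Subgroup.mem_inf.1 hx
  rw [← chev_N DataF4.good rootsF4] at hN
  rw [twisted_eq hK] at hT
  obtain ⟨b, hb, l, b', hb', e⟩ := exists_bruhat hT
  obtain ⟨k, hk, l₁, hl₁⟩ := (RF K).mem_N_iff.1 hN
  have hBle : R.B ≤ (RF K).B := borel_inf hK ▸ (inf_le_left.trans_eq (chev_B DataF4.good rootsF4).symm)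
  obtain ⟨j, hj, ej⟩ := exists_H_of_doubleCoset (l := l₁) (l' := ew l) (b := k) (b' := 1) ((RF K).H_le_B hk)
    (one_mem _) (hBle hb) (hBle hb') (by rw [mul_one, ← hl₁, e, hnw])
  have h1 : x * (R.nw l)⁻¹ ∈ R.H := by
    refine ⟨?_, ?_⟩
    · rw [hnw, ej, hl₁, show k * (RF K).nw l₁ * (j * (RF K).nw l₁)⁻¹ = k * j⁻¹ by group]
      exact mul_mem hk (inv_mem hj)
    · exact mul_mem (rgd_G_le_fix hK hT) (inv_mem (rgd_G_le_fix hK (R.N_le_G (R.nw_mem_N l))))
  have := mul_mem (R.H_le_N h1) (R.nw_mem_N l)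
  rwa [inv_mul_cancel_right] at this

end Cfsg.Agent.Twisted.F4
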