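/-
Twisted groups, part 23: structure of ²F₄(q).

* `weylHom` : N¹ → D₁₆ with kernel H¹;
* `card_B'`, `card_cells`, `card_twistedF4`;
* `core_bot`, `commutator_F4`, `simple_F4`.
-/
import Cfsg.Agent.Lib.Twisted.F4Twisted
import Cfsg.Agent.Lib.BN.Simple
import Cfsg.Agent.Lib.ChevSt.Auto

set_option autoImplicit false
set_option maxRecDepth 100000
set_option linter.unusedSectionVars false
set_option backward.isDefEq.respectTransparency false

namespace Cfsg.Agent.Twisted.F4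

open Cfsg.Lie Cfsg.Lie.ChevalleyDatum Matrix
open Cfsg.Agent.Chev Cfsg.Agent.ChevBN

/-- A word for an element of the dihedral group. -/
def wd : DihedralGroup 8 → List (Fin 2)
  | DihedralGroup.r k => (List.replicate k.val [(0 : Fin 2), 1]).flatten
  | DihedralGroup.sr k => (0 : Fin 2) :: (List.replicate k.val [(0 : Fin 2), 1]).flatten

/-- The generators of the dihedral group. -/
def gen (i : Fin 2) : DihedralGroup 8 := if i = 0 then DihedralGroup.sr 0 else DihedralGroup.sr 1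

/-- The two reflections of the twisted group as permutations of the roots. -/
def pw (i : Fin 2) (r : ℕ) : ℕ :=
  (if i = 0 then [1, 0, 2, 7, 15, 17, 16, 3, 8, 10, 9, 19, 18, 20, 33, 4, 6, 5, 12, 11, 13, 22, 21, 24, 23, 26, 25, 34,
      36, 35, 42, 41, 43, 14, 27, 29, 28, 38, 37, 39, 44, 31, 30, 32, 40, 45, 47, 46]
    else [0, 5, 4, 3, 2, 1, 6, 11, 9, 8, 14, 7, 13, 12, 10, 23, 21, 30, 18, 28, 27, 16, 25, 15, 32, 22, 31, 20, 19, 29,
      17, 26, 24, 37, 35, 34, 40, 33, 39, 38, 36, 41, 46, 45, 44, 43, 42, 47]).getD r 0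

/-- A word on the roots through the table. -/
def pwN (l : List (Fin 2)) (r : ℕ) : ℕ := l.foldr pw r

theorem pw_spec : ∀ i : Fin 2, ∀ r < chevF4.nroots, wwN chevF4 (W i) r = pw i r ∧ pw i r < chevF4.nroots := by
  decide +kernel

theorem wwN_ew : ∀ (l : List (Fin 2)) (r : ℕ), r < chevF4.nroots →
    wwN chevF4 (ew l) r = pwN l r ∧ pwN l r < chevF4.nroots
  | [], _, h => ⟨rfl, h⟩
  | i :: l, r, h => by
    obtain ⟨e, h'⟩ := wwN_ew l r h
    obtain ⟨e1, h1⟩ := pw_spec i _ h'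
    refine ⟨?_, h1⟩
    show wwN chevF4 (W i ++ ew l) r = pw i (pwN l r)
    rw [wwN, List.foldr_append]
    change wwN chevF4 (W i) (wwN chevF4 (ew l) r) = _
    rw [e, e1]

theorem pwN_cons : ∀ (i : Fin 2) (d : DihedralGroup 8), ∀ s < 48, pwN (i :: wd d) s = pwN (wd (gen i * d)) s := by
  decide +kernel

theorem wd_cons : ∀ (i : Fin 2) (d : DihedralGroup 8), ∀ s < chevF4.nroots,
    wwN chevF4 (ew (i :: wd d)) s = wwN chevF4 (ew (wd (gen i * d))) s := fun i d s hs => by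
  rw [(wwN_ew _ s hs).1, (wwN_ew _ s hs).1]
  exact pwN_cons i d s hs

theorem prod_gen_wd : ∀ d, ((wd d).map gen).prod = d := by decide +kernel

theorem wd_sep : ∀ d e : DihedralGroup 8,
    (∀ j : Fin 16, ((wd d).foldr wcl j).val < 8 ↔ ((wd e).foldr wcl j).val < 8) → d = e := by
  decide +kernel

/-- The interval of classes made negative by d⁻¹. -/
def inv (d : DihedralGroup 8) : ℕ × ℕ :=
  let L := (List.range 8).filter fun j => decide (8 ≤ ((wd d⁻¹).foldr wcl (Fin.ofNat 16 j)).val)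
  if L = [] then (0, 0) else (L.headD 0, L.getLastD 0 + 1)

theorem inv_spec : ∀ d, (inv d).1 ≤ (inv d).2 ∧ (inv d).2 ≤ 8 ∧ ((inv d).1 = 0 ∨ (inv d).2 = 8) ∧
    ∀ j : Fin 16, j.val < 8 →
      (((wd d⁻¹).foldr wcl j).val < 8 ↔ ¬ ((inv d).1 ≤ j.val ∧ j.val < (inv d).2)) := by
  decide +kernel

theorem charP_f4 {K : Type*} [Field K] [Fintype K] {m : ℕ} (hK : Fintype.card K = 2 ^ (2 * m + 1)) :
    CharP K 2 := by
  obtain ⟨p, hp⟩ := CharP.exists K
  haveI := hp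
  obtain ⟨n, hpp, hn⟩ := FiniteField.card K p
  have h : p ∣ 2 ^ (2 * m + 1) := hK ▸ hn ▸ dvd_pow_self p n.ne_zero
  obtain rfl := (Nat.prime_dvd_prime_iff_eq hpp Nat.prime_two).1 (hpp.dvd_of_dvd_pow h)
  exact hp

variable {K : Type*} [Field K] [CharP K 2] [Fintype K] {m : ℕ} (hK : Fintype.card K = 2 ^ (2 * m + 1))
include hK

/-- The representative of an element of the dihedral group. -/
noncomputable def nd (d : DihedralGroup 8) : GL chevF4.Idx K := (rgdF4' hK (m := m)).nw (wd d)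

theorem nw'_eq (l : List (Fin 2)) : (rgdF4' hK (m := m)).nw l = (RF K).nw (ew l) := by
  induction l with
  | nil => rfl
  | cons i l ih => rw [RGD.RootData.nw_cons, ih, ew_cons, RGD.RootData.nw_append]; rfl

theorem nw'_eq_nd (l : List (Fin 2)) :
    (rgdF4' hK (m := m)).nw l = nd hK (m := m) (l.map gen).prod := by
  induction l with
  | nil => rfl
  | cons i l ih =>
    rw [RGD.RootData.nw_cons, ih, List.map_cons, List.prod_cons, nd, nd, ← RGD.RootData.nw_cons, nw'_eq hK,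
      nw'_eq hK]
    exact nw_eq_of_wwN DataF4.good rootsF4 (wd_cons i _)

theorem nd_mul (d e : DihedralGroup 8) : nd hK (m := m) d * nd hK (m := m) e = nd hK (m := m) (d * e) := by
  rw [nd, nd, ← RGD.RootData.nw_append, nw'_eq_nd hK, List.map_append, List.prod_append, prod_gen_wd,
    prod_gen_wd]

theorem nd_one : nd hK (m := m) 1 = 1 := rfl

theorem nd_inv (d : DihedralGroup 8) : (nd hK (m := m) d)⁻¹ = nd hK (m := m) d⁻¹ :=
  inv_eq_of_mul_eq_one_right (by rw [nd_mul, mul_inv_cancel, nd_one])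

theorem nd_mem_N (d : DihedralGroup 8) : nd hK (m := m) d ∈ (rgdF4' hK (m := m)).N :=
  (rgdF4' hK (m := m)).nw_mem_N _

theorem nd_sep {d e : DihedralGroup 8} {h : GL chevF4.Idx K} (hh : h ∈ (rgdF4' hK (m := m)).H)
    (he : nd hK (m := m) d = h * nd hK (m := m) e) : d = e :=
  wd_sep d e fun j => (rgdF4' hK (m := m)).pos_ww_congr hh he j

theorem mem_N'_iff {g : GL chevF4.Idx K} : g ∈ (rgdF4' hK (m := m)).N ↔
    ∃ h ∈ (rgdF4' hK (m := m)).H, ∃ d, g = h * nd hK (m := m) d := by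
  constructor
  · intro hg'
    obtain ⟨h, hh, l, e⟩ := (rgdF4' hK (m := m)).mem_N_iff.1 hg'
    exact ⟨h, hh, _, e.trans (by rw [nw'_eq_nd hK])⟩
  · rintro ⟨h, hh, d, rfl⟩
    exact mul_mem ((rgdF4' hK (m := m)).H_le_N hh) (nd_mem_N hK d)

/-- N¹ maps onto the dihedral group of order 16 with kernel H¹. -/
theorem weylHom : ∃ φ : ↥(rgdF4' hK (m := m)).N →* DihedralGroup 8, Function.Surjective φ ∧
    φ.ker = (rgdF4' hK (m := m)).H.subgroupOf (rgdF4' hK (m := m)).N := by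
  set R := rgdF4' hK (m := m)
  choose h hh d e using fun g : R.N => (mem_N'_iff hK).1 g.2
  have huniq : ∀ (g : R.N) (k : GL chevF4.Idx K) (f : DihedralGroup 8), k ∈ R.H →
      (g : GL chevF4.Idx K) = k * nd hK (m := m) f → d g = f := by
    intro g k f hk hg'
    refine nd_sep hK (mul_mem (inv_mem (hh g)) hk) ?_
    rw [mul_assoc, ← hg', e g, inv_mul_cancel_left]
  let φ : R.N →* DihedralGroup 8 :=
    { toFun := d
      map_one' := huniq 1 1 1 (one_mem _) (by rw [nd_one, mul_one]; rfl)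
      map_mul' := fun a b => huniq (a * b) (h a * (nd hK (m := m) (d a) * h b * (nd hK (m := m) (d a))⁻¹)) _
        (mul_mem (hh a) (R.conj_H_mem (nd_mem_N hK _) (hh b)))
        (by rw [Subgroup.coe_mul, ← nd_mul hK, e a, e b]; group) }
  refine ⟨φ, fun f => ⟨⟨_, nd_mem_N hK f⟩, huniq _ 1 f (one_mem _) (one_mul _).symm⟩, ?_⟩
  ext g
  rw [MonoidHom.mem_ker, Subgroup.mem_subgroupOf]
  show d g = 1 ↔ _
  refine ⟨fun hd => ?_, fun hg' => huniq g g 1 hg' (by rw [nd_one, mul_one])⟩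
  rw [e g, hd, nd_one, mul_one]
  exact hh g

/-! ### Cells -/

/-- The fixed part of the segment of classes made negative by d⁻¹. -/
noncomputable def Aof (d : DihedralGroup 8) : Subgroup (GL chevF4.Idx K) :=
  spF K (seg (inv d).1 (inv d).2) ⊓ (σF K m).fix

theorem seg_le_Upos {a b : ℕ} (hb : b ≤ 8) (hab : a ≤ b) :
    spF K (seg a b) ⊓ (σF K m).fix ≤ (rgdF4' hK (m := m)).Upos :=
  seg_fix_le hK b a hb hab fun j _ h2 => (rgdF4' hK (m := m)).U_le_Upos (r := j) (show j.val < 8 by omega)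

theorem conj_Aof {d : DihedralGroup 8} {a : GL chevF4.Idx K} (ha : a ∈ Aof (m := m) d) :
    (nd hK (m := m) d)⁻¹ * a * nd hK (m := m) d ∈ (rgdF4' hK (m := m)).Vneg := by
  set R := rgdF4' hK (m := m)
  obtain ⟨h1, h2, h3, h4⟩ := inv_spec d
  have hle : Aof (K := K) (m := m) d ≤ R.Vneg.comap (MulAut.conj (nd hK (m := m) d⁻¹)).toMonoidHom :=
    seg_fix_le hK _ _ h2 h1 fun j hj1 hj2 x hx => R.U_le_Vneg
      (r := R.ww (wd d⁻¹) j) (fun hp => ((h4 j (by omega)).1 hp) ⟨hj1, hj2⟩)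
      (R.conj_U_mem (R.map_conj_U _ j) hx)
  have := hle ha
  rw [← nd_inv hK] at this
  simpa using this

theorem exists_cell_split (d : DihedralGroup 8) {u : GL chevF4.Idx K} (hu : u ∈ (rgdF4' hK (m := m)).Upos) :
    ∃ a ∈ Aof (m := m) d, ∃ c, (nd hK (m := m) d)⁻¹ * c * nd hK (m := m) d ∈ (rgdF4' hK (m := m)).Upos ∧
      u = a * c := by
  set R := rgdF4' hK (m := m)
  obtain ⟨h1, h2, h3, h4⟩ := inv_spec d
  have hconj : ∀ a b, b ≤ 8 → a ≤ b → (∀ j, a ≤ j → j < b → ¬ ((inv d).1 ≤ j ∧ j < (inv d).2)) →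
      ∀ c ∈ spF K (seg a b) ⊓ (σF K m).fix,
        (nd hK (m := m) d)⁻¹ * c * nd hK (m := m) d ∈ R.Upos := by
    intro a b hb hab hout c hc
    have hle : spF K (seg a b) ⊓ (σF K m).fix ≤ R.Upos.comap (MulAut.conj (nd hK (m := m) d⁻¹)).toMonoidHom :=
      seg_fix_le hK b a hb hab fun j hj1 hj2 x hx => R.U_le_Upos
        (r := R.ww (wd d⁻¹) j) ((h4 j (by omega)).2 (hout _ hj1 hj2))
        (R.conj_U_mem (R.map_conj_U _ j) hx)
    have := hle hc
    rw [← nd_inv hK] at this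
    simpa using this
  rw [Upos_eq hK] at hu
  have hu' : u ∈ spF K (seg 0 8) ⊓ (σF K m).fix :=
    Subgroup.mem_inf.2 ⟨(RF K).span_mono (fun r hr => (seg_all r.val r.isLt).1 hr) hu.1, hu.2⟩
  rcases h3 with h0 | h8
  · rw [seg_split 8 le_rfl (inv d).2 h2 0 (Nat.zero_le _)] at hu'
    obtain ⟨a, ha, c, hc, rfl⟩ := fix_split DataF4.good rootsF4 (σF K m) σ_rho
      (seg_closed _ h2 0 (Nat.zero_le _)) (seg_closed 8 le_rfl _ h2)
      (seg_split 8 le_rfl (inv d).2 h2 0 (Nat.zero_le _) ▸ seg_closed 8 le_rfl 0 (Nat.zero_le _))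
      (seg_rho _ h2 0 (Nat.zero_le _)) (seg_rho 8 le_rfl _ h2)
      (seg_splits hK _ 0 8 le_rfl (Nat.zero_le _) h2) hu'
    refine ⟨a, by rw [Aof, h0]; exact ha, c, hconj _ 8 le_rfl h2 (fun j hj _ => by omega) c hc, rfl⟩
  · have hu'' := inv_mem hu'
    rw [seg_split 8 le_rfl (inv d).1 (by omega) 0 (Nat.zero_le _)] at hu''
    obtain ⟨c, hc, a, ha, e⟩ := fix_split DataF4.good rootsF4 (σF K m) σ_rho
      (seg_closed _ (by omega) 0 (Nat.zero_le _)) (seg_closed 8 le_rfl _ (by omega))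
      (seg_split 8 le_rfl (inv d).1 (by omega) 0 (Nat.zero_le _) ▸ seg_closed 8 le_rfl 0 (Nat.zero_le _))
      (seg_rho _ (by omega) 0 (Nat.zero_le _)) (seg_rho 8 le_rfl _ (by omega))
      (seg_splits hK _ 0 8 le_rfl (Nat.zero_le _) (by omega)) hu''
    refine ⟨a⁻¹, by rw [Aof, h8]; exact inv_mem ha, c⁻¹,
      hconj 0 _ (by omega) (Nat.zero_le _) (fun j _ hj => by omega) _ (inv_mem hc), ?_⟩
    rw [← _root_.mul_inv_rev, ← e, inv_inv]

theorem Aof_le (d : DihedralGroup 8) : Aof (K := K) (m := m) d ≤ (rgdF4' hK (m := m)).Upos :=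
  seg_le_Upos hK (inv_spec d).2.1 (inv_spec d).1

theorem card_cells : Nat.card ↥(rgdF4' hK (m := m)).G =
    ∑ d : DihedralGroup 8, Nat.card ↥(Aof (K := K) (m := m) d) * Nat.card ↥(rgdF4' hK (m := m)).B := by
  set R := rgdF4' hK (m := m)
  let f : (Σ d : DihedralGroup 8, ↥(Aof (K := K) (m := m) d) × ↥R.B) → R.G := fun x =>
    ⟨x.2.1 * nd hK (m := m) x.1 * x.2.2, mul_mem (mul_mem (R.B_le_G (R.Upos_le_B (Aof_le hK _ x.2.1.2)))
      (R.N_le_G (nd_mem_N hK _))) (R.B_le_G x.2.2.2)⟩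
  have hf : Function.Bijective f := by
    constructor
    · rintro ⟨d, ⟨a, ha⟩, ⟨b, hb⟩⟩ ⟨d', ⟨a', ha'⟩, ⟨b', hb'⟩⟩ e
      have e' : a * nd hK (m := m) d * b = a' * nd hK (m := m) d' * b' := congrArg Subtype.val e
      obtain ⟨k, hk, ek⟩ := exists_H_of_doubleCoset (l := wd d) (l' := wd d') (R.Upos_le_B (Aof_le hK _ ha)) hb
        (R.Upos_le_B (Aof_le hK _ ha')) hb' e'
      obtain rfl := nd_sep hK hk ek
      have h1 : (nd hK (m := m) d')⁻¹ * (a'⁻¹ * a) * nd hK (m := m) d' ∈ R.B ⊓ R.Vneg := by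
        refine Subgroup.mem_inf.2 ⟨?_, conj_Aof hK (mul_mem (inv_mem ha') ha)⟩
        rw [show (nd hK (m := m) d')⁻¹ * (a'⁻¹ * a) * nd hK (m := m) d' =
          (nd hK (m := m) d')⁻¹ * a'⁻¹ * (a * nd hK (m := m) d' * b) * b⁻¹ by group, e']
        rw [show (nd hK (m := m) d')⁻¹ * a'⁻¹ * (a' * nd hK (m := m) d' * b') * b⁻¹ = b' * b⁻¹ by group]
        exact mul_mem hb' (inv_mem hb)
      rw [show R.B ⊓ R.Vneg = ⊥ from R.B_inf_V, Subgroup.mem_bot, conj_eq_one_iff'] at h1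
      obtain rfl := (inv_mul_eq_one.1 h1).symm
      obtain rfl := mul_left_cancel e'
      rfl
    · rintro ⟨g, hg'⟩
      obtain ⟨b, hb, l, b', hb', e⟩ := exists_bruhat hg'
      rw [nw'_eq_nd hK] at e
      set d := (l.map gen).prod
      obtain ⟨u, hu, h, hh, rfl⟩ := R.exists_B hb
      obtain ⟨a, ha, c, hc, rfl⟩ := exists_cell_split hK d hu
      refine ⟨⟨d, ⟨a, ha⟩, ⟨(nd hK (m := m) d)⁻¹ * c * nd hK (m := m) d *
        ((nd hK (m := m) d)⁻¹ * h * nd hK (m := m) d) * b', ?_⟩⟩, Subtype.ext ?_⟩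
      · exact mul_mem (mul_mem (R.Upos_le_B hc) (R.H_le_B (R.nw_conj_H' _ hh))) hb'
      · show a * nd hK (m := m) d * _ = g
        rw [e]; group
  rw [← Nat.card_eq_of_bijective f hf, Nat.card_sigma]
  exact Finset.sum_congr rfl fun d _ => Nat.card_prod _ _
where
  conj_eq_one_iff' {a b : GL chevF4.Idx K} : a⁻¹ * b * a = 1 ↔ b = 1 := by
    constructor
    · intro h
      calc b = a * (a⁻¹ * b * a) * a⁻¹ := by group
        _ = 1 := by rw [h]; group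
    · rintro rfl; group

theorem card_Upos : Nat.card ↥(rgdF4' hK (m := m)).Upos = (2 ^ (2 * m + 1)) ^ 12 := by
  have e : (rgdF4' hK (m := m)).Upos = spF K (seg 0 8) ⊓ (σF K m).fix := by
    refine le_antisymm ?_ (seg_le_Upos hK le_rfl (Nat.zero_le _))
    rw [Upos_eq hK]
    exact fun u hu => Subgroup.mem_inf.2
      ⟨(RF K).span_mono (fun r hr => (seg_all r.val r.isLt).1 hr) hu.1, hu.2⟩
  rw [e, card_seg_fix hK 8 0 le_rfl (Nat.zero_le _), show (seg 0 8).length / 2 = 12 by decide]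

theorem card_B' : Nat.card ↥(rgdF4' hK (m := m)).B =
    (2 ^ (2 * m + 1)) ^ 12 * (2 ^ (2 * m + 1) - 1) ^ 2 := by
  set R := rgdF4' hK (m := m)
  rw [← card_Upos hK, ← card_H1 hK, ← Nat.card_prod]
  refine (Nat.card_congr (Equiv.ofBijective (fun p : R.Upos × (σF K m).H1 =>
    (⟨p.1.1 * p.2.1, mul_mem (R.Upos_le_B p.1.2) (R.H_le_B p.2.2)⟩ : R.B)) ⟨?_, fun g => ?_⟩)).symm
  · rintro ⟨⟨u, hu⟩, ⟨h, hh⟩⟩ ⟨⟨u', hu'⟩, ⟨h', hh'⟩⟩ e
    obtain ⟨rfl, rfl⟩ := eq_of_mul_eq (R := R) hu hu' hh hh' (congrArg Subtype.val e)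
    rfl
  · obtain ⟨u, hu, h, hh, e⟩ := R.exists_B g.2
    exact ⟨(⟨u, hu⟩, ⟨h, hh⟩), Subtype.ext e.symm⟩

omit [CharP K 2] [Fintype K] hK in
theorem sum_cells (q : ℕ) :
    ∑ d : DihedralGroup 8, q ^ ((seg (inv d).1 (inv d).2).length / 2) =
      1 + q + q ^ 2 + 2 * q ^ 3 + q ^ 4 + q ^ 5 + 2 * q ^ 6 + q ^ 7 + q ^ 8 + 2 * q ^ 9 + q ^ 10 + q ^ 11 +
        q ^ 12 := by
  rw [show (Finset.univ : Finset (DihedralGroup 8)) =
    [DihedralGroup.r 0, .r 1, .r 2, .r 3, .r 4, .r 5, .r 6, .r 7, .sr 0, .sr 1, .sr 2, .sr 3, .sr 4, .sr 5,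
      .sr 6, .sr 7].toFinset by decide +kernel, List.sum_toFinset _ (by decide +kernel),
    show ([DihedralGroup.r 0, .r 1, .r 2, .r 3, .r 4, .r 5, .r 6, .r 7, .sr 0, .sr 1, .sr 2, .sr 3, .sr 4, .sr 5,
      .sr 6, .sr 7] : List (DihedralGroup 8)).map (fun d => q ^ ((seg (inv d).1 (inv d).2).length / 2)) =
      ([DihedralGroup.r 0, .r 1, .r 2, .r 3, .r 4, .r 5, .r 6, .r 7, .sr 0, .sr 1, .sr 2, .sr 3, .sr 4, .sr 5,
      .sr 6, .sr 7].map (fun d => (seg (inv d).1 (inv d).2).length / 2)).map (q ^ ·) by rw [List.map_map]; rfl,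
    show ([DihedralGroup.r 0, .r 1, .r 2, .r 3, .r 4, .r 5, .r 6, .r 7, .sr 0, .sr 1, .sr 2, .sr 3, .sr 4, .sr 5,
      .sr 6, .sr 7] : List (DihedralGroup 8)).map (fun d => (seg (inv d).1 (inv d).2).length / 2) =
      [0, 3, 6, 9, 12, 9, 6, 3, 1, 2, 5, 8, 11, 10, 7, 4] by decide +kernel]
  simp only [List.map_cons, List.map_nil, List.sum_cons, List.sum_nil]
  ring

/-- The order of ²F₄(q). -/
theorem card_twistedF4 : Nat.card ↥(twistedF4 K (2 ^ m)) =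
    (2 ^ (2 * m + 1)) ^ 12 * (2 ^ (2 * m + 1) - 1) * ((2 ^ (2 * m + 1)) ^ 3 + 1) *
      ((2 ^ (2 * m + 1)) ^ 4 - 1) * ((2 ^ (2 * m + 1)) ^ 6 + 1) := by
  rw [twisted_eq hK, card_cells hK, ← Finset.sum_mul]
  rw [
    show (∑ d, Nat.card ↥(Aof (K := K) (m := m) d)) =
        ∑ d : DihedralGroup 8, (2 ^ (2 * m + 1)) ^ ((seg (inv d).1 (inv d).2).length / 2) from
      Finset.sum_congr rfl fun d _ => card_seg_fix hK _ _ (inv_spec d).2.1 (inv_spec d).1, sum_cells, card_B' hK]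
  set q := 2 ^ (2 * m + 1)
  have h1 : 1 ≤ q := Nat.one_le_two_pow
  have h4 : 1 ≤ q ^ 4 := Nat.one_le_pow _ _ h1
  zify [h1, h4]
  ring

/-! ### Core, perfectness, simplicity -/

theorem tF_conj (c : Fin 4 → Kˣ) {s : ℕ} (hs : s < chevF4.nroots) (u : K) :
    tF c * xF K s u * (tF c)⁻¹ = xF K s ((ChevOrder.chi (D := chevF4) c s : K) * u) := by
  rw [mul_inv_eq_iff_eq_mul]
  refine Units.ext ?_
  rw [Units.val_mul, Units.val_mul, coe_xg, coe_xg, ChevOrder.coe_torusHom]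
  exact ChevSt.charDiag_conj DataF4.good ⟨chi_neg c, chi_add c⟩ hs u
where
  chi_add (c : Fin 4 → Kˣ) : ∀ a b k, a < chevF4.nroots → b < chevF4.nroots → chevF4.chainRoot a b 1 = some k →
      ChevOrder.chi (D := chevF4) c k = ChevOrder.chi (D := chevF4) c a * ChevOrder.chi (D := chevF4) c b := by
    intro a b k ha hb e
    simp only [ChevOrder.chi, ← Finset.prod_mul_distrib]
    refine Finset.prod_congr rfl fun i _ => ?_
    rw [← _root_.zpow_add, (ChevSt.isLin_cartan DataF4.good i.isLt).add a ha b hb k e]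
  chi_neg (c : Fin 4 → Kˣ) : ∀ r, r < chevF4.nroots →
      ChevOrder.chi (D := chevF4) c (chevF4.neg r) = (ChevOrder.chi (D := chevF4) c r)⁻¹ := by
    intro r hr
    simp only [ChevOrder.chi, ← Finset.prod_inv_distrib]
    refine Finset.prod_congr rfl fun i _ => ?_
    rw [← _root_.zpow_neg, (ChevSt.isLin_cartan DataF4.good i.isLt).neg r hr]

theorem core_bot : ((rgdF4' hK (m := m)).B.subgroupOf (rgdF4' hK (m := m)).G).normalCore = ⊥ := by
  set R := rgdF4' hK (m := m)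
  rw [eq_bot_iff]
  rintro ⟨g, hg'⟩ hc
  have hcB : ∀ b ∈ R.G, b * g * b⁻¹ ∈ R.B := fun b hb => hc ⟨b, hb⟩
  have hw : ∀ j : Fin 16, j.val < 8 → ¬ ((wd (DihedralGroup.r 4)).foldr wcl j).val < 8 := by decide +kernel
  have hH : ∀ b ∈ R.G, b * g * b⁻¹ ∈ R.H := by
    intro b hb
    obtain ⟨u, hu, h, hh, e⟩ := R.exists_B (hcB b hb)
    set n := R.nw (wd (DihedralGroup.r 4))
    have hn : n ∈ R.G := R.N_le_G (R.nw_mem_N _)
    have h1 := hcB (n * b) (mul_mem hn hb)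
    rw [show n * b * g * (n * b)⁻¹ = n * (b * g * b⁻¹) * n⁻¹ by group, e] at h1
    have h2 : n * u * n⁻¹ ∈ R.B ⊓ R.Vneg := by
      refine Subgroup.mem_inf.2 ⟨?_, R.span_conj (fun r hr y hy => R.U_le_span (hw r hr)
        (R.conj_U_mem (R.map_conj_U _ r) hy)) u hu⟩
      have := mul_mem h1 (R.H_le_B (R.nw_conj_H (wd (DihedralGroup.r 4)) (inv_mem hh)))
      rwa [show n * (u * h) * n⁻¹ * (n * h⁻¹ * n⁻¹) = n * u * n⁻¹ by group] at this
    rw [show R.B ⊓ R.Vneg = ⊥ from R.B_inf_V, Subgroup.mem_bot, conj_eq_one_iff] at h2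
    rw [e, h2, one_mul]
    exact hh
  have h1 : g ∈ R.H := by simpa using hH 1 (one_mem _)
  have hcomm : ∀ j : Fin 16, j.val < 8 → ∀ u ∈ X K m j, g * u * g⁻¹ = u := by
    intro j hj u hu
    have h2 := hH u ((R.U_le_Upos (r := j) hj).trans (R.Upos_le_B.trans R.B_le_G) hu)
    have h3 : (u * g * u⁻¹) * g⁻¹ ∈ R.Upos ⊓ R.H := by
      refine Subgroup.mem_inf.2 ⟨?_, mul_mem h2 (inv_mem h1)⟩
      rw [show u * g * u⁻¹ * g⁻¹ = u * (g * u⁻¹ * g⁻¹) by group]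
      exact mul_mem (R.U_le_Upos (r := j) hj hu) (R.H_conj_span _ h1 _ (R.U_le_Upos (r := j) hj (inv_mem hu)))
    rw [show R.Upos ⊓ R.H = ⊥ from R.U_inf_H, Subgroup.mem_bot, mul_inv_eq_one, mul_inv_eq_iff_eq_mul] at h3
    rw [mul_inv_eq_iff_eq_mul, h3]
  obtain ⟨c, rfl⟩ := tF_surj hK h1.1
  have e0 := hcomm 0 (by decide) _ ((mem_X0_iff hK).2 ⟨1, rfl⟩)
  have e7 := hcomm 7 (by decide) _ ((mem_X7_iff hK).2 ⟨1, 0, rfl⟩)
  rw [show tF c * (xF K 33 (1 ^ 2 ^ m) * xF K 24 1) * (tF c)⁻¹ =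
    (tF c * xF K 33 (1 ^ 2 ^ m) * (tF c)⁻¹) * (tF c * xF K 24 1 * (tF c)⁻¹) by group,
    tF_conj hK c (by decide), tF_conj hK c (by decide), one_pow, mul_one, mul_one] at e0
  rw [show tF c * (xF K 27 (1 ^ 2 ^ m) * xF K 25 1 * xF K 28 (1 ^ (2 ^ m + 1) + 0) * xF K 30 (0 ^ (2 * 2 ^ m))) *
      (tF c)⁻¹ = (tF c * xF K 27 (1 ^ 2 ^ m) * (tF c)⁻¹) * (tF c * xF K 25 1 * (tF c)⁻¹) *
      (tF c * xF K 28 (1 ^ (2 ^ m + 1) + 0) * (tF c)⁻¹) * (tF c * xF K 30 (0 ^ (2 * 2 ^ m)) * (tF c)⁻¹) by group,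
    tF_conj hK c (by decide), tF_conj hK c (by decide), tF_conj hK c (by decide), tF_conj hK c (by decide),
    one_pow, mul_one, mul_one] at e7
  obtain ⟨a1, a2⟩ := pair_unique hK e0
  obtain ⟨b1, b2, -, -⟩ := b2_unique hK e7
  have hker : c ∈ (ChevOrder.torusHom chevF4 K).ker := by
    rw [ChevOrder.torusHom_ker DataF4.good rootsF4, MonoidHom.mem_ker]
    refine funext fun (j : Fin chevF4.rank) => ?_
    show ChevOrder.chi (D := chevF4) c (chevF4.simple j.val) = 1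
    refine Units.ext ?_
    fin_cases j
    · exact a1
    · exact b1
    · exact b2
    · exact a2
  rw [Subgroup.mem_bot]
  exact Subtype.ext (MonoidHom.mem_ker.1 hker)

theorem b2_mul (a b c e a' b' c' e' : K) :
    xF K 27 a * xF K 25 b * xF K 28 c * xF K 30 e * (xF K 27 a' * xF K 25 b' * xF K 28 c' * xF K 30 e') =
      xF K 27 (a + a') * xF K 25 (b + b') * xF K 28 (a' * b + c + c') * xF K 30 (a' ^ 2 * b + e + e') := by
  have com : ∀ r ∈ [28, 30], ∀ s ∈ [27, 25, 28], r ≠ s → ∀ x y : K, xF K r x * xF K s y = xF K s y * xF K r x := by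
    intro r hr s hs hne x y
    have hd : ∀ r ∈ [28, 30], ∀ s ∈ [27, 25, 28], r ≠ s → s < 48 ∧ r < 48 ∧ r ≠ chevF4.neg s ∧
        ∀ τ ∈ chevF4.commTerms s r, τ.2.1 % 2 = 0 := by decide +kernel
    obtain ⟨h1, h2, h3, h4⟩ := hd r hr s hs hne
    apply Units.ext
    rw [Units.val_mul, Units.val_mul, coe_xg, coe_xg, DataF4.good.commutator h1 h2 hne h3]
    have hw : chevF4.wordMat K (chevF4.commWord K s r y x) = 1 := by
      rw [ChevalleyDatum.wordMat, ChevalleyDatum.commWord, List.map_map]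
      refine List.prod_eq_one fun M hM => ?_
      obtain ⟨τ, hτ, rfl⟩ := List.mem_map.1 hM
      rw [Function.comp_apply, show ((τ.2.1 : ℤ) : K) = 0 from
        (CharP.intCast_eq_zero_iff K 2 _).2 (Int.dvd_of_emod_eq_zero (h4 τ hτ)), zero_mul, zero_mul,
        DataF4.good.x_zero]
    rw [hw, mul_one]
  have ad : ∀ r < chevF4.nroots, ∀ x y : K, xF K r x * xF K r y = xF K r (x + y) :=
    fun r hr x y => xg_add DataF4.good hr x y
  simp only [← ad 27 (by decide), ← ad 25 (by decide), ← ad 28 (by decide), ← ad 30 (by decide), mul_assoc]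
  congr 1
  rw [← mul_assoc (xF K 30 e), com 30 (by simp) 27 (by simp) (by decide), mul_assoc,
    ← mul_assoc (xF K 28 c), com 28 (by simp) 27 (by simp) (by decide), mul_assoc, ← mul_assoc (xF K 25 b),
    comm2725 hK, mul_assoc, mul_assoc, mul_assoc]
  congr 2
  rw [← mul_assoc (xF K 30 e), com 30 (by simp) 25 (by simp) (by decide), mul_assoc,
    ← mul_assoc (xF K 28 c), com 28 (by simp) 25 (by simp) (by decide), mul_assoc,
    ← mul_assoc (xF K 30 (a' ^ 2 * b)) (xF K 25 b'), com 30 (by simp) 25 (by simp) (by decide), mul_assoc,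
    ← mul_assoc (xF K 28 (a' * b)) (xF K 25 b'), com 28 (by simp) 25 (by simp) (by decide), mul_assoc]
  congr 2
  rw [← mul_assoc (xF K 30 e), com 30 (by simp) 28 (by simp) (by decide), mul_assoc,
    ← mul_assoc (xF K 30 (a' ^ 2 * b)), com 30 (by simp) 28 (by simp) (by decide), mul_assoc,
    ← mul_assoc (xF K 30 (a' ^ 2 * b)), com 30 (by simp) 28 (by simp) (by decide), mul_assoc]

theorem chi_tH (a : Kˣ) :
    ChevOrder.chi (D := chevF4) ![a ^ 2 ^ m, (1 : Kˣ) ^ 2 ^ m, 1, a] 24 = a ^ 2 ∧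
    ChevOrder.chi (D := chevF4) ![a ^ 2 ^ m, (1 : Kˣ) ^ 2 ^ m, 1, a] 25 = a⁻¹ ∧
    ChevOrder.chi (D := chevF4) ![a ^ 2 ^ m, (1 : Kˣ) ^ 2 ^ m, 1, a] 28 = (a ^ (2 ^ m + 1))⁻¹ := by
  have hc : ∀ i < 4, chevF4.cartan i 24 = ([0, 0, -1, 2] : List ℤ).getD i 0 ∧
      chevF4.cartan i 25 = ([0, -2, 2, -1] : List ℤ).getD i 0 ∧
      chevF4.cartan i 28 = ([-1, 0, 1, -1] : List ℤ).getD i 0 := by decide +kernel
  obtain ⟨e00, e01, e02⟩ := hc 0 (by norm_num)
  obtain ⟨e10, e11, e12⟩ := hc 1 (by norm_num)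
  obtain ⟨e20, e21, e22⟩ := hc 2 (by norm_num)
  obtain ⟨e30, e31, e32⟩ := hc 3 (by norm_num)
  refine ⟨?_, ?_, ?_⟩ <;>
    (show ∏ i : Fin 4, (![a ^ 2 ^ m, (1 : Kˣ) ^ 2 ^ m, 1, a] i) ^ chevF4.cartan i.val _ = _
     simp [Fin.prod_univ_four, e00, e01, e02, e10, e11, e12, e20, e21, e22, e30, e31, e32, pow_succ, 
       mul_comm])

/-- ²F₄(q) is perfect for m ≥ 1. -/
theorem perfect_F4 (hm : 1 ≤ m) :
    twistedF4 K (2 ^ m) ≤ ⁅twistedF4 K (2 ^ m), twistedF4 K (2 ^ m)⁆ := by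
  classical
  set T := twistedF4 K (2 ^ m) with hT
  set C := ⁅T, T⁆
  have hle : ∀ j, X K m j ≤ T := fun j => X_le_twisted hK j
  obtain ⟨a, ha⟩ : ∃ a : Kˣ, a ≠ 1 := by
    have : 1 < Fintype.card Kˣ := by
      have : 2 ^ 3 ≤ 2 ^ (2 * m + 1) := Nat.pow_le_pow_right two_pos (by omega)
      rw [Fintype.card_units, hK]; omega
    exact Fintype.exists_ne_of_one_lt_card this 1
  have hH : tH m (a, 1) ∈ T := H1_le hK ((mem_H1_iff hK).2 ⟨_, rfl⟩)
  obtain ⟨c24, c25, c28⟩ := chi_tH hK (m := m) a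
  have hne24 : ((a ^ 2 : Kˣ) : K) + 1 ≠ 0 := by
    intro h
    apply ha
    refine Units.ext ?_
    have h2 : (a : K) ^ 2 = 1 ^ 2 := by
      rw [one_pow, ← CharTwo.add_eq_zero, ← h]; simp
    exact frobenius_inj K 2 h2
  have hne25 : ((a⁻¹ : Kˣ) : K) + 1 ≠ 0 := by
    intro h
    apply ha
    rw [CharTwo.add_eq_zero, Units.val_eq_one, inv_eq_one] at h
    exact h
  have hne28 : (((a ^ (2 ^ m + 1))⁻¹ : Kˣ) : K) + 1 ≠ 0 := by
    intro h
    apply ha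
    rw [CharTwo.add_eq_zero, Units.val_eq_one, inv_eq_one] at h
    have hq : a ^ (2 ^ (2 * m + 1) - 1) = 1 := by rw [← hK, ← Fintype.card_units, pow_card_eq_one]
    have e : (2 ^ m + 1) * (2 * 2 ^ m - 2) + 1 = 2 ^ (2 * m + 1) - 1 := by
      have e : 2 ^ (2 * m + 1) = 2 * (2 ^ m * 2 ^ m) := by ring
      have : 2 ≤ 2 * 2 ^ m := Nat.le_mul_of_pos_right 2 (Nat.two_pow_pos m)
      zify [this, show 1 ≤ 2 ^ (2 * m + 1) from Nat.one_le_two_pow] at e ⊢
      rw [e]; ring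
    rwa [← e, pow_add, pow_mul, h, one_pow, one_mul, pow_one] at hq
  have hcomm : ∀ j, ∀ x ∈ X K m j, tH m (a, 1) * x * (tH m (a, 1))⁻¹ * x⁻¹ ∈ C := fun j x hx =>
    Subgroup.commutator_mem_commutator hH (hle j hx)
  have hX0 : X K m 0 ≤ C := by
    intro g hg'
    obtain ⟨t, rfl⟩ := (mem_X0_iff hK).1 hg'
    set s := t * ((((a ^ 2 : Kˣ) : K) + 1)⁻¹) with hs
    have hx := (mem_X0_iff hK (m := m)).2 ⟨s, rfl⟩
    have h1 := hcomm 0 _ hx
    have h2 : tH m (a, 1) * (xF K 33 (s ^ 2 ^ m) * xF K 24 s) * (tH m (a, 1))⁻¹ ∈ X K m 0 :=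
      Subgroup.mem_inf.2 ⟨(RF K).H_conj_span _ (tF_mem hK _) _ (Subgroup.mem_inf.1 hx).1,
        mul_mem (mul_mem ((mem_H1_iff hK).2 ⟨_, rfl⟩).2 (Subgroup.mem_inf.1 hx).2)
          (inv_mem ((mem_H1_iff hK).2 ⟨_, rfl⟩).2)⟩
    obtain ⟨w, hw⟩ := (mem_X0_iff hK).1 h2
    have e : tH m (a, 1) * (xF K 33 (s ^ 2 ^ m) * xF K 24 s) * (tH m (a, 1))⁻¹ =
        (tH m (a, 1) * xF K 33 (s ^ 2 ^ m) * (tH m (a, 1))⁻¹) * (tH m (a, 1) * xF K 24 s * (tH m (a, 1))⁻¹) := by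
      group
    rw [e, tH, tF_conj hK _ (by decide), tF_conj hK _ (by decide)] at hw
    obtain ⟨-, hw2⟩ := pair_unique hK hw
    rw [c24] at hw2
    obtain ⟨v, hv⟩ := (mem_X0_iff hK).1 (mul_mem h2 (inv_mem hx))
    have hwv : v + s = w := by
      have e5 : xF K 33 (v ^ 2 ^ m) * xF K 24 v * (xF K 33 (s ^ 2 ^ m) * xF K 24 s) =
          xF K 33 (w ^ 2 ^ m) * xF K 24 w := by
        rw [← hv, inv_mul_cancel_right, e, tH, tF_conj hK _ (by decide), tF_conj hK _ (by decide), hw]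
      rw [show xF K 33 (v ^ 2 ^ m) * xF K 24 v * (xF K 33 (s ^ 2 ^ m) * xF K 24 s) =
          xF K 33 (v ^ 2 ^ m) * (xF K 24 v * xF K 33 (s ^ 2 ^ m)) * xF K 24 s by group,
        comm_free' hK (r := 33) (s := 24) (by decide) (by decide) (by decide) (by decide) (by decide +kernel),
        show xF K 33 (v ^ 2 ^ m) * (xF K 33 (s ^ 2 ^ m) * xF K 24 v) * xF K 24 s =
          (xF K 33 (v ^ 2 ^ m) * xF K 33 (s ^ 2 ^ m)) * (xF K 24 v * xF K 24 s) by group,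
        xg_add DataF4.good (by decide), xg_add DataF4.good (by decide)] at e5
      exact (pair_unique hK e5).2
    have hvt : v = t := by
      have hv' : v = (((a ^ 2 : Kˣ) : K) + 1) * s := by
        rw [← hw2] at hwv
        linear_combination hwv - s * (CharTwo.two_eq_zero : (2 : K) = 0)
      rw [hv', hs, mul_comm t, ← mul_assoc, mul_inv_cancel₀ hne24, one_mul]
    rw [hvt] at hv
    exact hv ▸ h1
  have hX7 : X K m 7 ≤ C := by
    have hp : ∀ x ∈ X K m 7, tH m (a, 1) * x * (tH m (a, 1))⁻¹ ∈ X K m 7 := fun x hx =>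
      Subgroup.mem_inf.2 ⟨(RF K).H_conj_span _ (tF_mem hK _) _ (Subgroup.mem_inf.1 hx).1,
        mul_mem (mul_mem ((mem_H1_iff hK).2 ⟨_, rfl⟩).2 (Subgroup.mem_inf.1 hx).2)
          (inv_mem ((mem_H1_iff hK).2 ⟨_, rfl⟩).2)⟩
    -- the commutator with an element, in coordinates
    have key : ∀ t u : K, ∃ t' u' : K, t' = (((a⁻¹ : Kˣ) : K) + 1) * t ∧
        (t = 0 → u' = ((((a ^ (2 ^ m + 1))⁻¹ : Kˣ) : K) + 1) * u) ∧
        xF K 27 (t' ^ 2 ^ m) * xF K 25 t' * xF K 28 (t' ^ (2 ^ m + 1) + u') * xF K 30 (u' ^ (2 * 2 ^ m)) ∈ C := by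
      intro t u
      have hx := (mem_X7_iff hK (m := m)).2 ⟨t, u, rfl⟩
      have h1 := hcomm 7 _ hx
      have h2 := hp _ hx
      obtain ⟨t', u', hv⟩ := (mem_X7_iff hK).1 (mul_mem h2 (inv_mem hx))
      refine ⟨t', u', ?_⟩
      have e := mul_inv_eq_iff_eq_mul.1 hv
      rw [b2_mul hK, show tH m (a, 1) * (xF K 27 (t ^ 2 ^ m) * xF K 25 t * xF K 28 (t ^ (2 ^ m + 1) + u) *
          xF K 30 (u ^ (2 * 2 ^ m))) * (tH m (a, 1))⁻¹ = (tH m (a, 1) * xF K 27 (t ^ 2 ^ m) * (tH m (a, 1))⁻¹) *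
          (tH m (a, 1) * xF K 25 t * (tH m (a, 1))⁻¹) *
          (tH m (a, 1) * xF K 28 (t ^ (2 ^ m + 1) + u) * (tH m (a, 1))⁻¹) *
          (tH m (a, 1) * xF K 30 (u ^ (2 * 2 ^ m)) * (tH m (a, 1))⁻¹) by group,
        tH, tF_conj hK _ (by decide), tF_conj hK _ (by decide), tF_conj hK _ (by decide),
        tF_conj hK _ (by decide)] at e
      obtain ⟨-, eb, ec, -⟩ := b2_unique hK e
      rw [c25] at eb
      rw [c28] at ec
      refine ⟨by linear_combination (-1 : K) * eb - t * (CharTwo.two_eq_zero : (2 : K) = 0), ?_, hv ▸ h1⟩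
      rintro rfl
      have ht' : t' = 0 := by
        linear_combination (-1 : K) * eb
      rw [ht', zero_pow (Nat.two_pow_pos m).ne', zero_pow (Nat.succ_ne_zero _), mul_zero, zero_add, zero_add,
        zero_add] at ec
      linear_combination (-1 : K) * ec - u * (CharTwo.two_eq_zero : (2 : K) = 0)
    have hcen : ∀ u : K, xF K 27 ((0 : K) ^ 2 ^ m) * xF K 25 0 * xF K 28 ((0 : K) ^ (2 ^ m + 1) + u) *
        xF K 30 (u ^ (2 * 2 ^ m)) ∈ C := by
      intro u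
      obtain ⟨t', u', ht', hu', hC⟩ := key 0 (u * (((((a ^ (2 ^ m + 1))⁻¹ : Kˣ) : K) + 1)⁻¹))
      rw [mul_zero] at ht'
      rw [hu' rfl, mul_comm u, ← mul_assoc, mul_inv_cancel₀ hne28, one_mul, ht'] at hC
      exact hC
    intro g hg'
    obtain ⟨t, u, rfl⟩ := (mem_X7_iff hK).1 hg'
    obtain ⟨t', u', ht', -, hC⟩ := key (t * ((((a⁻¹ : Kˣ) : K) + 1)⁻¹)) 0
    rw [mul_comm t, ← mul_assoc, mul_inv_cancel₀ hne25, one_mul] at ht'
    subst ht'
    have := mul_mem hC (hcen (u - u'))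
    rw [b2_mul hK] at this
    convert this using 1
    rw [zero_pow (Nat.two_pow_pos m).ne', zero_pow (Nat.succ_ne_zero _)]
    simp only [add_zero, zero_add, zero_mul, ne_eq, OfNat.ofNat_ne_zero, not_false_eq_true, zero_pow]
    congr 2
    · congr 1
      ring
    · rw [← mem_X7_iff.add_pow_char_pow_two]
      congr 1
      ring
  have hnorm : ∀ n ∈ T, ∀ x ∈ C, n * x * n⁻¹ ∈ C := fun n hn x hx =>
    Subgroup.mem_normalizer_iff.1 (commutator_le_normalizer hn) x |>.1 hx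
  have hneg : ∀ i : Fin 2, X K m (sc i) ≤ C → X K m (sc i + 8) ≤ C := by
    intro i h
    rw [show sc i + 8 = wcl i (sc i) from ((rgdF4' hK (m := m)).w_simple i).symm, ← map_conj_X]
    rintro _ ⟨x, hx, rfl⟩
    exact hnorm _ (n_mem_twisted hK i) _ (h hx)
  refine (Subgroup.closure_le _).2 ?_
  rintro g ⟨w, (⟨t, rfl | rfl⟩ | ⟨t, u, rfl | rfl⟩), e⟩
  · refine hX0 ((mem_X0_iff hK).2 ⟨t, Units.ext ?_⟩)
    rw [e]; simp [f4PairWord, f4p1, f4p4, ChevalleyDatum.wordMat]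
  · refine hneg 0 hX0 ((mem_X8_iff hK).2 ⟨t, Units.ext ?_⟩)
    rw [e]; simp [f4PairWord, f4m1, f4m4, ChevalleyDatum.wordMat]
  · refine hX7 ((mem_X7_iff hK).2 ⟨t, u, Units.ext ?_⟩)
    rw [e]; simp [b2ClassWord, f4a, f4b, f4ab, f4aab, ChevalleyDatum.wordMat, mul_assoc]
  · refine hneg 1 hX7 ((mem_X15_iff hK).2 ⟨t, u, Units.ext ?_⟩)
    rw [e]; simp [b2ClassWord, f4ma, f4mb, f4mab, f4maab, ChevalleyDatum.wordMat, mul_assoc]
where
  commutator_le_normalizer {T : Subgroup (GL chevF4.Idx K)} :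
      T ≤ Subgroup.normalizer ((⁅T, T⁆ : Subgroup (GL chevF4.Idx K)) : Set (GL chevF4.Idx K)) :=
    Subgroup.normalizer_commutator_ge_left T T

theorem commutator_F4 (hm : 1 ≤ m) : commutator ↥(twistedF4 K (2 ^ m)) = ⊤ := by
  refine eq_top_iff.2 fun x _ => ?_
  have h := perfect_F4 hK hm x.2
  have e : ⁅twistedF4 K (2 ^ m), twistedF4 K (2 ^ m)⁆ =
      (commutator ↥(twistedF4 K (2 ^ m))).map (twistedF4 K (2 ^ m)).subtype := by
    rw [_root_.commutator_def, Subgroup.map_commutator, ← MonoidHom.range_eq_map, Subgroup.range_subtype]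
  rw [e] at h
  obtain ⟨y, hy, hxy⟩ := h
  rwa [← show y = x from Subtype.ext hxy]

theorem isSolvable_B : Group.IsSolvable ↥((rgdF4' hK (m := m)).B.subgroupOf (rgdF4' hK (m := m)).G) := by
  set R := rgdF4' hK (m := m)
  set F := R.G
  have hB : ∀ x : ↥(R.B.subgroupOf F), ((x : F) : GL chevF4.Idx K) ∈ R.B := fun x => x.2
  choose u hu h hh e using fun x : ↥(R.B.subgroupOf F) => R.exists_B (hB x)
  have huniq := fun (x : ↥(R.B.subgroupOf F)) (a b : GL chevF4.Idx K) (ha : a ∈ R.Upos) (hb : b ∈ R.H)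
    (hx : ((x : F) : GL chevF4.Idx K) = a * b) =>
      (eq_of_mul_eq (R := R) (hu x) ha (hh x) hb ((e x).symm.trans hx)).2
  let φ : ↥(R.B.subgroupOf F) →* ↥(σF K m).H1 :=
    { toFun := fun x => ⟨h x, hh x⟩
      map_one' := Subtype.ext (huniq 1 1 1 (one_mem _) (one_mem _) (by simp))
      map_mul' := fun x y => Subtype.ext (huniq (x * y) (u x * (h x * u y * (h x)⁻¹)) (h x * h y)
        (mul_mem (hu x) (R.H_conj_span _ (hh x) _ (hu y))) (mul_mem (hh x) (hh y))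
        (by rw [Subgroup.coe_mul, Subgroup.coe_mul, e x, e y]; group)) }
  letI : CommGroup ↥(σF K m).H1 :=
    { (inferInstance : Group ↥(σF K m).H1) with
      mul_comm := fun a b => Subtype.ext (H1_comm hK a.2.1 b.2.1) }
  haveI : Group.IsSolvable ↥R.Upos := by
    haveI : Fact (Nat.Prime 2) := ⟨Nat.prime_two⟩
    have hp : IsPGroup 2 ↥R.Upos :=
      IsPGroup.of_card (n := (2 * m + 1) * 12) (by rw [card_Upos hK, ← pow_mul])
    haveI := hp.isNilpotent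
    exact inferInstance
  let ι : ↥R.Upos →* ↥(R.B.subgroupOf F) :=
    { toFun := fun x => ⟨⟨x, R.B_le_G (R.Upos_le_B x.2)⟩, R.Upos_le_B x.2⟩
      map_one' := rfl
      map_mul' := fun _ _ => rfl }
  refine Group.isSolvable_of_ker_le_range ι φ fun x hx => ?_
  have h1 : h x = 1 := congrArg Subtype.val hx
  have hx' : ((x : F) : GL chevF4.Idx K) = u x := by rw [e x, h1, mul_one]
  exact ⟨⟨((x : F) : GL chevF4.Idx K), (hx'.symm ▸ hu x : ((x : F) : GL chevF4.Idx K) ∈ R.Upos)⟩, rfl⟩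

theorem irreducible_F4 : (rgdF4' hK (m := m)).bnPair.Irreducible := by
  set R := rgdF4' hK (m := m)
  intro J hJ hne hne'
  obtain ⟨s, hs⟩ := hne
  obtain ⟨t, ht, htJ⟩ := hne'
  obtain ⟨i, rfl⟩ := hJ hs
  obtain ⟨j, rfl⟩ := ht
  refine ⟨_, hs, _, ⟨⟨j, rfl⟩, htJ⟩, fun hB => ?_⟩
  have hij : i ≠ j := fun h => htJ (h ▸ hs)
  have hinv : ∀ k, (R.n k)⁻¹ = R.n k := fun k => nW_inv k
  have hw : R.nw [i, j, i, j] ∈ R.B := by
    have h' : R.n i * R.n j * (R.n i)⁻¹ * (R.n j)⁻¹ ∈ R.B := hB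
    rw [hinv, hinv] at h'
    simpa [mul_assoc] using h'
  have h2 := (R.mem_H_iff _).1 ((R.nw_mem_B_iff _).1 hw)
  have hd : ∀ i j : Fin 2, i ≠ j → ∃ r : Fin 16, r.val < 8 ∧ ¬ (([i, j, i, j].foldr wcl r).val < 8) := by
    decide +kernel
  obtain ⟨r, hr1, hr2⟩ := hd i j hij
  exact hr2 (h2 r hr1)

theorem simple_F4 (hm : 1 ≤ m) :
    IsSimpleGroup ↥(twistedF4 K (2 ^ m)) ∧ ¬ IsMulCommutative ↥(twistedF4 K (2 ^ m)) := by
  have hp := commutator_F4 hK hm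
  have hc := core_bot hK (m := m)
  rw [twisted_eq hK] at hp ⊢
  set R := rgdF4' hK (m := m)
  obtain ⟨x, hx, hx1⟩ : ∃ x ∈ X K m 0, x ≠ 1 := by
    obtain ⟨⟨x, hx⟩, h⟩ := Subgroup.ne_bot_iff_exists_ne_one.1 (X_ne_bot hK (m := m) 0)
    exact ⟨x, hx, fun e => h (Subtype.ext e)⟩
  have hxG : x ∈ R.G := ((R.U_le_Upos (r := (0 : Fin 16)) (show (0 : Fin 16).val < 8 by decide)).trans R.Upos_le_B).trans R.B_le_G hx
  haveI : Nontrivial ↥R.G := ⟨⟨⟨x, hxG⟩, 1, fun h => hx1 (congrArg Subtype.val h)⟩⟩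
  refine ⟨BN.isSimpleGroup_of_irreducible R.bnPair (irreducible_F4 hK) (isSolvable_B hK) hp hc, ?_⟩
  intro hcomm
  have : commutator ↥R.G = ⊥ := by
    rw [_root_.commutator_def, Subgroup.commutator_eq_bot_iff_le_centralizer]
    intro a _
    rw [Subgroup.mem_centralizer_iff]
    intro b _
    exact mul_comm' b a
  rw [this] at hp
  exact bot_ne_top hp

end Cfsg.Agent.Twisted.F4
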