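/-
Twisted groups, part 3: uniqueness of products of root elements in an order given by a linear function.

* `SysG hD K`: the root elements of D.group K as a `ChevSt.Sys`.
* `word_eq_one`: a word in roots of strictly increasing positive f-value is 1 only if all arguments are 0.
-/
import Cfsg.Agent.Lib.Twisted.Half
import Cfsg.Agent.Lib.ChevSt.System

set_option autoImplicit false

namespace Cfsg.Agent.Twisted

open Cfsg.Lie Matrix
open Cfsg.Lie.ChevalleyDatum
open Cfsg.Agent.Chev Cfsg.Agent.ChevSt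

variable {D : ChevalleyDatum} {K : Type*} [Field K]

theorem sub_ev_mem_above_of_word (hD : Good D) {f : ℕ → ℤ} (hf : IsLin D f) {k : ℕ} (hk : k < D.nroots)
    (hfk : 0 < f k) : ∀ (L : List (ℕ × K)), (∀ p ∈ L, p.1 < D.nroots ∧ f k < f p.1) →
      (D.wordMat K L *ᵥ ev D K (D.neg k) - ev D K (D.neg k) ∈ Sys.above D K f (-f k)) ∧
        ∀ v ∈ Sys.above D K f (-f k), D.wordMat K L *ᵥ v ∈ Sys.above D K f (-f k)
  | [], _ => by simp [ChevalleyDatum.wordMat]
  | (q, t) :: L, h => by
    obtain ⟨hq, hlt⟩ := h (q, t) List.mem_cons_self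
    obtain ⟨ih₁, ih₂⟩ := sub_ev_mem_above_of_word hD hf hk hfk L fun p hp => h p (List.mem_cons_of_mem _ hp)
    replace hlt : f k < f q := hlt
    have hqpos : 0 < f q := hfk.trans hlt
    have hge : -f q ≤ -f k := by omega
    have hn := hD.neg_lt k hk
    have hw : D.wordMat K ((q, t) :: L) = D.x K q t * D.wordMat K L := by simp [ChevalleyDatum.wordMat]
    refine ⟨?_, fun v hv => by
      rw [hw, ← Matrix.mulVec_mulVec]; exact Sys.x_above hD hf hq hqpos hge t (ih₂ v hv)⟩
    have h₁ : D.neg k ≠ q := by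
      intro hh
      rw [← hh, hf.neg k hk] at hqpos
      omega
    have h₂ : D.neg k ≠ D.neg q := fun hh => by
      have : q = k := by rw [← hD.neg_neg q hq, ← hh, hD.neg_neg k hk]
      rw [this] at hlt
      omega
    have hb : D.x K q t *ᵥ ev D K (D.neg k) - ev D K (D.neg k) ∈ Sys.above D K f (-f k) := by
      rw [x_eq_xR D hq, xR_gen D q t (hD.keys q hq) hn h₁ h₂, add_sub_cancel_left]
      exact Sys.sumCol_mem_above hD hf hq hn h₁ h₂ hqpos (by rw [hf.neg k hk]) t
    have := add_mem (Sys.x_above hD hf hq hqpos hge t ih₁) hb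
    rwa [Matrix.mulVec_sub, Matrix.mulVec_mulVec, ← hw, sub_add_sub_cancel] at this

/-- A word in roots of strictly increasing positive f-value is 1 only if all arguments vanish. -/
theorem word_eq_one (hD : Good D) {f : ℕ → ℤ} (hf : IsLin D f) : ∀ (L : List (ℕ × K)),
    L.Pairwise (fun p q => f p.1 < f q.1) → (∀ p ∈ L, p.1 < D.nroots ∧ 0 < f p.1) →
      D.wordMat K L = 1 → ∀ p ∈ L, p.2 = 0
  | [], _, _, _ => by simp
  | (k, t) :: L, hL, hpos, h1 => by
    obtain ⟨hk, hfk⟩ := hpos (k, t) List.mem_cons_self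
    rw [List.pairwise_cons] at hL
    obtain ⟨hw, -⟩ := sub_ev_mem_above_of_word hD hf hk hfk L fun p hp =>
      ⟨(hpos p (List.mem_cons_of_mem _ hp)).1, hL.1 p hp⟩
    have hn := hD.neg_lt k hk
    have hcons : D.wordMat K ((k, t) :: L) = D.x K k t * D.wordMat K L := by simp [ChevalleyDatum.wordMat]
    have hx := Sys.above_inl (Sys.x_above hD hf hk hfk le_rfl t hw)
    have ht : t = 0 := by
      have hcz : ∀ i : Fin D.rank, t * (((D.coroot.getD k #[]).getD i.val 0 : ℤ) : K) = 0 := by
        intro i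
        have h := hx i
        rw [Matrix.mulVec_sub, Matrix.mulVec_mulVec, ← hcons, h1, Matrix.one_mulVec, x_eq_xR D hk,
          xR_neg D k t hn (hD.neg_ne k hk)] at h
        simpa [ev, hv] using h
      obtain ⟨c, hc⟩ := hD.coroot_prim k hk
      have hc' := congrArg (fun z : ℤ => (z : K)) hc
      simp only [Int.cast_sum, Int.cast_mul, Int.cast_one] at hc'
      calc t = t * 1 := (mul_one t).symm
        _ = ∑ i, (c i : K) * (t * (((D.coroot.getD k #[]).getD i.val 0 : ℤ) : K)) := by
          rw [← hc', Finset.mul_sum]; exact Finset.sum_congr rfl fun i _ => by ring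
        _ = 0 := Finset.sum_eq_zero fun i _ => by rw [hcz i, mul_zero]
    intro p hp
    rcases List.mem_cons.1 hp with rfl | hp
    · exact ht
    · rw [hcons, ht, hD.x_zero, one_mul] at h1
      exact word_eq_one hD hf L hL.2 (fun q hq => hpos q (List.mem_cons_of_mem _ hq)) h1 p hp

end Cfsg.Agent.Twisted
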