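/-
Twisted groups, part 6: the unipotent group of G₂ in characteristic 3 and its σ-fixed part.

* `uel v`            : x_a x_b x_{a+b} x_{2a+b} x_{3a+b} x_{3a+2b} of six coordinates; `uel_mul`, `uel_inj`.
* `posUnipotent_eq`  : U = {uel v}.
* `sg_uel`           : σ in coordinates; `ree t u v`, `fix_iff`: the fixed elements are the `ree t u v`.
-/
import Cfsg.Agent.Lib.Twisted.Sigma
import Cfsg.Agent.Lib.Twisted.Unipotent
import Cfsg.Agent.Lib.Twisted.Data
import Cfsg.Agent.Lib.ChevBN.RootTables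
import Cfsg.Prelude.Def_LieTwisted

set_option autoImplicit false

namespace Cfsg.Agent.Twisted

open Cfsg.Lie Matrix
open Cfsg.Lie.ChevalleyDatum
open Cfsg.Agent.Chev Cfsg.Agent.ChevBN

variable (hD : Good chevG2) (K : Type*) [Field K]

/-- Six coordinates. -/
@[ext] structure C6 (K : Type*) where
  a : K
  b : K
  c : K
  d : K
  g : K
  h : K

/-- The element of U with the given coordinates. -/
def uel (v : C6 K) : GL chevG2.Idx K :=
  xg hD K 7 v.a * xg hD K 6 v.b * xg hD K 8 v.c * xg hD K 9 v.d * xg hD K 10 v.g * xg hD K 11 v.h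

variable [CharP K 3]

theorem three_eq_zero : (3 : K) = 0 := by exact_mod_cast CharP.cast_eq_zero K 3

omit [CharP K 3] in
theorem g2_comm {r s : ℕ} (hr : r < 12) (hs : s < 12) (h₁ : s ≠ r) (h₂ : s ≠ chevG2.neg r) (t u : K) :
    xg hD K s u * xg hD K r t = xg hD K r t * xg hD K s u *
      ((chevG2.commTerms r s).map fun c => xg hD K c.1 ((c.2.1 : K) * (-t) ^ c.2.2.1 * u ^ c.2.2.2)).prod := by
  apply Units.ext
  rw [Units.val_mul, Units.val_mul, Units.val_mul, coe_xg, coe_xg, hD.commutator hr hs h₁ h₂,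
    ← Units.coeHom_apply (List.prod _), map_list_prod, List.map_map]
  congr 1
  simp only [ChevalleyDatum.wordMat, ChevalleyDatum.commWord, List.map_map]
  rfl

theorem comm67 (t u : K) : xg hD K 6 u * xg hD K 7 t = xg hD K 7 t * xg hD K 6 u * xg hD K 8 (t * u) *
    xg hD K 9 (t ^ 2 * u) * xg hD K 10 (-(t ^ 3 * u)) * xg hD K 11 (-(t ^ 3 * u ^ 2)) := by
  rw [g2_comm hD K (r := 7) (s := 6) (by norm_num) (by norm_num) (by norm_num) (by decide),
    show chevG2.commTerms 7 6 = [(8, -1, 1, 1), (9, 1, 2, 1), (10, 1, 3, 1), (11, 1, 3, 2)] by decide +kernel]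
  simp only [List.map_cons, List.map_nil, List.prod_cons, List.prod_nil, mul_one, ← mul_assoc, Int.cast_neg,
    Int.cast_one]
  ring_nf

theorem comm_free {r s : ℕ} (hr : r < 12) (hs : s < 12) (h₁ : s ≠ r) (h₂ : s ≠ chevG2.neg r)
    (h : ∀ c ∈ chevG2.commTerms r s, c.2.1 % 3 = 0) (t u : K) :
    Commute (xg hD K s u) (xg hD K r t) := by
  show _ * _ = _ * _
  rw [g2_comm hD K hr hs h₁ h₂, List.prod_eq_one, mul_one]
  intro x hx
  obtain ⟨c, hc, rfl⟩ := List.mem_map.1 hx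
  rw [show (c.2.1 : K) = 0 from (CharP.intCast_eq_zero_iff K 3 _).2 (Int.dvd_of_emod_eq_zero (h c hc)),
    zero_mul, zero_mul, xg_zero]

theorem comm87 (t u : K) : xg hD K 8 u * xg hD K 7 t = xg hD K 7 t * xg hD K 8 u * xg hD K 9 (-(t * u)) := by
  rw [g2_comm hD K (r := 7) (s := 8) (by norm_num) (by norm_num) (by norm_num) (by decide),
    show chevG2.commTerms 7 8 = [(9, -2, 1, 1), (10, -3, 2, 1), (11, 3, 1, 2)] by decide +kernel]
  simp only [List.map_cons, List.map_nil, List.prod_cons, List.prod_nil, mul_one, ← mul_assoc, Int.cast_neg,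
    Int.cast_ofNat, three_eq_zero K, neg_zero, zero_mul, xg_zero]
  congr 2
  linear_combination (t * u) * three_eq_zero K

theorem comm106 (t u : K) :
    xg hD K 10 u * xg hD K 6 t = xg hD K 6 t * xg hD K 10 u * xg hD K 11 (-(t * u)) := by
  rw [g2_comm hD K (r := 6) (s := 10) (by norm_num) (by norm_num) (by norm_num) (by decide),
    show chevG2.commTerms 6 10 = [(11, 1, 1, 1)] by decide +kernel]
  simp only [List.map_cons, List.map_nil, List.prod_cons, List.prod_nil, mul_one, Int.cast_one, one_mul, pow_one,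
    neg_mul]

theorem free86 (t u : K) : Commute (xg hD K 8 u) (xg hD K 6 t) :=
  comm_free hD K (by norm_num) (by norm_num) (by norm_num) (by decide) (by decide +kernel) t u
theorem free96 (t u : K) : Commute (xg hD K 9 u) (xg hD K 6 t) :=
  comm_free hD K (by norm_num) (by norm_num) (by norm_num) (by decide) (by decide +kernel) t u
theorem free116 (t u : K) : Commute (xg hD K 11 u) (xg hD K 6 t) :=
  comm_free hD K (by norm_num) (by norm_num) (by norm_num) (by decide) (by decide +kernel) t u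
theorem free97 (t u : K) : Commute (xg hD K 9 u) (xg hD K 7 t) :=
  comm_free hD K (by norm_num) (by norm_num) (by norm_num) (by decide) (by decide +kernel) t u
theorem free107 (t u : K) : Commute (xg hD K 10 u) (xg hD K 7 t) :=
  comm_free hD K (by norm_num) (by norm_num) (by norm_num) (by decide) (by decide +kernel) t u
theorem free117 (t u : K) : Commute (xg hD K 11 u) (xg hD K 7 t) :=
  comm_free hD K (by norm_num) (by norm_num) (by norm_num) (by decide) (by decide +kernel) t u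
theorem free98 (t u : K) : Commute (xg hD K 9 u) (xg hD K 8 t) :=
  comm_free hD K (by norm_num) (by norm_num) (by norm_num) (by decide) (by decide +kernel) t u
theorem free108 (t u : K) : Commute (xg hD K 10 u) (xg hD K 8 t) :=
  comm_free hD K (by norm_num) (by norm_num) (by norm_num) (by decide) (by decide +kernel) t u
theorem free118 (t u : K) : Commute (xg hD K 11 u) (xg hD K 8 t) :=
  comm_free hD K (by norm_num) (by norm_num) (by norm_num) (by decide) (by decide +kernel) t u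
theorem free109 (t u : K) : Commute (xg hD K 10 u) (xg hD K 9 t) :=
  comm_free hD K (by norm_num) (by norm_num) (by norm_num) (by decide) (by decide +kernel) t u
theorem free119 (t u : K) : Commute (xg hD K 11 u) (xg hD K 9 t) :=
  comm_free hD K (by norm_num) (by norm_num) (by norm_num) (by decide) (by decide +kernel) t u
theorem free1110 (t u : K) : Commute (xg hD K 11 u) (xg hD K 10 t) :=
  comm_free hD K (by norm_num) (by norm_num) (by norm_num) (by decide) (by decide +kernel) t u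

omit [CharP K 3] in
theorem add' {r : ℕ} (hr : r < 12) (t u : K) : xg hD K r t * xg hD K r u = xg hD K r (t + u) := xg_add hD hr t u

/-- The commutative part. -/
def top4 (c d g h : K) : GL chevG2.Idx K := xg hD K 8 c * xg hD K 9 d * xg hD K 10 g * xg hD K 11 h

theorem top4_mul (c d g h c' d' g' h' : K) :
    top4 hD K c d g h * top4 hD K c' d' g' h' = top4 hD K (c + c') (d + d') (g + g') (h + h') := by
  have e₁ := ((free108 hD K c' g).mul_left (free118 hD K c' h)).eq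
  have e₂ := ((free109 hD K d' g).mul_left (free119 hD K d' h)).eq
  have e₃ := (free1110 hD K g' h).eq
  have e₀ := (free98 hD K c' d).eq
  simp only [top4, mul_assoc]
  rw [← mul_assoc (xg hD K 10 g) (xg hD K 11 h), ← mul_assoc (xg hD K 10 g * xg hD K 11 h) (xg hD K 8 c'),
    e₁, mul_assoc, ← mul_assoc (xg hD K 9 d) (xg hD K 8 c'), e₀, mul_assoc (xg hD K 8 c'),
    ← mul_assoc (xg hD K 10 g * xg hD K 11 h) (xg hD K 9 d'), e₂, mul_assoc (xg hD K 9 d'),
    mul_assoc (xg hD K 10 g), ← mul_assoc (xg hD K 11 h) (xg hD K 10 g'), e₃, mul_assoc (xg hD K 10 g'),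
    ← mul_assoc (xg hD K 8 c) (xg hD K 8 c'), ← mul_assoc (xg hD K 9 d) (xg hD K 9 d'),
    ← mul_assoc (xg hD K 10 g) (xg hD K 10 g'), add' hD K (by norm_num), add' hD K (by norm_num),
    add' hD K (by norm_num), add' hD K (by norm_num)]

omit [CharP K 3] in
theorem uel_eq (v : C6 K) : uel hD K v = xg hD K 7 v.a * xg hD K 6 v.b * top4 hD K v.c v.d v.g v.h := by
  simp [uel, top4, mul_assoc]

theorem top4_mul7 (c d g h t : K) :
    top4 hD K c d g h * xg hD K 7 t = xg hD K 7 t * top4 hD K c (d - t * c) g h := by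
  have e := ((free97 hD K t d).mul_left ((free107 hD K t g).mul_left (free117 hD K t h))).eq
  simp only [top4, mul_assoc]
  rw [show xg hD K 9 d * (xg hD K 10 g * (xg hD K 11 h * xg hD K 7 t)) =
    xg hD K 9 d * (xg hD K 10 g * xg hD K 11 h) * xg hD K 7 t by simp [mul_assoc], e, ← mul_assoc (xg hD K 8 c),
    comm87]
  simp only [mul_assoc]
  rw [← mul_assoc (xg hD K 9 _) (xg hD K 9 d), add' hD K (by norm_num), neg_add_eq_sub]

theorem top4_mul6 (c d g h t : K) :
    top4 hD K c d g h * xg hD K 6 t = xg hD K 6 t * top4 hD K c d g (h - t * g) := by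
  simp only [top4, mul_assoc]
  rw [(free116 hD K t h).eq, ← mul_assoc (xg hD K 10 g), comm106, mul_assoc, mul_assoc,
    ← mul_assoc (xg hD K 9 d), (free96 hD K t d).eq, mul_assoc, ← mul_assoc (xg hD K 8 c),
    (free86 hD K t c).eq, mul_assoc, add' hD K (by norm_num), neg_add_eq_sub]

/-- The product in coordinates. -/
def mul6 (v w : C6 K) : C6 K where
  a := v.a + w.a
  b := v.b + w.b
  c := v.c + w.a * v.b + w.c
  d := v.d + w.a ^ 2 * v.b - w.a * v.c + w.d
  g := v.g - w.a ^ 3 * v.b + w.g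
  h := v.h - w.a ^ 3 * v.b ^ 2 - w.b * (v.g - w.a ^ 3 * v.b) + w.h

theorem uel_mul (v w : C6 K) : uel hD K v * uel hD K w = uel hD K (mul6 K v w) := by
  have e67 : xg hD K 6 v.b * xg hD K 7 w.a = xg hD K 7 w.a * xg hD K 6 v.b *
      top4 hD K (w.a * v.b) (w.a ^ 2 * v.b) (-(w.a ^ 3 * v.b)) (-(w.a ^ 3 * v.b ^ 2)) := by
    rw [comm67, top4]
    simp [mul_assoc]
  calc uel hD K v * uel hD K w
      = xg hD K 7 v.a * xg hD K 6 v.b * (top4 hD K v.c v.d v.g v.h * xg hD K 7 w.a) * xg hD K 6 w.b *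
          top4 hD K w.c w.d w.g w.h := by simp [uel_eq, mul_assoc]
    _ = xg hD K 7 v.a * (xg hD K 6 v.b * xg hD K 7 w.a) * top4 hD K v.c (v.d - w.a * v.c) v.g v.h *
          xg hD K 6 w.b * top4 hD K w.c w.d w.g w.h := by rw [top4_mul7]; simp [mul_assoc]
    _ = (xg hD K 7 v.a * xg hD K 7 w.a) * xg hD K 6 v.b *
          ((top4 hD K (w.a * v.b) (w.a ^ 2 * v.b) (-(w.a ^ 3 * v.b)) (-(w.a ^ 3 * v.b ^ 2)) *
            top4 hD K v.c (v.d - w.a * v.c) v.g v.h) * xg hD K 6 w.b) * top4 hD K w.c w.d w.g w.h := by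
        rw [e67]; simp [mul_assoc]
    _ = (xg hD K 7 v.a * xg hD K 7 w.a) * (xg hD K 6 v.b * xg hD K 6 w.b) *
          (top4 hD K (w.a * v.b + v.c) (w.a ^ 2 * v.b + (v.d - w.a * v.c)) (-(w.a ^ 3 * v.b) + v.g)
            (-(w.a ^ 3 * v.b ^ 2) + v.h - w.b * (-(w.a ^ 3 * v.b) + v.g)) * top4 hD K w.c w.d w.g w.h) := by
        rw [top4_mul, top4_mul6]; simp [mul_assoc]
    _ = _ := by
        rw [top4_mul, add' hD K (by norm_num), add' hD K (by norm_num), uel_eq]
        simp only [mul6]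
        ring_nf

/-- The zero coordinates. -/
def zero6 : C6 K := ⟨0, 0, 0, 0, 0, 0⟩

omit [CharP K 3] in
theorem uel_zero : uel hD K (zero6 K) = 1 := by simp [uel, zero6, xg_zero]

/-- The inverse in coordinates. -/
def inv6 (v : C6 K) : C6 K :=
  let a := -v.a
  let b := -v.b
  ⟨a, b, -(v.c + a * v.b), -(v.d + a ^ 2 * v.b - a * v.c), -(v.g - a ^ 3 * v.b),
    -(v.h - a ^ 3 * v.b ^ 2 - b * (v.g - a ^ 3 * v.b))⟩

omit [CharP K 3] in
theorem mul6_inv6 (v : C6 K) : mul6 K v (inv6 K v) = zero6 K := by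
  ext <;> simp only [mul6, inv6, zero6] <;> ring

theorem uel_inv (v : C6 K) : (uel hD K v)⁻¹ = uel hD K (inv6 K v) :=
  inv_eq_of_mul_eq_one_right (by rw [uel_mul, mul6_inv6, uel_zero])

theorem uel_eq_one {v : C6 K} (h : uel hD K v = 1) : v = zero6 K := by
  have hlin : ChevSt.IsLin chevG2 fun q => 2 * co chevG2 adjG2 0 q + 3 * co chevG2 adjG2 1 q :=
    ((isLin_co hD adjG2 0).smul 2).addFun ((isLin_co hD adjG2 1).smul 3)
  have h1 := word_eq_one hD hlin [(7, v.a), (6, v.b), (8, v.c), (9, v.d), (10, v.g), (11, v.h)]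
    (by simp only [List.pairwise_cons, List.mem_cons, List.not_mem_nil, or_false, forall_eq_or_imp, forall_eq,
          IsEmpty.forall_iff, implies_true, List.Pairwise.nil, and_true]
        decide +kernel)
    (by simp only [List.mem_cons, List.not_mem_nil, or_false, forall_eq_or_imp, forall_eq]
        decide +kernel)
    (by
      have := congrArg Units.val h
      simpa [uel, ChevalleyDatum.wordMat, mul_assoc] using this)
  simp only [List.mem_cons, List.not_mem_nil, or_false, forall_eq_or_imp, forall_eq] at h1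
  obtain ⟨ha, hb, hc, hd, hg, hh⟩ := h1
  ext <;> simp [zero6, *]

theorem uel_inj {v w : C6 K} (h : uel hD K v = uel hD K w) : v = w := by
  have h1 := uel_eq_one hD K (v := mul6 K v (inv6 K w)) (by rw [← uel_mul, ← uel_inv, h, mul_inv_cancel])
  obtain ⟨a, b, c, d, g, e⟩ := v
  obtain ⟨a', b', c', d', g', e'⟩ := w
  simp only [mul6, inv6, zero6, C6.ext_iff] at h1
  obtain ⟨ha, hb, hc, hd, hg, hh⟩ := h1
  obtain rfl : a = a' := by linear_combination ha
  obtain rfl : b = b' := by linear_combination hb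
  obtain rfl : c = c' := by linear_combination hc
  obtain rfl : g = g' := by linear_combination hg
  obtain rfl : d = d' := by linear_combination hd
  obtain rfl : e = e' := by linear_combination hh
  rfl

theorem posRoot_iff {r : ℕ} : chevG2.IsPosRoot r ↔ r = 6 ∨ r = 7 ∨ r = 8 ∨ r = 9 ∨ r = 10 ∨ r = 11 := by
  constructor
  · intro h
    have : r < 12 := h.1
    revert h
    interval_cases r <;> decide +kernel
  · rintro (rfl | rfl | rfl | rfl | rfl | rfl) <;> decide +kernel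

theorem mem_posUnipotent {x : GL chevG2.Idx K} :
    x ∈ chevG2.posUnipotent K ↔ ∃ v, x = uel hD K v := by
  constructor
  · intro hx
    induction hx using Subgroup.closure_induction with
    | mem g hg =>
      obtain ⟨r, t, hr, e⟩ := hg
      obtain rfl : g = xg hD K r t := Units.ext e
      rcases posRoot_iff.1 hr with rfl | rfl | rfl | rfl | rfl | rfl
      · exact ⟨⟨0, t, 0, 0, 0, 0⟩, by simp [uel, xg_zero]⟩
      · exact ⟨⟨t, 0, 0, 0, 0, 0⟩, by simp [uel, xg_zero]⟩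
      · exact ⟨⟨0, 0, t, 0, 0, 0⟩, by simp [uel, xg_zero]⟩
      · exact ⟨⟨0, 0, 0, t, 0, 0⟩, by simp [uel, xg_zero]⟩
      · exact ⟨⟨0, 0, 0, 0, t, 0⟩, by simp [uel, xg_zero]⟩
      · exact ⟨⟨0, 0, 0, 0, 0, t⟩, by simp [uel, xg_zero]⟩
    | one => exact ⟨zero6 K, (uel_zero hD K).symm⟩
    | mul x y _ _ hx hy =>
      obtain ⟨v, rfl⟩ := hx
      obtain ⟨w, rfl⟩ := hy
      exact ⟨_, uel_mul hD K v w⟩
    | inv x _ hx =>
      obtain ⟨v, rfl⟩ := hx
      exact ⟨_, uel_inv hD K v⟩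
  · rintro ⟨v, rfl⟩
    have : ∀ r, chevG2.IsPosRoot r → ∀ t, xg hD K r t ∈ chevG2.posUnipotent K := fun r hr t =>
      Subgroup.subset_closure ⟨r, t, hr, coe_xg hD r t⟩
    refine mul_mem (mul_mem (mul_mem (mul_mem (mul_mem ?_ ?_) ?_) ?_) ?_) ?_ <;> apply this <;> decide +kernel

/-! ### The fixed part -/

/-- The word w₀ = (w_a w_b)³. -/
def w0G2 : List (Fin chevG2.rank) := ([0, 1, 0, 1, 0, 1] : List (Fin 2))

theorem foldG2 : FoldOK halfG2 3 := by
  constructor <;> decide +kernel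

theorem longG2 : LongOK chevG2 w0G2 where
  rank := rfl
  neg_pos := by decide +kernel
  simple := by decide +kernel

variable (m : ℕ)

/-- σ in coordinates. -/
def sg6 (e : ℕ) (v : C6 K) : C6 K :=
  mul6 K ⟨0, v.a ^ (3 * e), 0, 0, v.c ^ (3 * e), v.d ^ (3 * e)⟩
    ⟨v.b ^ e, 0, v.g ^ e, v.h ^ e, 0, 0⟩

theorem sg_uel (v : C6 K) :
    sg halfG2_ok hD K m (uel hD K v) = uel hD K (sg6 K (3 ^ m) v) := by
  have hm := fun r (t : K) => xg_mem_group hD r t
  have h12 : ∀ r : ℕ, r < 12 → r < chevG2.nroots := fun r h => h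
  have e7 : ex halfG2 3 m 7 = 3 * 3 ^ m := by
    rw [ex, show halfG2.lam 7 = 3 by decide +kernel, mul_comm]
  have e6 : ex halfG2 3 m 6 = 3 ^ m := by rw [ex, show halfG2.lam 6 = 1 by decide +kernel, mul_one]
  have e8 : ex halfG2 3 m 8 = 3 * 3 ^ m := by
    rw [ex, show halfG2.lam 8 = 3 by decide +kernel, mul_comm]
  have e9 : ex halfG2 3 m 9 = 3 * 3 ^ m := by
    rw [ex, show halfG2.lam 9 = 3 by decide +kernel, mul_comm]
  have e10 : ex halfG2 3 m 10 = 3 ^ m := by rw [ex, show halfG2.lam 10 = 1 by decide +kernel, mul_one]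
  have e11 : ex halfG2 3 m 11 = 3 ^ m := by rw [ex, show halfG2.lam 11 = 1 by decide +kernel, mul_one]
  rw [uel, sg_mul _ hD K m (mul_mem (mul_mem (mul_mem (mul_mem (hm _ _) (hm _ _)) (hm _ _)) (hm _ _)) (hm _ _)) (hm _ _),
    sg_mul _ hD K m (mul_mem (mul_mem (mul_mem (hm _ _) (hm _ _)) (hm _ _)) (hm _ _)) (hm _ _),
    sg_mul _ hD K m (mul_mem (mul_mem (hm _ _) (hm _ _)) (hm _ _)) (hm _ _),
    sg_mul _ hD K m (mul_mem (hm _ _) (hm _ _)) (hm _ _), sg_mul _ hD K m (hm _ _) (hm _ _),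
    sg_xg _ hD K m (h12 7 (by norm_num)), sg_xg _ hD K m (h12 6 (by norm_num)),
    sg_xg _ hD K m (h12 8 (by norm_num)), sg_xg _ hD K m (h12 9 (by norm_num)),
    sg_xg _ hD K m (h12 10 (by norm_num)), sg_xg _ hD K m (h12 11 (by norm_num)),
    show halfG2.rho 7 = 6 by decide +kernel, show halfG2.rho 6 = 7 by decide +kernel,
    show halfG2.rho 8 = 10 by decide +kernel, show halfG2.rho 9 = 11 by decide +kernel,
    show halfG2.rho 10 = 8 by decide +kernel, show halfG2.rho 11 = 9 by decide +kernel,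
    e7, e6, e8, e9, e10, e11]
  have hA : uel hD K ⟨0, v.a ^ (3 * 3 ^ m), 0, 0, 0, 0⟩ = xg hD K 6 (v.a ^ (3 * 3 ^ m)) := by
    simp [uel, xg_zero]
  have hB : uel hD K ⟨v.b ^ 3 ^ m, 0, 0, 0, 0, 0⟩ = xg hD K 7 (v.b ^ 3 ^ m) := by simp [uel, xg_zero]
  have hC : uel hD K ⟨0, 0, 0, 0, v.c ^ (3 * 3 ^ m), 0⟩ = xg hD K 10 (v.c ^ (3 * 3 ^ m)) := by
    simp [uel, xg_zero]
  have hE : uel hD K ⟨0, 0, 0, 0, 0, v.d ^ (3 * 3 ^ m)⟩ = xg hD K 11 (v.d ^ (3 * 3 ^ m)) := by
    simp [uel, xg_zero]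
  have hG : uel hD K ⟨0, 0, v.g ^ 3 ^ m, 0, 0, 0⟩ = xg hD K 8 (v.g ^ 3 ^ m) := by simp [uel, xg_zero]
  have hH : uel hD K ⟨0, 0, 0, v.h ^ 3 ^ m, 0, 0⟩ = xg hD K 9 (v.h ^ 3 ^ m) := by simp [uel, xg_zero]
  rw [← hA, ← hB, ← hC, ← hE, ← hG, ← hH, uel_mul, uel_mul, uel_mul, uel_mul, uel_mul]
  congr 1
  simp only [mul6, sg6]
  ext <;> ring

/-- The σ-fixed element with parameters t, u, v. -/
def ree6 (e : ℕ) (t u v : K) : C6 K :=
  ⟨t ^ e, t, t ^ (e + 1) + u ^ e, t ^ (2 * e + 1) + v ^ e, u, v⟩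

variable {K m}

omit [CharP K 3] in
theorem coe_ree6 (t u v : K) :
    (uel hD K (ree6 K (3 ^ m) t u v) : Matrix chevG2.Idx chevG2.Idx K) =
      chevG2.wordMat K (reeWordU (3 ^ m) t u v) := by
  simp [uel, ree6, reeWordU, ChevalleyDatum.wordMat, g2a, g2b, g2ab, g2aab, g2aaab, g2aaabb, mul_assoc]

variable [Fintype K] (hK : Fintype.card K = 3 ^ (2 * m + 1))
include hK

omit [CharP K 3] in
theorem pow_three_e_e (x : K) : (x ^ (3 ^ m)) ^ (3 * 3 ^ m) = x := by
  rw [← pow_mul, show 3 ^ m * (3 * 3 ^ m) = 3 ^ (2 * m + 1) by ring, ← hK, FiniteField.pow_card]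

instance : Fact (Nat.Prime 3) := ⟨Nat.prime_three⟩

theorem sg6_fixed {v : C6 K} : sg6 K (3 ^ m) v = v ↔ ∃ t u w : K, v = ree6 K (3 ^ m) t u w := by
  have hk : ∀ x : K, (x ^ (3 ^ m)) ^ (3 * 3 ^ m) = x := pow_three_e_e hK
  have hp : ∀ (x y : K) (j : ℕ), (x + y) ^ (3 ^ j) = x ^ (3 ^ j) + y ^ (3 ^ j) := fun x y j =>
    add_pow_char_pow x y 3 j
  constructor
  · intro h
    refine ⟨v.b, v.g, v.h, ?_⟩
    simp only [sg6, mul6, C6.ext_iff] at h
    obtain ⟨ha, -, hc, hd, -, -⟩ := h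
    have ea : v.a = v.b ^ 3 ^ m := by rw [← ha]; simp
    ext
    · exact ea
    · rfl
    · show v.c = v.b ^ (3 ^ m + 1) + v.g ^ 3 ^ m
      conv_lhs => rw [← hc, ea, hk]
      ring
    · show v.d = v.b ^ (2 * 3 ^ m + 1) + v.h ^ 3 ^ m
      conv_lhs => rw [← hd, ea, hk]
      ring
    · rfl
    · rfl
  · rintro ⟨t, u, w, rfl⟩
    have h3 : ∀ x : K, x ^ (3 * 3 ^ m) = x ^ (3 ^ (m + 1)) := fun x => by rw [pow_succ, mul_comm]
    have k1 : (t ^ (3 ^ m + 1) + u ^ 3 ^ m) ^ (3 * 3 ^ m) = t * (t ^ 3 ^ m) ^ 3 + u := by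
      rw [h3, hp, ← h3, ← h3, hk, pow_succ t, mul_pow, hk, ← pow_mul t, mul_comm 3]
    have k2 : (t ^ (2 * 3 ^ m + 1) + w ^ 3 ^ m) ^ (3 * 3 ^ m) = t ^ 2 * (t ^ 3 ^ m) ^ 3 + w := by
      rw [h3, hp, ← h3, ← h3, hk, pow_succ t, mul_pow, mul_comm 2 (3 ^ m), pow_mul t (3 ^ m) 2,
        ← pow_mul (t ^ 3 ^ m) 2, mul_comm 2, pow_mul, hk, ← pow_mul t, mul_comm 3]
    simp only [sg6, mul6, ree6, hk, k1, k2]
    ext <;> simp only <;> ring

end Cfsg.Agent.Twisted
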