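/-
Twisted groups, part 8: `Good chevG2`.
-/
import Cfsg.Agent.Lib.Chev.DataG2
import Cfsg.Prelude.Def_ChevG2

set_option autoImplicit false

namespace Cfsg.Agent.Twisted

open Cfsg.Lie Cfsg.Agent.Chev

theorem good_chevG2 : Good chevG2 := DataG2.good

end Cfsg.Agent.Twisted
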