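/-
Twisted groups, part 7: the automorphism x_r(t) ↦ x_{-r}(-t), a permutation of the basis up to sign.

* `NuOK D`, `nu`, `nu_xg`, `nu_mem`, `nu_sg`, `nu_fix`.
-/
import Cfsg.Agent.Lib.Twisted.Sigma

set_option autoImplicit false

namespace Cfsg.Agent.Twisted

open Cfsg.Lie Matrix
open Cfsg.Lie.ChevalleyDatum
open Cfsg.Agent.Chev Cfsg.Agent.ChevBN

variable {D : ChevalleyDatum}

/-- The key of the opposite coordinate. -/
def negKey (k : Key D) : Key D := Sum.map id (fun q => D.neg q) k

/-- The opposite coordinate. -/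
def negIdx' (hD : Good D) : D.Idx → D.Idx := Sum.map id fun r => ⟨D.neg r.val, hD.neg_lt r.val r.isLt⟩

/-- The basis permutation. -/
def negPerm (hD : Good D) : D.Idx ≃ D.Idx where
  toFun := negIdx' hD
  invFun := negIdx' hD
  left_inv a := by rcases a with i | r <;> simp [negIdx', hD.neg_neg]
  right_inv a := by rcases a with i | r <;> simp [negIdx', hD.neg_neg]

/-- The table condition for x_r(t) ↦ x_{-r}(-t). -/
def NuOK (D : ChevalleyDatum) : Prop :=
  (∀ r < D.nroots, ∀ i : Fin D.rank, colT D (D.neg r) (Sum.inl i) =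
      (colT D r (Sum.inl i)).map (fun x => ((negKey x.1.1, x.1.2), x.2 * (-1) ^ x.1.2))) ∧
    ∀ r < D.nroots, ∀ q : Fin D.nroots, ∀ h : D.neg q.val < D.nroots,
      colT D (D.neg r) (Sum.inr ⟨D.neg q.val, h⟩) =
        (colT D r (Sum.inr q)).map (fun x => ((negKey x.1.1, x.1.2), x.2 * (-1) ^ x.1.2))

theorem key_negPerm (hD : Good D) (a : D.Idx) : key D (negPerm hD a) = negKey (key D a) := by
  rcases a with i | r <;> rfl

theorem xR_negPerm (hD : Good D) (hN : NuOK D) {R : Type*} [CommRing R] {r : ℕ} (hr : r < D.nroots) (t : R)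
    (a b : D.Idx) : xR D R (D.neg r) (-t) (negPerm hD a) (negPerm hD b) = xR D R r t a b := by
  have hcol : colT D (D.neg r) (negPerm hD b) =
      (colT D r b).map (fun x => ((negKey x.1.1, x.1.2), x.2 * (-1) ^ x.1.2)) := by
    rcases b with i | q
    · exact hN.1 r hr i
    · exact hN.2 r hr q (hD.neg_lt q.val q.isLt)
  have e : ∀ (s : ℕ), s < D.nroots → ∀ (u : R) (a b : D.Idx), xR D R s u a b =
      ((colT D s b).map fun x => ((x.2 : R) * u ^ x.1.2) • bv D R x.1.1).sum a := fun s hs u a b => by
    rw [← colT_spec hD hs, Matrix.mulVec_single_one]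
    rfl
  rw [e _ (hD.neg_lt r hr), e _ hr, hcol, List.map_map, Pi.list_sum_apply, Pi.list_sum_apply, List.map_map,
    List.map_map]
  congr 1
  refine List.map_congr_left fun x hx => ?_
  simp only [Function.comp_apply, Pi.smul_apply, smul_eq_mul, bv, key_negPerm]
  have hiff : negKey (key D a) = negKey x.1.1 ↔ key D a = x.1.1 := by
    constructor
    · intro h
      rcases a with i | q <;> rcases hxk : x.1.1 with j | k <;> simp only [hxk, key, negKey, Sum.map_inl,
        Sum.map_inr, id, Sum.inl.injEq, Sum.inr.injEq, reduceCtorEq] at h ⊢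
      · exact h
      · have hk : k < D.nroots := by
          rcases b with i | s
          · simp only [colT, List.mem_cons, List.not_mem_nil, or_false] at hx
            rcases hx with rfl | rfl <;> simp_all
          · simp only [colT] at hx
            split_ifs at hx with h₁ h₂
            · simp only [List.mem_cons, List.not_mem_nil, or_false] at hx
              subst hx; simp_all
            · simp only [List.mem_cons, List.mem_map] at hx
              rcases hx with rfl | rfl | ⟨i, -, rfl⟩ <;> simp at hxk <;> subst hxk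
              · exact s.isLt
              · exact hr
            · simp only [List.mem_cons, List.mem_map] at hx
              rcases hx with rfl | ⟨u, hu, rfl⟩ <;> simp at hxk <;> subst hxk
              · exact s.isLt
              · obtain ⟨hi⟩ := List.mem_zipIdx_iff_getElem?.1 hu |> fun h => (⟨h⟩ : PLift _)
                exact (ChevSt.stepOK_getElem hD ⟨fun _ _ _ _ _ _ => (add_zero (0 : ℤ)).symm, fun _ _ => neg_zero.symm⟩ hr
                  (hD.step r hr s.val s.isLt h₁ h₂) hi).1
        rw [← hD.neg_neg q.val q.isLt, h, hD.neg_neg k hk]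
    · intro h; rw [h]
  simp only [hiff, Int.cast_mul, Int.cast_pow, Int.cast_neg, Int.cast_one]
  congr 1
  rw [mul_assoc, ← mul_pow, neg_one_mul, _root_.neg_neg]

variable (hD : Good D) (K : Type*) [Field K]

/-- The automorphism x_r(t) ↦ x_{-r}(-t) of GL. -/
noncomputable def nu : GL D.Idx K →* GL D.Idx K :=
  Units.map (Matrix.reindexAlgEquiv K K (negPerm hD)).toMonoidHom

theorem nu_xg (hN : NuOK D) {r : ℕ} (hr : r < D.nroots) (t : K) :
    nu hD K (xg hD K r t) = xg hD K (D.neg r) (-t) := by
  refine Units.ext ?_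
  show Matrix.reindex (negPerm hD) (negPerm hD) (D.x K r t) = D.x K (D.neg r) (-t)
  ext a b
  rw [x_eq_xR D hr, x_eq_xR D (hD.neg_lt r hr), Matrix.reindex_apply, Matrix.submatrix_apply,
    ← xR_negPerm hD hN hr t, Equiv.apply_symm_apply, Equiv.apply_symm_apply]

theorem nu_mem (hN : NuOK D) {g : GL D.Idx K} (hg : g ∈ D.group K) : nu hD K g ∈ D.group K := by
  have : D.group K ≤ (D.group K).comap (nu hD K) := group_le_of_gx hD K fun r hr t => by
    rw [Subgroup.mem_comap, nu_xg hD K hN hr]
    exact xg_mem_group hD _ _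
  exact this hg

variable {H : Half D} {p : ℕ} [Fact p.Prime] (hH : HalfOK H p) (hF : FoldOK H p) [CharP K p] (m : ℕ)

include hF in
theorem nu_sg (hN : NuOK D) {g : GL D.Idx K} (hg : g ∈ D.group K) :
    sg hH hD K m (nu hD K g) = nu hD K (sg hH hD K m g) := by
  refine group_induction hD K (P := fun g : D.group K => sg hH hD K m (nu hD K (g : GL D.Idx K)) =
    nu hD K (sg hH hD K m g)) ?_ ?_ ?_ ⟨g, hg⟩
  · rw [OneMemClass.coe_one, map_one]
    have h1 : sg hH hD K m (1 : GL D.Idx K) = 1 := by
      rw [show (1 : GL D.Idx K) = ((1 : D.group K) : GL D.Idx K) from rfl, sg_of_mem, map_one]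
    rw [h1, map_one]
  · intro a b ha hb
    simp only [Subgroup.coe_mul, map_mul] at ha hb ⊢
    rw [sg_mul hH hD K m (nu_mem hD K hN a.2) (nu_mem hD K hN b.2), ha, hb, sg_mul hH hD K m a.2 b.2, map_mul]
  · intro r hr t
    simp only [gxG]
    rw [nu_xg hD K hN hr, sg_xg hH hD K m (hD.neg_lt r hr), sg_xg hH hD K m hr, nu_xg hD K hN (hH.rho_lt r hr),
      hF.rho_neg r hr]
    obtain ⟨j, hj⟩ := ex_pow hF m hr
    rw [show ex H p m (D.neg r) = ex H p m r by rw [ex, ex, hF.lam_neg r hr], hj, neg_pow_char K j]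

variable {M : List (List ℤ)} {d : ℤ} (hR : Roots D M d)

theorem nu_fix (hN : NuOK D) {g : GL D.Idx K} (hg : g ∈ twFix hH hF hD K m hR) :
    nu hD K g ∈ twFix hH hF hD K m hR := by
  rw [mem_twFix] at hg ⊢
  exact ⟨nu_mem hD K hN hg.1, by rw [nu_sg hD K hH hF m hN hg.1, hg.2]⟩

end Cfsg.Agent.Twisted
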