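/-
Twisted groups, part 11: ²G₂(q) is the fixed group of σ in G₂(q).

With |K| = 3^(2m+1):
* `T2`, `mem_diag_iff`, `tor s`, `mem_H1_iff` : the torus;
* `mem_U1_iff`, `mem_V1_iff`;
* `twisted_eq`: twistedG2 K (3^m) = the fixed group; `U1_eq'`, `H1_eq'`;
* `exists_m0`, `inv_conj`: an element of N \ B in the group, inverting the torus.
-/
import Cfsg.Agent.Lib.Twisted.G2U
import Cfsg.Agent.Lib.Twisted.Nu
import Cfsg.Agent.Lib.Twisted.GoodG2
import Cfsg.Agent.Lib.Twisted.InvCert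

set_option autoImplicit false
set_option linter.unusedSectionVars false

namespace Cfsg.Agent.Twisted

open Cfsg.Lie Matrix
open Cfsg.Lie.ChevalleyDatum
open Cfsg.Agent.Chev Cfsg.Agent.ChevBN

theorem nuG2 : NuOK chevG2 := by
  refine ⟨by decide +kernel, fun r hr q h => ?_⟩
  have key : ∀ r < chevG2.nroots, ∀ q : Fin chevG2.nroots,
      colT chevG2 (chevG2.neg r) (Sum.inr ⟨chevG2.neg q.val % 12, Nat.mod_lt _ (by norm_num)⟩) =
        (colT chevG2 r (Sum.inr q)).map (fun x => ((negKey x.1.1, x.1.2), x.2 * (-1) ^ x.1.2)) := by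
    decide +kernel
  rw [← key r hr q]
  congr 2
  exact Fin.ext (Nat.mod_eq_of_lt h).symm

theorem charP_ree {K : Type*} [Field K] [Fintype K] {m : ℕ} (hK : Fintype.card K = 3 ^ (2 * m + 1)) :
    CharP K 3 := by
  obtain ⟨p, hp⟩ := CharP.exists K
  haveI := hp
  obtain ⟨n, hpp, hn⟩ := FiniteField.card K p
  have h : p ∣ 3 ^ (2 * m + 1) := hK ▸ hn ▸ dvd_pow_self p n.ne_zero
  obtain rfl := (Nat.prime_dvd_prime_iff_eq hpp Nat.prime_three).1 (hpp.dvd_of_dvd_pow h)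
  exact hp

variable (K : Type*) [Field K]

local notation "hG" => good_chevG2

/-- x_r(t) in G₂. -/
abbrev xG (r : ℕ) (t : K) : GL chevG2.Idx K := xg hG K r t

/-- The root group data of G₂. -/
abbrev rgdG2 : RGD.RootData (GL chevG2.Idx K) (Fin chevG2.nroots) (Fin chevG2.rank) :=
  chevRGD hG rootsG2 K

/-! ### The torus of G₂ -/

/-- h_a(c₀) h_b(c₁). -/
def T2 (c₀ c₁ : Kˣ) : GL chevG2.Idx K := hg hG K 7 (c₀ : K) * hg hG K 6 (c₁ : K)

/-- The character of `T2 c₀ c₁`. -/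
def chi2 (c₀ c₁ : Kˣ) (s : ℕ) : Kˣ := c₀ ^ chevG2.cartan 0 s * c₁ ^ chevG2.cartan 1 s

variable {K}

theorem pairing7 (s : ℕ) : chevG2.pairing 7 s = chevG2.cartan 0 s := pairing_simple hG (i := 0) (by decide) s
theorem pairing6 (s : ℕ) : chevG2.pairing 6 s = chevG2.cartan 1 s := pairing_simple hG (i := 1) (by decide) s

theorem coe_T2 (c₀ c₁ : Kˣ) : (T2 K c₀ c₁ : Matrix chevG2.Idx chevG2.Idx K) = dg (chi2 K c₀ c₁) := by
  rw [T2, Units.val_mul, coe_hg, coe_hg, hMat_eq_diag hG (by decide : 7 < chevG2.nroots) c₀.ne_zero,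
    hMat_eq_diag hG (by decide : 6 < chevG2.nroots) c₁.ne_zero, dg, dg, dg, Matrix.diagonal_mul_diagonal]
  congr 1
  funext a
  rcases a with i | s
  · simp
  · simp [chi2, pairing7, pairing6]

theorem T2_conj (c₀ c₁ : Kˣ) {s : ℕ} (u : K) :
    T2 K c₀ c₁ * xG K s u * (T2 K c₀ c₁)⁻¹ = xG K s ((chi2 K c₀ c₁ s : K) * u) := by
  rw [mul_inv_eq_iff_eq_mul, T2, mul_assoc, hg_conj hG (by decide : 6 < chevG2.nroots) c₁.ne_zero, ← mul_assoc,
    hg_conj hG (by decide : 7 < chevG2.nroots) c₀.ne_zero, mul_assoc]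
  congr 2
  simp [chi2, pairing7, pairing6, mul_assoc]

theorem T2_mul (a₀ a₁ b₀ b₁ : Kˣ) : T2 K a₀ a₁ * T2 K b₀ b₁ = T2 K (a₀ * b₀) (a₁ * b₁) := by
  refine Units.ext ?_
  rw [Units.val_mul, coe_T2, coe_T2, coe_T2, dg, dg, dg, Matrix.diagonal_mul_diagonal]
  congr 1
  funext a
  rcases a with i | s
  · simp
  · simp only [Sum.elim_inr, chi2, mul_zpow, Units.val_mul]
    ring

theorem T2_one : T2 K 1 1 = 1 := by
  have h := T2_mul (K := K) 1 1 1 1
  simp only [mul_one] at h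
  exact mul_eq_left.1 h

theorem T2_mem_diag (c₀ c₁ : Kˣ) : T2 K c₀ c₁ ∈ chevG2.diagonalSubgroup K :=
  mul_mem (Subgroup.subset_closure ⟨7, _, by decide, c₀.ne_zero, coe_hg hG _ _⟩)
    (Subgroup.subset_closure ⟨6, _, by decide, c₁.ne_zero, coe_hg hG _ _⟩)

theorem mem_diag_iff {h : GL chevG2.Idx K} :
    h ∈ chevG2.diagonalSubgroup K ↔ ∃ c₀ c₁, h = T2 K c₀ c₁ := by
  refine ⟨fun hh => ?_, fun ⟨c₀, c₁, e⟩ => e ▸ T2_mem_diag c₀ c₁⟩
  induction hh using Subgroup.closure_induction with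
  | mem g hg' =>
    obtain ⟨r, t, hr, ht, e⟩ := hg'
    refine ⟨Units.mk0 t ht ^ (chevG2.coroot.getD r #[]).getD 0 0,
      Units.mk0 t ht ^ (chevG2.coroot.getD r #[]).getD 1 0, Units.ext ?_⟩
    rw [e, coe_T2, hMat_eq_diag hG hr ht]
    congr 1
    funext s
    simp only [chi2, ← _root_.zpow_mul, ← _root_.zpow_add]
    refine congrArg (Units.mk0 t ht ^ ·) ?_
    rw [Chev.pairing_eq_sum]
    exact Fin.sum_univ_two fun i : Fin 2 => (chevG2.coroot.getD r #[]).getD i.val 0 * chevG2.cartan i.val s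
  | one => exact ⟨1, 1, T2_one.symm⟩
  | mul x y _ _ hx hy =>
    obtain ⟨a₀, a₁, rfl⟩ := hx
    obtain ⟨b₀, b₁, rfl⟩ := hy
    exact ⟨_, _, T2_mul a₀ a₁ b₀ b₁⟩
  | inv x _ hx =>
    obtain ⟨a₀, a₁, rfl⟩ := hx
    exact ⟨a₀⁻¹, a₁⁻¹, inv_eq_of_mul_eq_one_right (by rw [T2_mul, mul_inv_cancel, mul_inv_cancel, T2_one])⟩

theorem chi2_a (c₀ c₁ : Kˣ) : chi2 K c₀ c₁ 7 = c₀ ^ 2 / c₁ := by
  rw [chi2, show chevG2.cartan 0 7 = ((2 : ℕ) : ℤ) by decide, show chevG2.cartan 1 7 = -((1 : ℕ) : ℤ) by decide,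
    zpow_natCast, _root_.zpow_neg, zpow_natCast, pow_one, div_eq_mul_inv]

theorem chi2_b (c₀ c₁ : Kˣ) : chi2 K c₀ c₁ 6 = c₁ ^ 2 / c₀ ^ 3 := by
  rw [chi2, show chevG2.cartan 0 6 = -((3 : ℕ) : ℤ) by decide, show chevG2.cartan 1 6 = ((2 : ℕ) : ℤ) by decide,
    zpow_natCast, _root_.zpow_neg, zpow_natCast, div_eq_mul_inv, mul_comm]

theorem T2_eq_one {c₀ c₁ : Kˣ} (ha : chi2 K c₀ c₁ 7 = 1) (hb : chi2 K c₀ c₁ 6 = 1) : T2 K c₀ c₁ = 1 := by
  rw [chi2_a, div_eq_one] at ha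
  rw [chi2_b, ← ha, div_eq_one, ← pow_mul] at hb
  have h0 : c₀ = 1 := mul_eq_left.1 (show c₀ ^ 3 * c₀ = c₀ ^ 3 by rw [← pow_succ]; exact hb)
  rw [h0, one_pow] at ha
  rw [h0, ← ha, T2_one]

theorem xG_inj {r : ℕ} (hr : r < chevG2.nroots) {t u : K} (h : xG K r t = xG K r u) : t = u := by
  have h1 : xG K r (t + -u) = 1 := by
    rw [xG, ← xg_add hG hr, ← xg_inv]
    exact mul_inv_eq_one.2 h
  by_contra hne
  have htu : t + -u ≠ 0 := fun e => hne (add_neg_eq_zero.1 e)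
  have h2 := congrArg (fun g : GL chevG2.Idx K => (g : Matrix chevG2.Idx chevG2.Idx K) *ᵥ ev chevG2 K (chevG2.neg r)) h1
  simp only [xG, coe_xg, x_eq_xR chevG2 hr, Units.val_one, Matrix.one_mulVec,
    xR_neg chevG2 r (t + -u) (good_chevG2.neg_lt r hr) (good_chevG2.neg_ne r hr)] at h2
  have h3 := congrFun h2 (Sum.inr ⟨r, hr⟩)
  simp [ev, hv, (good_chevG2.neg_ne r hr).symm] at h3
  exact htu h3

theorem nw_conj_xG (l : List (Fin chevG2.rank)) {r : ℕ} (hr : r < chevG2.nroots) :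
    wwN chevG2 l r < chevG2.nroots ∧
      ∃ η : K, ∀ u, (rgdG2 K).nw l * xG K r u * ((rgdG2 K).nw l)⁻¹ = xG K (wwN chevG2 l r) (η * u) := by
  induction l with
  | nil => exact ⟨hr, 1, fun u => by simp [wwN]⟩
  | cons i l ih =>
    obtain ⟨hlt, η, hη⟩ := ih
    refine ⟨ChevSt.refl_lt hG ((good_chevG2).simple_lt i.val i.isLt) hlt,
      (nSign chevG2 (chevG2.simple i.val) (wwN chevG2 l r) : K) * η, fun u => ?_⟩
    have e : (rgdG2 K).nw (i :: l) * xG K r u * ((rgdG2 K).nw (i :: l))⁻¹ =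
        ng hG K (chevG2.simple i.val) 1 * ((rgdG2 K).nw l * xG K r u * ((rgdG2 K).nw l)⁻¹) *
          (ng hG K (chevG2.simple i.val) 1)⁻¹ := by
      rw [RGD.RootData.nw_cons]
      rw [show (rgdG2 K).n i = ng hG K (chevG2.simple i.val) 1 from rfl]
      group
    rw [e, hη, ng_conj_xg hG i.isLt hlt, mul_assoc]
    rfl

/-- The representative of w₀ inverts the torus. -/
theorem n0_inverts {h : GL chevG2.Idx K} (hh : h ∈ chevG2.diagonalSubgroup K) :
    (rgdG2 K).nw w0G2 * h * ((rgdG2 K).nw w0G2)⁻¹ = h⁻¹ := by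
  set n := (rgdG2 K).nw w0G2
  have hg' : n * h * n⁻¹ ∈ chevG2.diagonalSubgroup K := (rgdG2 K).nw_conj_H w0G2 hh
  obtain ⟨c₀, c₁, rfl⟩ := mem_diag_iff.1 hh
  obtain ⟨d₀, d₁, hd⟩ := mem_diag_iff.1 hg'
  have key : ∀ r, r < chevG2.nroots → wwN chevG2 w0G2 (chevG2.neg r) = r →
      chi2 K d₀ d₁ r = chi2 K c₀ c₁ (chevG2.neg r) := by
    intro r hr hw
    obtain ⟨-, η, hη⟩ := nw_conj_xG (K := K) w0G2 ((good_chevG2).neg_lt r hr)
    rw [hw] at hη
    have hη0 : η ≠ 0 := by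
      intro h0
      have h1 := hη 1
      rw [h0, zero_mul, xG, xG, xg_zero, conj_eq_one_iff] at h1
      exact x_one_ne_one hG ((good_chevG2).neg_lt r hr) h1
    have e1 := T2_conj d₀ d₁ (s := r) (η * 1)
    rw [← hη, ← hd, show n * T2 K c₀ c₁ * n⁻¹ * (n * xG K (chevG2.neg r) 1 * n⁻¹) * (n * T2 K c₀ c₁ * n⁻¹)⁻¹ =
      n * (T2 K c₀ c₁ * xG K (chevG2.neg r) 1 * (T2 K c₀ c₁)⁻¹) * n⁻¹ by group, T2_conj, hη] at e1
    have e2 := xG_inj hr e1
    refine Units.ext ?_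
    rw [mul_one, mul_one, mul_comm η] at e2
    exact (mul_right_cancel₀ hη0 e2).symm
  have hneg : ∀ r, r < chevG2.nroots → chi2 K c₀ c₁ (chevG2.neg r) = (chi2 K c₀ c₁ r)⁻¹ := fun r hr => by
    simp [chi2, (good_chevG2).cartan_neg r hr 0 (by decide), (good_chevG2).cartan_neg r hr 1 (by decide),
      mul_comm]
  have h1 : T2 K (c₀ * d₀) (c₁ * d₁) = 1 := by
    have hsplit : ∀ r, chi2 K (c₀ * d₀) (c₁ * d₁) r = chi2 K c₀ c₁ r * chi2 K d₀ d₁ r := fun r => by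
      simp only [chi2, mul_zpow]; rw [mul_mul_mul_comm]
    refine T2_eq_one ?_ ?_ <;> rw [hsplit]
    · rw [key 7 (by decide) (by decide +kernel), hneg 7 (by decide), mul_inv_cancel]
    · rw [key 6 (by decide) (by decide +kernel), hneg 6 (by decide), mul_inv_cancel]
  rw [← T2_mul] at h1
  rw [hd, (inv_eq_of_mul_eq_one_right h1)]

/-! ### The twisted group -/

variable [Fintype K] [CharP K 3] {m : ℕ}

variable (K m) in
/-- σ as a fold. -/
noncomputable abbrev foldK : Fold (rgdG2 K) := chevFold halfG2_ok foldG2 hG K m rootsG2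

theorem rankOneK : RankOne (foldK K m) w0G2 := rankOne_of halfG2_ok foldG2 hG K m rootsG2 longG2

theorem mem_fix_iff {g : GL chevG2.Idx K} :
    g ∈ (foldK K m).fix ↔ g ∈ chevG2.group K ∧ sg halfG2_ok hG K m g = g :=
  mem_twFix halfG2_ok foldG2 hG K m rootsG2

theorem mem_H_iff {h : GL chevG2.Idx K} : h ∈ (rgdG2 K).H ↔ h ∈ chevG2.diagonalSubgroup K := Iff.rfl

/-- h(s) = h_a(s^(2θ+1)) h_b(s^(3θ+2)), the element of the torus with χ(b) = s. -/
def tor (m : ℕ) (s : Kˣ) : GL chevG2.Idx K := T2 K (s ^ (2 * 3 ^ m + 1)) (s ^ (3 * 3 ^ m + 2))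

theorem tor_mul (s t : Kˣ) : tor m (s * t) = tor (K := K) m s * tor m t := by
  simp only [tor, T2_mul, mul_pow]

theorem tor_one : tor (K := K) m 1 = 1 := by simp [tor, T2_one]

theorem chi_tor_b (s : Kˣ) : chi2 K (s ^ (2 * 3 ^ m + 1)) (s ^ (3 * 3 ^ m + 2)) 6 = s := by
  rw [chi2_b, div_eq_iff_eq_mul, ← pow_mul, ← pow_mul,
    show (3 * 3 ^ m + 2) * 2 = (2 * 3 ^ m + 1) * 3 + 1 by ring, pow_succ']

theorem chi_tor_a (s : Kˣ) : chi2 K (s ^ (2 * 3 ^ m + 1)) (s ^ (3 * 3 ^ m + 2)) 7 = s ^ 3 ^ m := by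
  rw [chi2_a, div_eq_iff_eq_mul, ← pow_mul, ← pow_add]
  congr 1
  ring

theorem tor_injective : Function.Injective (tor (K := K) m) := by
  intro s t h
  have h1 := congrArg (fun g : GL chevG2.Idx K => g * xG K 6 1 * g⁻¹) h
  simp only [tor, T2_conj, mul_one, chi_tor_b] at h1
  exact Units.ext (xG_inj (by decide) h1)

theorem mem_U1_iff (hK : Fintype.card K = 3 ^ (2 * m + 1)) {g : GL chevG2.Idx K} :
    g ∈ (foldK K m).U1 ↔ ∃ t u v : K, g = uel hG K (ree6 K (3 ^ m) t u v) := by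
  rw [Fold.U1_eq, Subgroup.mem_inf, mem_fix_iff, chev_Upos hG rootsG2]
  constructor
  · rintro ⟨hU, -, hs⟩
    obtain ⟨v, rfl⟩ := (mem_posUnipotent hG K).1 hU
    rw [sg_uel] at hs
    obtain ⟨t, u, w, e⟩ := (sg6_fixed hK).1 (uel_inj hG K hs)
    exact ⟨t, u, w, by rw [e]⟩
  · rintro ⟨t, u, v, rfl⟩
    have hU := (mem_posUnipotent hG K).2 ⟨ree6 K (3 ^ m) t u v, rfl⟩
    refine ⟨hU, borel_le_group hG rootsG2 (Subgroup.mem_sup_left hU), ?_⟩
    rw [sg_uel, (sg6_fixed hK).2 ⟨t, u, v, rfl⟩]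

theorem nu_uel (v : C6 K) :
    (nu hG K (uel hG K v) : Matrix chevG2.Idx chevG2.Idx K) = chevG2.wordMat K
      (chevG2.negWord [(7, v.a), (6, v.b), (8, v.c), (9, v.d), (10, v.g), (11, v.h)]) := by
  simp only [uel, map_mul, Units.val_mul, nu_xg hG K nuG2 (show 7 < chevG2.nroots by decide),
    nu_xg hG K nuG2 (show 6 < chevG2.nroots by decide), nu_xg hG K nuG2 (show 8 < chevG2.nroots by decide),
    nu_xg hG K nuG2 (show 9 < chevG2.nroots by decide), nu_xg hG K nuG2 (show 10 < chevG2.nroots by decide),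
    nu_xg hG K nuG2 (show 11 < chevG2.nroots by decide), coe_xg]
  simp [ChevalleyDatum.wordMat, ChevalleyDatum.negWord, ChevalleyDatum.neg, mul_assoc]

theorem nu_nu (g : GL chevG2.Idx K) : nu hG K (nu hG K g) = g := by
  refine Units.ext ?_
  ext a b
  show (g : Matrix chevG2.Idx chevG2.Idx K) ((negPerm hG).symm ((negPerm hG).symm a))
    ((negPerm hG).symm ((negPerm hG).symm b)) = _
  have h : ∀ x, (negPerm hG).symm ((negPerm hG).symm x) = x := fun x => (negPerm hG).left_inv x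
  rw [h, h]

theorem nu_swap {x : GL chevG2.Idx K} (hx : x ∈ chevG2.negUnipotent K) :
    nu hG K x ∈ chevG2.posUnipotent K := by
  have : chevG2.negUnipotent K ≤ (chevG2.posUnipotent K).comap (nu hG K) := by
    refine (Subgroup.closure_le _).2 ?_
    rintro g ⟨r, t, hr, e⟩
    obtain rfl : g = xG K r t := Units.ext e
    rw [SetLike.mem_coe, Subgroup.mem_comap, xG, nu_xg hG K nuG2 hr.1]
    exact Subgroup.subset_closure
      ⟨chevG2.neg r, -t, (pos_or_neg hG hr.1).2 ((isNeg_iff hG hr.1).1 hr), coe_xg hG _ _⟩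
  exact this hx

theorem twisted_le (hK : Fintype.card K = 3 ^ (2 * m + 1)) :
    twistedG2 K (3 ^ m) ≤ (foldK K m).fix := by
  refine (Subgroup.closure_le _).2 ?_
  rintro g ⟨w, ⟨t, u, v, rfl | rfl⟩, e⟩
  · obtain rfl : g = uel hG K (ree6 K (3 ^ m) t u v) := Units.ext (e.trans (coe_ree6 hG t u v).symm)
    exact ((mem_U1_iff hK).2 ⟨t, u, v, rfl⟩).2
  · obtain rfl : g = nu hG K (uel hG K (ree6 K (3 ^ m) t u v)) := by
      refine Units.ext (e.trans ?_)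
      rw [nu_uel]
      rfl
    exact nu_fix hG K halfG2_ok foldG2 m rootsG2 nuG2 ((mem_U1_iff hK).2 ⟨t, u, v, rfl⟩).2

theorem U1_le_twisted (hK : Fintype.card K = 3 ^ (2 * m + 1)) : (foldK K m).U1 ≤ twistedG2 K (3 ^ m) := by
  intro g hg'
  obtain ⟨t, u, v, rfl⟩ := (mem_U1_iff hK).1 hg'
  exact Subgroup.subset_closure ⟨_, ⟨t, u, v, Or.inl rfl⟩, coe_ree6 hG t u v⟩

theorem nu_U1_mem_twisted (hK : Fintype.card K = 3 ^ (2 * m + 1)) {g : GL chevG2.Idx K}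
    (hg' : g ∈ (foldK K m).U1) : nu hG K g ∈ twistedG2 K (3 ^ m) := by
  obtain ⟨t, u, v, rfl⟩ := (mem_U1_iff hK).1 hg'
  exact Subgroup.subset_closure ⟨_, ⟨t, u, v, Or.inr rfl⟩, (nu_uel _).trans rfl⟩

theorem V1_mem_twisted (hK : Fintype.card K = 3 ^ (2 * m + 1)) {g : GL chevG2.Idx K}
    (hV : g ∈ chevG2.negUnipotent K) (hf : g ∈ (foldK K m).fix) : g ∈ twistedG2 K (3 ^ m) := by
  have h : nu hG K g ∈ (foldK K m).U1 :=
    ⟨by rw [chev_Upos hG rootsG2]; exact nu_swap hV, nu_fix hG K halfG2_ok foldG2 m rootsG2 nuG2 hf⟩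
  simpa [nu_nu] using nu_U1_mem_twisted hK h

theorem sg_T2 (c₀ c₁ : Kˣ) :
    sg halfG2_ok hG K m (T2 K c₀ c₁) = T2 K (c₁ ^ 3 ^ m) (c₀ ^ (3 * 3 ^ m)) := by
  have h7 : (7 : ℕ) < chevG2.nroots := by decide
  have h6 : (6 : ℕ) < chevG2.nroots := by decide
  have hm := fun r (t : K) => xg_mem_group hG r t
  have hh : ∀ r (t : K), hg hG K r t ∈ chevG2.group K := fun r t =>
    mul_mem (mul_mem (mul_mem (hm _ _) (hm _ _)) (hm _ _)) (mul_mem (mul_mem (hm _ _) (hm _ _)) (hm _ _))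
  rw [T2, sg_mul halfG2_ok hG K m (hh _ _) (hh _ _), sg_hg halfG2_ok foldG2 hG K m h7,
    sg_hg halfG2_ok foldG2 hG K m h6, show halfG2.rho 7 = 6 by decide +kernel,
    show halfG2.rho 6 = 7 by decide +kernel, ex, ex, show halfG2.lam 7 = 3 by decide +kernel,
    show halfG2.lam 6 = 1 by decide +kernel, mul_one, mul_comm (3 ^ m) 3, T2, Units.val_pow_eq_pow_val,
    Units.val_pow_eq_pow_val]
  exact diag_commute hG
    (Subgroup.subset_closure ⟨6, _, h6, pow_ne_zero _ c₀.ne_zero, coe_hg hG _ _⟩)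
    (Subgroup.subset_closure ⟨7, _, h7, pow_ne_zero _ c₁.ne_zero, coe_hg hG _ _⟩)

theorem unit_pow_three_e_e (hK : Fintype.card K = 3 ^ (2 * m + 1)) (s : Kˣ) :
    (s ^ 3 ^ m) ^ (3 * 3 ^ m) = s :=
  Units.ext (by push_cast; exact pow_three_e_e hK _)

theorem mem_H1_iff (hK : Fintype.card K = 3 ^ (2 * m + 1)) {h : GL chevG2.Idx K} :
    h ∈ (foldK K m).H1 ↔ ∃ s, h = tor m s := by
  rw [Fold.H1_eq, Subgroup.mem_inf, mem_fix_iff, mem_H_iff]
  constructor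
  · rintro ⟨hH, -, hs⟩
    obtain ⟨c₀, c₁, rfl⟩ := mem_diag_iff.1 hH
    refine ⟨chi2 K c₀ c₁ 6, ?_⟩
    have e7 : chi2 K c₀ c₁ 7 = chi2 K c₀ c₁ 6 ^ 3 ^ m := by
      rw [sg_T2] at hs
      have h2 := congrArg (fun g : GL chevG2.Idx K => g * xG K 7 1 * g⁻¹) hs
      simp only [T2_conj, mul_one] at h2
      rw [← (Units.ext (xG_inj (by decide) h2) : chi2 K _ _ 7 = chi2 K c₀ c₁ 7), chi2_a, chi2_b,
        div_pow, ← pow_mul, ← pow_mul, ← pow_mul, mul_comm (3 ^ m) 2]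
    have h1 : T2 K (c₀ / chi2 K c₀ c₁ 6 ^ (2 * 3 ^ m + 1)) (c₁ / chi2 K c₀ c₁ 6 ^ (3 * 3 ^ m + 2)) = 1 := by
      have hs' : ∀ a b a' b' r, chi2 K (a / a') (b / b') r = chi2 K a b r / chi2 K a' b' r := fun a b a' b' r => by
        simp only [chi2, div_zpow]; rw [div_mul_div_comm]
      refine T2_eq_one ?_ ?_
      · rw [hs', chi_tor_a, e7, div_self']
      · rw [hs', chi_tor_b, div_self']
    calc T2 K c₀ c₁ = T2 K (c₀ / chi2 K c₀ c₁ 6 ^ (2 * 3 ^ m + 1)) (c₁ / chi2 K c₀ c₁ 6 ^ (3 * 3 ^ m + 2)) *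
          tor m (chi2 K c₀ c₁ 6) := by rw [tor, T2_mul, div_mul_cancel, div_mul_cancel]
      _ = _ := by rw [h1, one_mul]
  · rintro ⟨s, rfl⟩
    have hH := T2_mem_diag (K := K) (s ^ (2 * 3 ^ m + 1)) (s ^ (3 * 3 ^ m + 2))
    refine ⟨hH, borel_le_group hG rootsG2 (Subgroup.mem_sup_right hH), ?_⟩
    rw [tor, sg_T2]
    congr 1
    · calc (s ^ (3 * 3 ^ m + 2)) ^ 3 ^ m = (s ^ 3 ^ m) ^ (3 * 3 ^ m) * s ^ (2 * 3 ^ m) := by
            rw [← pow_mul, ← pow_mul, ← pow_add]; ring_nf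
        _ = _ := by rw [unit_pow_three_e_e hK, pow_succ']
    · calc (s ^ (2 * 3 ^ m + 1)) ^ (3 * 3 ^ m) = ((s ^ 3 ^ m) ^ (3 * 3 ^ m)) ^ 2 * s ^ (3 * 3 ^ m) := by
            rw [← pow_mul, ← pow_mul, ← pow_mul, ← pow_add]; ring_nf
        _ = _ := by rw [unit_pow_three_e_e hK, ← pow_add, add_comm]

theorem H1_conj_twisted (hK : Fintype.card K = 3 ^ (2 * m + 1)) {h g : GL chevG2.Idx K}
    (hh : h ∈ (foldK K m).H1) (hg' : g ∈ twistedG2 K (3 ^ m)) : h * g * h⁻¹ ∈ twistedG2 K (3 ^ m) := by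
  have : twistedG2 K (3 ^ m) ≤ (twistedG2 K (3 ^ m)).comap (MulAut.conj h).toMonoidHom := by
    refine (Subgroup.closure_le _).2 ?_
    rintro x ⟨w, hw, e⟩
    have hx : x ∈ (foldK K m).fix := twisted_le hK (Subgroup.subset_closure ⟨w, hw, e⟩)
    have hf : h * x * h⁻¹ ∈ (foldK K m).fix := mul_mem (mul_mem hh.2 hx) (inv_mem hh.2)
    obtain ⟨t, u, v, rfl | rfl⟩ := hw
    · obtain rfl : x = uel hG K (ree6 K (3 ^ m) t u v) := Units.ext (e.trans (coe_ree6 hG t u v).symm)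
      refine U1_le_twisted hK ⟨?_, hf⟩
      exact (rgdG2 K).H_conj_span _ hh.1 _ ((mem_U1_iff hK).2 ⟨t, u, v, rfl⟩).1
    · obtain rfl : x = nu hG K (uel hG K (ree6 K (3 ^ m) t u v)) := by
        refine Units.ext (e.trans ?_)
        rw [nu_uel]
        rfl
      refine V1_mem_twisted hK ?_ hf
      rw [← chev_Vneg hG rootsG2]
      refine (rgdG2 K).H_conj_span _ hh.1 _ ?_
      show _ ∈ (rgdG2 K).Vneg
      rw [chev_Vneg hG rootsG2, uel]
      have hneg : ∀ r (hr : r < chevG2.nroots) (c : K), chevG2.IsPosRoot r →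
          nu hG K (xg hG K r c) ∈ chevG2.negUnipotent K := fun r hr c hp => by
        rw [nu_xg hG K nuG2 hr]
        refine Subgroup.subset_closure ⟨chevG2.neg r, -c, (isNeg_iff hG (good_chevG2.neg_lt r hr)).2 ?_, coe_xg hG _ _⟩
        exact fun h' => (pos_or_neg hG hr).1 h' hp
      simp only [map_mul]
      refine mul_mem (mul_mem (mul_mem (mul_mem (mul_mem ?_ ?_) ?_) ?_) ?_) ?_ <;> apply hneg <;> decide +kernel
  exact this hg'

/-- An element of the twisted group in h n₀. -/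
theorem exists_m0 (hK : Fintype.card K = 3 ^ (2 * m + 1)) :
    ∃ h₀ ∈ chevG2.diagonalSubgroup K, h₀ * (rgdG2 K).nw w0G2 ∈ (foldK K m).fix ∧
      h₀ * (rgdG2 K).nw w0G2 ∈ twistedG2 K (3 ^ m) := by
  set u₀ := uel hG K (ree6 K (3 ^ m) (0 : K) 0 1)
  have hu₀ : u₀ ∈ (foldK K m).U1 := (mem_U1_iff hK).2 ⟨0, 0, 1, rfl⟩
  have hne : u₀ ≠ 1 := fun h => by
    have := congrArg C6.h (uel_eq_one hG K h)
    simp [ree6, zero6] at this
  set y := nu hG K u₀
  have hy : y ∈ twistedG2 K (3 ^ m) := nu_U1_mem_twisted hK hu₀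
  rcases (rankOneK (m := m)).form (twisted_le hK hy) with ⟨u, hu, h, hh, e⟩ | ⟨u, hu, h, hh, hf, c, hc, e⟩
  · exfalso
    have hV : y ∈ chevG2.negUnipotent K := by
      have hu' : u₀ ∈ chevG2.posUnipotent K := by rw [← chev_Upos hG rootsG2]; exact hu₀.1
      have : chevG2.posUnipotent K ≤ (chevG2.negUnipotent K).comap (nu hG K) := by
        refine (Subgroup.closure_le _).2 ?_
        rintro g ⟨r, t, hr, e'⟩
        obtain rfl : g = xG K r t := Units.ext e'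
        rw [SetLike.mem_coe, Subgroup.mem_comap, xG, nu_xg hG K nuG2 hr.1]
        exact Subgroup.subset_closure ⟨chevG2.neg r, -t,
          (isNeg_iff hG (good_chevG2.neg_lt r hr.1)).2 (fun h' => (pos_or_neg hG hr.1).1 h' hr), coe_xg hG _ _⟩
      exact this hu'
    have hB : y ∈ chevG2.borelSubgroup K := by
      rw [← chev_B hG rootsG2, e]
      exact mul_mem ((rgdG2 K).Upos_le_B hu.1) ((rgdG2 K).H_le_B hh.1)
    have h1 := borel_inf_neg hG rootsG2 (F := K)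
    have h2 : y = 1 := by rw [← Subgroup.mem_bot, ← h1]; exact Subgroup.mem_inf.2 ⟨hB, hV⟩
    exact hne (by rw [← nu_nu u₀]; show nu hG K y = 1; rw [h2, map_one])
  · refine ⟨h, hh, hf, ?_⟩
    have h3 := mul_mem (mul_mem (inv_mem (U1_le_twisted hK hu)) hy) (inv_mem (U1_le_twisted hK hc))
    rwa [e, show u⁻¹ * (u * (h * (rgdG2 K).nw w0G2) * c) * c⁻¹ = h * (rgdG2 K).nw w0G2 by group] at h3

theorem inv_conj {h₀ k : GL chevG2.Idx K} (hh₀ : h₀ ∈ chevG2.diagonalSubgroup K)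
    (hk : k ∈ chevG2.diagonalSubgroup K) :
    (h₀ * (rgdG2 K).nw w0G2) * k * (h₀ * (rgdG2 K).nw w0G2)⁻¹ = k⁻¹ := by
  rw [show (h₀ * (rgdG2 K).nw w0G2) * k * (h₀ * (rgdG2 K).nw w0G2)⁻¹ =
    h₀ * ((rgdG2 K).nw w0G2 * k * ((rgdG2 K).nw w0G2)⁻¹) * h₀⁻¹ by group, n0_inverts hk,
    diag_commute hG hh₀ (inv_mem hk), mul_inv_cancel_right]

theorem tor_neg_one_mem (hK : Fintype.card K = 3 ^ (2 * m + 1)) :
    tor m (-1 : Kˣ) ∈ twistedG2 K (3 ^ m) := by
  have hU : ∀ t u v : K, uel hG K (ree6 K (3 ^ m) t u v) ∈ (foldK K m).U1 := fun t u v =>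
    (mem_U1_iff hK).2 ⟨t, u, v, rfl⟩
  have hP := mul_mem (mul_mem (mul_mem (U1_le_twisted hK (hU 0 0 1)) (nu_U1_mem_twisted hK (hU 0 0 1)))
    (U1_le_twisted hK (hU 1 1 1))) (nu_U1_mem_twisted hK (hU (-1) 1 (-1)))
  convert hP using 1
  refine Units.ext (Matrix.ext_of_mulVec_single fun c => ?_)
  have hodd : Odd (3 ^ m) := Odd.pow (by decide)
  have h1 : ((-1 : K)) ^ 3 ^ m = -1 := hodd.neg_one_pow
  have h2 : ((-1 : K)) ^ (2 * 3 ^ m) = 1 := by rw [pow_mul]; simp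
  have h2' : (1 : K) + 1 = -1 := by linear_combination three_eq_zero K
  have h2'' : (-1 : K) + -1 = 1 := by linear_combination -(three_eq_zero K)
  have hW : ((uel hG K (ree6 K (3 ^ m) 0 0 1) * nu hG K (uel hG K (ree6 K (3 ^ m) 0 0 1)) *
      uel hG K (ree6 K (3 ^ m) 1 1 1) * nu hG K (uel hG K (ree6 K (3 ^ m) (-1) 1 (-1))) : GL chevG2.Idx K) :
        Matrix chevG2.Idx chevG2.Idx K) = chevG2.wordMat K (invWord.map fun g => (g.1, (g.2 : K))) := by
    simp only [uel, map_mul, nu_xg hG K nuG2 (show 7 < chevG2.nroots by decide),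
      nu_xg hG K nuG2 (show 6 < chevG2.nroots by decide), nu_xg hG K nuG2 (show 8 < chevG2.nroots by decide),
      nu_xg hG K nuG2 (show 9 < chevG2.nroots by decide), nu_xg hG K nuG2 (show 10 < chevG2.nroots by decide),
      nu_xg hG K nuG2 (show 11 < chevG2.nroots by decide),
      show chevG2.neg 7 = 4 by decide, show chevG2.neg 6 = 5 by decide, show chevG2.neg 8 = 3 by decide,
      show chevG2.neg 9 = 2 by decide, show chevG2.neg 10 = 1 by decide, show chevG2.neg 11 = 0 by decide,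
      ree6, Units.val_mul, coe_xg, invWord, ChevalleyDatum.wordMat, List.map_cons, List.map_nil, List.prod_cons,
      List.prod_nil, mul_one]
    have e0 : ((0 : K)) ^ 3 ^ m = 0 := zero_pow (pow_ne_zero _ (by norm_num))
    simp [pow_succ, h1, h2, h2', h2'', e0, good_chevG2.x_zero, mul_assoc]
  have hs := chk_spec good_chevG2 (F := K) (invCert_ok c)
  have hb : bv chevG2 K (key chevG2 c) = Pi.single c 1 := by
    ext b
    simp [bv, Pi.single_apply, (key_injective chevG2).eq_iff]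
  simp only [vecOf, List.map_cons, List.map_nil, List.sum_cons, List.sum_nil, add_zero, Int.cast_one, one_smul,
    hb] at hs
  rw [hW, hs, tor, coe_T2, dg]
  ext a
  rw [Matrix.mulVec_single_one, Matrix.col_apply, Matrix.diagonal_apply, Pi.smul_apply, Pi.single_apply,
    smul_eq_mul]
  split_ifs with hac
  · subst hac
    rw [mul_one]
    have ho1 : Odd (2 * 3 ^ m + 1) := odd_two_mul_add_one _
    have ho2 : Odd (3 * 3 ^ m + 2) := ((by decide : Odd 3).mul hodd).add_even (by decide)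
    have hneg : ((-1 : Kˣ)) = Units.map (Int.castRingHom K).toMonoidHom (-1) := by ext; simp
    have hsign : ∀ c : chevG2.Idx, invSign c = ((Sum.elim (fun _ => (1 : ℤˣ))
        (fun s : Fin chevG2.nroots => (-1 : ℤˣ) ^ ((chevG2.cartan 0 s.val).natAbs + (chevG2.cartan 1 s.val).natAbs))
        c : ℤˣ) : ℤ) := by decide +kernel
    rw [hsign]
    rcases a with i | s
    · simp
    · simp only [Sum.elim_inr, chi2]
      rw [ho1.neg_one_pow, ho2.neg_one_pow]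
      simp only [hneg, ← map_zpow, ← map_mul]
      simp only [Units.coe_map, RingHom.toMonoidHom_eq_coe, MonoidHom.coe_coe, eq_intCast]
      congr 1
      rw [pow_add, ← zpow_natCast, ← zpow_natCast]
      have key : ∀ z : ℤ, ((-1 : ℤˣ)) ^ z = (-1 : ℤˣ) ^ (z.natAbs : ℤ) := fun z => by
        rcases Int.natAbs_eq z with h | h
        · rw [← h]
        · conv_lhs => rw [h, _root_.zpow_neg, ← _root_.inv_zpow, show ((-1 : ℤˣ))⁻¹ = -1 by decide]
      rw [key, key (chevG2.cartan 1 s.val)]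
  · rw [mul_zero]

theorem H1_le_twisted (hK : Fintype.card K = 3 ^ (2 * m + 1)) : (foldK K m).H1 ≤ twistedG2 K (3 ^ m) := by
  intro k hk
  obtain ⟨s, rfl⟩ := (mem_H1_iff hK).1 hk
  obtain ⟨h₀, hh₀, -, hm⟩ := exists_m0 hK
  have hsq : ∀ k ∈ (foldK K m).H1, k * k ∈ twistedG2 K (3 ^ m) := by
    intro k hk
    have h1 := mul_mem (H1_conj_twisted hK hk hm) (inv_mem hm)
    set n := h₀ * (rgdG2 K).nw w0G2 with hn
    have h2 : n * k⁻¹ * n⁻¹ = k := by rw [hn, inv_conj hh₀ (inv_mem hk.1), inv_inv]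
    rwa [show k * n * k⁻¹ * n⁻¹ = k * (n * k⁻¹ * n⁻¹) by group, h2] at h1
  obtain ⟨j, hj⟩ : ∃ j, Fintype.card K = 4 * j + 3 := by
    have : 3 ^ (2 * m + 1) % 4 = 3 := by rw [pow_succ, pow_mul, Nat.mul_mod, Nat.pow_mod]; norm_num
    exact ⟨Fintype.card K / 4, by omega⟩
  have he : (s : Kˣ) ^ (2 * j + 1) = 1 ∨ (s : Kˣ) ^ (2 * j + 1) = -1 := by
    have h1 : ((s : K) ^ (2 * j + 1)) * ((s : K) ^ (2 * j + 1)) = 1 := by
      rw [← pow_add]
      have := FiniteField.pow_card_sub_one_eq_one (s : K) s.ne_zero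
      rwa [hj, show 4 * j + 3 - 1 = 2 * j + 1 + (2 * j + 1) by omega] at this
    rcases mul_self_eq_one_iff.1 h1 with h | h
    · exact Or.inl (Units.ext (by simpa using h))
    · exact Or.inr (Units.ext (by simpa using h))
  have key : tor m s = tor m (s ^ (2 * j + 1)) * (tor m (s ^ (j + 1)) * tor m (s ^ (j + 1))) := by
    rw [← tor_mul, ← tor_mul]
    congr 1
    have h4 : s ^ (2 * j + 1) * s ^ (2 * j + 1) = 1 := by rcases he with h | h <;> simp [h]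
    rw [← pow_add, ← pow_add, show 2 * j + 1 + (j + 1 + (j + 1)) = 2 * j + 1 + (2 * j + 1) + 1 by omega,
      pow_succ, pow_add, h4, one_mul]
  rw [key]
  refine mul_mem ?_ (hsq _ ((mem_H1_iff hK).2 ⟨_, rfl⟩))
  rcases he with h | h <;> rw [h]
  · rw [tor_one]; exact one_mem _
  · exact tor_neg_one_mem hK

/-- The twisted group is the fixed group. -/
theorem twisted_eq (hK : Fintype.card K = 3 ^ (2 * m + 1)) : twistedG2 K (3 ^ m) = (foldK K m).fix := by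
  refine le_antisymm (twisted_le hK) fun g hg' => ?_
  obtain ⟨h₀, hh₀, hf, hm⟩ := exists_m0 hK
  rcases (rankOneK (m := m)).form' hh₀ hf hg' with ⟨u, hu, h, hh, rfl⟩ | ⟨u, hu, h, hh, c, hc, rfl⟩
  · exact mul_mem (U1_le_twisted hK hu) (H1_le_twisted hK hh)
  · exact mul_mem (mul_mem (mul_mem (U1_le_twisted hK hu) (H1_le_twisted hK hh)) hm) (U1_le_twisted hK hc)

theorem U1_eq' (hK : Fintype.card K = 3 ^ (2 * m + 1)) :
    chevG2.posUnipotent K ⊓ twistedG2 K (3 ^ m) = (foldK K m).U1 := by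
  rw [twisted_eq hK, Fold.U1_eq, chev_Upos hG rootsG2]

theorem H1_eq' (hK : Fintype.card K = 3 ^ (2 * m + 1)) :
    chevG2.diagonalSubgroup K ⊓ twistedG2 K (3 ^ m) = (foldK K m).H1 := by
  rw [twisted_eq hK]
  rfl

end Cfsg.Agent.Twisted
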