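/-
Twisted groups, part 12: structure of ²G₂(q).

* `card_U1`, `torHom`, `card_H1`, `isCyclic_H1`;
* `reeBNPair`; `card_ree`; `mem_N1_iff`.
-/
import Cfsg.Agent.Lib.Twisted.G2

set_option autoImplicit false
set_option linter.unusedSectionVars false

namespace Cfsg.Agent.Twisted

open Cfsg.Lie Matrix
open Cfsg.Lie.ChevalleyDatum
open Cfsg.Agent.Chev Cfsg.Agent.ChevBN

variable {K : Type*} [Field K] [Fintype K] [CharP K 3] {m : ℕ} (hK : Fintype.card K = 3 ^ (2 * m + 1))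
include hK

theorem card_U1 : Nat.card (foldK K m).U1 = (3 ^ (2 * m + 1)) ^ 3 := by
  let f : K × K × K → (foldK K m).U1 := fun x =>
    ⟨uel good_chevG2 K (ree6 K (3 ^ m) x.1 x.2.1 x.2.2), (mem_U1_iff hK).2 ⟨_, _, _, rfl⟩⟩
  have hf : Function.Bijective f := by
    constructor
    · rintro ⟨t, u, v⟩ ⟨t', u', v'⟩ h
      have := uel_inj good_chevG2 K (congrArg Subtype.val h)
      simp only [ree6, C6.ext_iff] at this
      simp [this.2.1, this.2.2.2.2.1, this.2.2.2.2.2]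
    · rintro ⟨g, hg⟩
      obtain ⟨t, u, v, rfl⟩ := (mem_U1_iff hK).1 hg
      exact ⟨(t, u, v), rfl⟩
  rw [← Nat.card_eq_of_bijective f hf, Nat.card_eq_fintype_card, Fintype.card_prod, Fintype.card_prod, hK]
  ring

/-- The torus as an image of Kˣ. -/
def torHom : Kˣ →* (foldK K m).H1 where
  toFun s := ⟨tor m s, (mem_H1_iff hK).2 ⟨s, rfl⟩⟩
  map_one' := Subtype.ext tor_one
  map_mul' s t := Subtype.ext (tor_mul s t)

theorem torHom_bijective : Function.Bijective (torHom hK) := by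
  refine ⟨fun s t h => tor_injective (congrArg Subtype.val h), ?_⟩
  rintro ⟨g, hg⟩
  obtain ⟨s, rfl⟩ := (mem_H1_iff hK).1 hg
  exact ⟨s, rfl⟩

theorem card_H1 : Nat.card (foldK K m).H1 = 3 ^ (2 * m + 1) - 1 := by
  rw [← Nat.card_eq_of_bijective _ (torHom_bijective hK), Nat.card_units, Nat.card_eq_fintype_card, hK]

theorem isCyclic_H1 : IsCyclic (foldK K m).H1 :=
  isCyclic_of_surjective _ (torHom_bijective hK).2

theorem card_ree : Nat.card (twistedG2 K (3 ^ m)) =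
    (3 ^ (2 * m + 1)) ^ 3 * (3 ^ (2 * m + 1) - 1) * ((3 ^ (2 * m + 1)) ^ 3 + 1) := by
  obtain ⟨h₀, hh₀, hf, -⟩ := exists_m0 hK
  rw [twisted_eq hK]
  rcases (rankOneK (m := m)).card_fix hh₀ hf with h | h
  · rw [h, card_U1 hK, card_H1 hK]
    ring
  · exact absurd h (not_infinite_iff_finite.2 inferInstance)

theorem exists_U1_ne_one : ∃ x ∈ (foldK K m).U1, x ≠ 1 := by
  refine ⟨_, (mem_U1_iff hK).2 ⟨0, 0, 1, rfl⟩, fun h => ?_⟩
  simpa [ree6, zero6] using congrArg C6.h (uel_eq_one good_chevG2 K h)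

theorem borel_twisted :
    chevG2.borelSubgroup K ⊓ twistedG2 K (3 ^ m) = (rgdG2 K).B ⊓ (foldK K m).fix := by
  rw [twisted_eq hK, chev_B good_chevG2 rootsG2]

theorem monomial_twisted :
    chevG2.monomialSubgroup K ⊓ twistedG2 K (3 ^ m) = (rgdG2 K).N ⊓ (foldK K m).fix := by
  rw [twisted_eq hK, chev_N good_chevG2 rootsG2]

omit hK in
theorem m0_not_mem_B {h₀ : GL chevG2.Idx K} (hh₀ : h₀ ∈ (rgdG2 K).H) :
    h₀ * (rgdG2 K).nw w0G2 ∉ (rgdG2 K).B := by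
  intro h
  have h1 := mul_mem (inv_mem ((rgdG2 K).H_le_B hh₀)) h
  rw [inv_mul_cancel_left] at h1
  exact (rankOneK (K := K) (m := 0)).neg_pos _ ((rgdG2 K).pos_simple ⟨0, by decide⟩)
    (((rgdG2 K).mem_H_iff _).1 (((rgdG2 K).nw_mem_B_iff _).1 h1) _ ((rgdG2 K).pos_simple ⟨0, by decide⟩))

omit hK in
/-- The fixed monomial group is H ∪ H m₀. -/
theorem mem_N1_cases {h₀ g : GL chevG2.Idx K} (hh₀ : h₀ ∈ (rgdG2 K).H)
    (hf : h₀ * (rgdG2 K).nw w0G2 ∈ (foldK K m).fix) (hN : g ∈ (rgdG2 K).N) (hg : g ∈ (foldK K m).fix) :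
    g ∈ (foldK K m).H1 ∨ g * (h₀ * (rgdG2 K).nw w0G2)⁻¹ ∈ (foldK K m).H1 := by
  rcases (rankOneK (m := m)).form hg with ⟨u, hu, h, hh, e⟩ | ⟨u, hu, h, hh, hmf, c, hc, e⟩
  · left
    have : g ∈ (rgdG2 K).H := by
      rw [← (rgdG2 K).B_inf_N]
      exact Subgroup.mem_inf.2 ⟨e ▸ mul_mem ((rgdG2 K).Upos_le_B hu.1) ((rgdG2 K).H_le_B hh.1), hN⟩
    exact ⟨this, hg⟩
  · right
    refine ⟨?_, mul_mem hg (inv_mem hf)⟩
    obtain ⟨k, hk, l, hl⟩ := (rgdG2 K).mem_N_iff.1 hN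
    obtain ⟨j, hj, ej⟩ := exists_H_of_doubleCoset (R := rgdG2 K) (l := l) (l' := w0G2) (b := k) (b' := 1)
      (c := u * h) (c' := c) ((rgdG2 K).H_le_B hk) (one_mem _) (mul_mem ((rgdG2 K).Upos_le_B hu.1) ((rgdG2 K).H_le_B hh))
      ((rgdG2 K).Upos_le_B hc.1) (by rw [mul_one, ← hl, e]; group)
    rw [hl, ej, show k * (rgdG2 K).nw l * (h₀ * (j * (rgdG2 K).nw l))⁻¹ = k * j⁻¹ * h₀⁻¹ by group]
    exact mul_mem (mul_mem hk (inv_mem hj)) (inv_mem hh₀)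

end Cfsg.Agent.Twisted
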