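/-
Twisted groups, part 24: the graph automorphisms of B₂ and F₄ over a perfect field of characteristic 2.

For B₂ the centraliser of the ideal I is not trivial in the Lie algebra; faithfulness of the group
on I is proved with the Bruhat decomposition: an element acting trivially on I lies in B, so in
the core of B.
-/
import Cfsg.Agent.Lib.Twisted.Data
import Cfsg.Agent.Lib.Twisted.Fixed
import Cfsg.Agent.Lib.Chev.DataF4
import Cfsg.Agent.Lib.Chev.DataB2
import Cfsg.Agent.Lib.ChevBN.Facts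
import Cfsg.Agent.Lib.ChevBN.RootTables
import Cfsg.Prelude.Def_LieTwisted

set_option autoImplicit false
set_option maxRecDepth 100000

namespace Cfsg.Agent.Twisted

open Cfsg.Lie Matrix
open Cfsg.Lie.ChevalleyDatum
open Cfsg.Agent.Chev Cfsg.Agent.ChevBN

/-- The graph data of type B2 in characteristic 2. -/
def halfB2 : Half chevB2 where
  m := 5
  iS := ![.inl (0 : Fin 2), .inr (5 : Fin 8), .inr (6 : Fin 8), .inr (2 : Fin 8), .inr (1 : Fin 8)]
  iL := ![.inl (1 : Fin 2), .inr (4 : Fin 8), .inr (7 : Fin 8), .inr (3 : Fin 8), .inr (0 : Fin 8)]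
  rho r := #[1, 0, 3, 2, 5, 4, 7, 6].getD r r
  lam r := #[1, 2, 2, 1, 1, 2, 2, 1].getD r 1
  cert _ := []

set_option maxHeartbeats 4000000 in
theorem halfB2_pre : HalfPre halfB2 2 := by
  have h : Function.Injective (Sum.elim halfB2.iS halfB2.iL) ∧ halfB2.m + halfB2.m = chevB2.rank + chevB2.nroots ∧
      ∀ r < chevB2.nroots, rootOK halfB2 2 r := by
    refine ⟨?_, rfl, ?_⟩ <;> decide +kernel
  exact
  { inj := h.1
    card := h.2.1
    rho_lt := fun r hr => (h.2.2 r hr).1
    rho_rho := fun r hr => (h.2.2 r hr).2.1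
    lam_mul := fun r hr => (h.2.2 r hr).2.2.1
    blk := fun r hr b => ((h.2.2 r hr).2.2.2 b).1
    twist := fun r hr b => ((h.2.2 r hr).2.2.2 b).2 }

/-- Every negative root element has an entry below the diagonal on I. -/
theorem neg_entry : ∀ q < chevB2.nroots, ¬ 0 < ht chevB2 adjB2 q →
    ∃ a b : Fin halfB2.m, halfB2.iS a ≠ halfB2.iS b ∧
      ¬ wt chevB2 (ht chevB2 adjB2) (halfB2.iS b) < wt chevB2 (ht chevB2 adjB2) (halfB2.iS a) ∧
      xR chevB2 ℤ q 1 (halfB2.iS a) (halfB2.iS b) % 2 = 1 := by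
  decide +kernel

theorem tri_borel {F : Type*} [Field F] {g : GL chevB2.Idx F} (hg : g ∈ chevB2.borelSubgroup F) :
    Tri chevB2 (ht chevB2 adjB2) (g : Matrix chevB2.Idx chevB2.Idx F) := by
  rw [← chev_B DataB2.good rootsB2] at hg
  obtain ⟨u, hu, h, hh, rfl⟩ := (chevRGD DataB2.good rootsB2 F).exists_B hg
  rw [chev_Upos DataB2.good rootsB2] at hu
  obtain ⟨χ, hχ, -⟩ := isToral_of_mem DataB2.good hh
  rw [Units.val_mul, hχ]
  exact (uTri_pos DataB2.good rootsB2 hu).1.mul (tri_dg _ χ)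

theorem PhiS_B2_injective (K : Type*) [Field K] [CharP K 2] :
    Function.Injective (PhiS halfB2_pre DataB2.good K) := by
  classical
  set hD := DataB2.good
  set R := chevRGD hD rootsB2 K
  have hB : R.B ≤ chevB2.group K := (chev_B hD rootsB2).trans_le (borel_le_group hD rootsB2)
  have hker : (PhiS halfB2_pre hD K).ker ≤ (chevB2.borelSubgroup K).subgroupOf (chevB2.group K) := by
    intro g hg
    rw [Subgroup.mem_subgroupOf, ← chev_B hD rootsB2]
    obtain ⟨b, hb, l, b', hb', e⟩ := exists_bruhat (R := R) (g := (g : GL chevB2.Idx K))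
      (by rw [chev_G hD rootsB2]; exact g.2)
    have hn : ∀ r, R.pos r → R.pos (R.ww l r) := by
      intro r hr
      by_contra hneg
      obtain ⟨a, c, hne, hlt, hodd⟩ := neg_entry (R.ww l r).val (R.ww l r).isLt fun h => hneg (by
        by_contra hn'
        have h' := rootsB2.ht_pos _ (hD.neg_lt _ (R.ww l r).isLt) ((pos_or_neg hD (R.ww l r).isLt).2 hn')
        rw [(isLin_ht hD adjB2).neg _ (R.ww l r).isLt] at h'
        omega)
      -- x = the conjugate of a root element, acting on I as an element of B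
      have hy : (R.nw l)⁻¹ * xg hD K (R.ww l r).val 1 * R.nw l ∈ R.B := by
        refine R.Upos_le_B (R.U_le_Upos hr ?_)
        exact (RGD.RootData.mem_map_conj _).1 (R.map_conj_U l r ▸ xg_mem_rootSubgroup hD _ _)
      set y := (R.nw l)⁻¹ * xg hD K (R.ww l r).val 1 * R.nw l with hydef
      have hx : xg hD K (R.ww l r).val 1 = R.nw l * y * (R.nw l)⁻¹ := by rw [hydef]; group
      have hn2 : R.nw l = b⁻¹ * (g : GL chevB2.Idx K) * b'⁻¹ := by rw [e]; group
      set z : GL chevB2.Idx K := b⁻¹ * b'⁻¹ * y * b' * b with hz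
      have hzB : z ∈ R.B := mul_mem (mul_mem (mul_mem (mul_mem (inv_mem hb) (inv_mem hb')) hy) hb') hb
      have hs : PhiS halfB2_pre hD K (gxG hD K (R.ww l r).val 1) = PhiS halfB2_pre hD K ⟨z, hB hzB⟩ := by
        have he : gxG hD K (R.ww l r).val 1 =
            ((⟨b, hB hb⟩ : chevB2.group K))⁻¹ * g * (⟨b', hB hb'⟩ : chevB2.group K)⁻¹ * ⟨y, hB hy⟩ *
              (⟨b', hB hb'⟩ * g⁻¹ * ⟨b, hB hb⟩) := by
          refine Subtype.ext ?_
          show xg hD K (R.ww l r).val 1 = b⁻¹ * (g : GL chevB2.Idx K) * b'⁻¹ * y * (b' * (g : GL chevB2.Idx K)⁻¹ * b)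
          rw [hx, hn2]; group
        have hz' : (⟨z, hB hzB⟩ : chevB2.group K) =
            ((⟨b, hB hb⟩ : chevB2.group K))⁻¹ * (⟨b', hB hb'⟩ : chevB2.group K)⁻¹ * ⟨y, hB hy⟩ *
              ⟨b', hB hb'⟩ * ⟨b, hB hb⟩ := Subtype.ext rfl
        rw [he, hz']
        simp only [map_mul, map_inv, MonoidHom.mem_ker.1 hg, inv_one, one_mul, mul_assoc]
      have h1 : ((xR chevB2 ℤ (R.ww l r).val 1).map (Int.castRingHom K)) (halfB2.iS a) (halfB2.iS c) =
          (z : Matrix chevB2.Idx chevB2.Idx K) (halfB2.iS a) (halfB2.iS c) := by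
        have := congrArg (fun M : GL (Fin halfB2.m) K => (M : Matrix (Fin halfB2.m) (Fin halfB2.m) K) a c) hs
        simp only [PhiS_apply, gxG, coe_xg, x_eq_xR chevB2 (R.ww l r).isLt] at this
        rw [xR_map, map_one]
        exact this
      have h2 : (z : Matrix chevB2.Idx chevB2.Idx K) (halfB2.iS a) (halfB2.iS c) = 0 := by
        by_contra h
        rcases tri_borel (show z ∈ chevB2.borelSubgroup K by rw [← chev_B hD rootsB2]; exact hzB) _ _ h with h' | h'
        · exact hne h'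
        · exact hlt h'
      rw [h2, Matrix.map_apply, eq_intCast, CharP.intCast_eq_zero_iff K 2] at h1
      omega
    rw [e]
    exact mul_mem (mul_mem hb (R.H_le_B ((R.mem_H_iff l).2 hn))) hb'
  refine (injective_iff_map_eq_one _).2 fun g hg => ?_
  have h1 : g ∈ ((chevB2.borelSubgroup K).subgroupOf (chevB2.group K)).normalCore :=
    Subgroup.normal_le_normalCore.2 hker (MonoidHom.mem_ker.2 hg)
  rwa [normalCore_eq_bot hD rootsB2, Subgroup.mem_bot] at h1

theorem graphAutCharTwo {K : Type*} [Field K] [CharP K 2] (hperf : ∀ x : K, ∃ y : K, y ^ 2 = x)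
    (p : ChevalleyDatum × List (ℕ × ℕ))
    (hp : p ∈ [(chevB2, [(1, 2), (0, 1)]), (chevF4, [(3, 2), (2, 2), (1, 1), (0, 1)])]) :
    ∃ α : ↥(p.1.group K) ≃* ↥(p.1.group K), ∀ (g : ↥(p.1.group K)) (i : ℕ) (t : K), i < p.1.rank →
      (((g : GL p.1.Idx K) : Matrix p.1.Idx p.1.Idx K) = p.1.x K (p.1.simple i) t →
        ((α g : GL p.1.Idx K) : Matrix p.1.Idx p.1.Idx K) =
          p.1.x K (p.1.simple (p.2.getD i (0, 1)).1) (t ^ (p.2.getD i (0, 1)).2)) ∧
      (((g : GL p.1.Idx K) : Matrix p.1.Idx p.1.Idx K) = p.1.x K (p.1.neg (p.1.simple i)) t →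
        ((α g : GL p.1.Idx K) : Matrix p.1.Idx p.1.Idx K) =
          p.1.x K (p.1.neg (p.1.simple (p.2.getD i (0, 1)).1)) (t ^ (p.2.getD i (0, 1)).2)) := by
  haveI : Fact (Nat.Prime 2) := ⟨Nat.prime_two⟩
  have hs : Function.Surjective (frobenius K 2) := fun x => by
    obtain ⟨y, hy⟩ := hperf x
    exact ⟨y, hy⟩
  have main : ∀ (D : ChevalleyDatum) (hD : Good D) (H : Half D) (f : ↥(D.group K) →* ↥(D.group K)),
      Function.Bijective f →
      (∀ r < D.nroots, ∀ t : K, f (gxG hD K r t) = gxG hD K (H.rho r) (t ^ H.lam r)) →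
      ∀ (π : List (ℕ × ℕ)), (∀ i < D.rank, D.simple i < D.nroots ∧ D.neg (D.simple i) < D.nroots ∧
        H.rho (D.simple i) = D.simple (π.getD i (0, 1)).1 ∧ H.lam (D.simple i) = (π.getD i (0, 1)).2 ∧
        H.rho (D.neg (D.simple i)) = D.neg (D.simple (π.getD i (0, 1)).1) ∧
        H.lam (D.neg (D.simple i)) = (π.getD i (0, 1)).2) →
      ∃ α : ↥(D.group K) ≃* ↥(D.group K), ∀ (g : ↥(D.group K)) (i : ℕ) (t : K), i < D.rank →
        (((g : GL D.Idx K) : Matrix D.Idx D.Idx K) = D.x K (D.simple i) t →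
          ((α g : GL D.Idx K) : Matrix D.Idx D.Idx K) =
            D.x K (D.simple (π.getD i (0, 1)).1) (t ^ (π.getD i (0, 1)).2)) ∧
        (((g : GL D.Idx K) : Matrix D.Idx D.Idx K) = D.x K (D.neg (D.simple i)) t →
          ((α g : GL D.Idx K) : Matrix D.Idx D.Idx K) =
            D.x K (D.neg (D.simple (π.getD i (0, 1)).1)) (t ^ (π.getD i (0, 1)).2)) := by
    intro D hD H f hf hgx π hπ
    refine ⟨MulEquiv.ofBijective f hf, fun g i t hi => ?_⟩
    obtain ⟨l1, l2, e1, e2, e3, e4⟩ := hπ i hi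
    constructor
    · intro hg
      rw [show g = gxG hD K (D.simple i) t from Subtype.ext (Units.ext hg)]
      show ((f (gxG hD K (D.simple i) t) : GL D.Idx K) : Matrix D.Idx D.Idx K) = _
      rw [hgx _ l1, e1, e2]
      rfl
    · intro hg
      rw [show g = gxG hD K (D.neg (D.simple i)) t from Subtype.ext (Units.ext hg)]
      show ((f (gxG hD K (D.neg (D.simple i)) t) : GL D.Idx K) : Matrix D.Idx D.Idx K) = _
      rw [hgx _ l2, e3, e4]
      rfl
  simp only [List.mem_cons, List.not_mem_nil, or_false] at hp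
  rcases hp with rfl | rfl
  · exact main chevB2 DataB2.good halfB2 _
      ⟨graphEndPre_injective halfB2_pre DataB2.good K (PhiS_B2_injective K),
        graphEndPre_surjective halfB2_pre DataB2.good K (PhiS_B2_injective K) hs⟩
      (fun r hr t => graphEndPre_gx halfB2_pre DataB2.good K (PhiS_B2_injective K) hr t) _ (by decide +kernel)
  · exact main chevF4 DataF4.good halfF4 _
      ⟨graphEnd_injective halfF4_ok DataF4.good K, graphEnd_surjective halfF4_ok DataF4.good K hs⟩
      (fun r hr t => graphEnd_gx halfF4_ok DataF4.good K hr t) _ (by decide +kernel)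

end Cfsg.Agent.Twisted
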