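/-
Twisted groups, part 13: the graph automorphism of G₂ over a perfect field of characteristic 3.
-/
import Cfsg.Agent.Lib.Twisted.Half
import Cfsg.Agent.Lib.Twisted.Data
import Cfsg.Agent.Lib.Twisted.GoodG2
import Cfsg.Prelude.Def_LieTwisted

set_option autoImplicit false

namespace Cfsg.Agent.Twisted

open Cfsg.Lie Matrix
open Cfsg.Lie.ChevalleyDatum
open Cfsg.Agent.Chev Cfsg.Agent.ChevBN

theorem graphAutG2 {K : Type*} [Field K] [CharP K 3] (hperf : ∀ x : K, ∃ y : K, y ^ 3 = x) :
    ∃ α : ↥(chevG2.group K) ≃* ↥(chevG2.group K), ∀ (g : ↥(chevG2.group K)) (t : K),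
      (((g : GL chevG2.Idx K) : Matrix _ _ K) = chevG2.x K g2a t →
        ((α g : GL chevG2.Idx K) : Matrix _ _ K) = chevG2.x K g2b (t ^ 3)) ∧
      (((g : GL chevG2.Idx K) : Matrix _ _ K) = chevG2.x K g2b t →
        ((α g : GL chevG2.Idx K) : Matrix _ _ K) = chevG2.x K g2a t) ∧
      (((g : GL chevG2.Idx K) : Matrix _ _ K) = chevG2.x K g2ma t →
        ((α g : GL chevG2.Idx K) : Matrix _ _ K) = chevG2.x K g2mb (t ^ 3)) ∧
      (((g : GL chevG2.Idx K) : Matrix _ _ K) = chevG2.x K g2mb t →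
        ((α g : GL chevG2.Idx K) : Matrix _ _ K) = chevG2.x K g2ma t) := by
  haveI : Fact (Nat.Prime 3) := ⟨Nat.prime_three⟩
  have hs : Function.Surjective (frobenius K 3) := fun x => by
    obtain ⟨y, hy⟩ := hperf x
    exact ⟨y, hy⟩
  refine ⟨MulEquiv.ofBijective (graphEnd halfG2_ok good_chevG2 K)
    ⟨graphEnd_injective halfG2_ok good_chevG2 K, graphEnd_surjective halfG2_ok good_chevG2 K hs⟩, ?_⟩
  have key : ∀ (g : ↥(chevG2.group K)) (r s e : ℕ) (t : K), r < chevG2.nroots → halfG2.rho r = s →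
      halfG2.lam r = e → ((g : GL chevG2.Idx K) : Matrix _ _ K) = chevG2.x K r t →
      ((graphEnd halfG2_ok good_chevG2 K g : GL chevG2.Idx K) : Matrix _ _ K) = chevG2.x K s (t ^ e) := by
    rintro g r s e t hr rfl rfl hg
    rw [show g = gxG good_chevG2 K r t from Subtype.ext (Units.ext hg), graphEnd_gx halfG2_ok good_chevG2 K hr]
    rfl
  intro g t
  refine ⟨fun h => key g g2a g2b 3 t (by decide) (by decide) (by decide) h,
    fun h => (key g g2b g2a 1 t (by decide) (by decide) (by decide) h).trans (by rw [pow_one]),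
    fun h => key g g2ma g2mb 3 t (by decide) (by decide) (by decide) h,
    fun h => (key g g2mb g2ma 1 t (by decide) (by decide) (by decide) h).trans (by rw [pow_one])⟩

end Cfsg.Agent.Twisted
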