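/-
Twisted groups, part 14: torus action, trivial core, perfectness and simplicity of ²G₂(q).
-/
import Cfsg.Agent.Lib.Twisted.G2Facts
import Cfsg.Agent.Lib.BN.Simple

set_option autoImplicit false
set_option linter.unusedSectionVars false

namespace Cfsg.Agent.Twisted

open Cfsg.Lie Matrix
open Cfsg.Lie.ChevalleyDatum
open Cfsg.Agent.Chev Cfsg.Agent.ChevBN

variable {K : Type*} [Field K] [Fintype K] [CharP K 3] {m : ℕ}

/-- The fixed element with parameters t, u, v. -/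
noncomputable abbrev reeG (m : ℕ) (t u v : K) : GL chevG2.Idx K := uel good_chevG2 K (ree6 K (3 ^ m) t u v)

theorem chi2_lin (c₀ c₁ : Kˣ) {r a b i j : ℕ}
    (e0 : chevG2.cartan 0 r = i * chevG2.cartan 0 a + j * chevG2.cartan 0 b)
    (e1 : chevG2.cartan 1 r = i * chevG2.cartan 1 a + j * chevG2.cartan 1 b) :
    chi2 K c₀ c₁ r = chi2 K c₀ c₁ a ^ i * chi2 K c₀ c₁ b ^ j := by
  simp only [chi2, e0, e1, _root_.zpow_add, mul_pow, ← zpow_natCast, mul_zpow, ← _root_.zpow_mul,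
    mul_comm _ ((i : ℤ)), mul_comm _ ((j : ℤ))]
  exact mul_mul_mul_comm _ _ _ _

theorem tor_conj_aux (s : Kˣ) (t u v : K)
    (he1 : ((s : K) ^ (3 * 3 ^ m + 1)) ^ 3 ^ m = (s : K) ^ (3 ^ m + 1))
    (he2 : ((s : K) ^ (3 * 3 ^ m + 2)) ^ 3 ^ m = (s : K) ^ (2 * 3 ^ m + 1)) :
    tor m s * reeG m t u v * (tor m s)⁻¹ =
      reeG m ((s : K) * t) ((s : K) ^ (3 * 3 ^ m + 1) * u) (((s : K) ^ (3 * 3 ^ m + 2) * v)) := by
  set c₀ : Kˣ := s ^ (2 * 3 ^ m + 1)
  set c₁ : Kˣ := s ^ (3 * 3 ^ m + 2)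
  have hchi : ∀ r i j : ℕ, chevG2.cartan 0 r = i * chevG2.cartan 0 7 + j * chevG2.cartan 0 6 →
      chevG2.cartan 1 r = i * chevG2.cartan 1 7 + j * chevG2.cartan 1 6 →
      chi2 K c₀ c₁ r = (s ^ 3 ^ m) ^ i * s ^ j := by
    intro r i j e0 e1
    rw [chi2_lin c₀ c₁ e0 e1, chi_tor_a, chi_tor_b]
  set g := tor (K := K) m s
  have hconj : ∀ (r : ℕ) (x : K), g * xG K r x * g⁻¹ = xG K r ((chi2 K c₀ c₁ r : K) * x) := fun r x =>
    T2_conj c₀ c₁ x
  rw [reeG, reeG, uel, uel,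
    show g * (xG K 7 (ree6 K (3 ^ m) t u v).a * xG K 6 (ree6 K (3 ^ m) t u v).b *
        xG K 8 (ree6 K (3 ^ m) t u v).c * xG K 9 (ree6 K (3 ^ m) t u v).d *
        xG K 10 (ree6 K (3 ^ m) t u v).g * xG K 11 (ree6 K (3 ^ m) t u v).h) * g⁻¹ =
      (g * xG K 7 (ree6 K (3 ^ m) t u v).a * g⁻¹) * (g * xG K 6 (ree6 K (3 ^ m) t u v).b * g⁻¹) *
        (g * xG K 8 (ree6 K (3 ^ m) t u v).c * g⁻¹) * (g * xG K 9 (ree6 K (3 ^ m) t u v).d * g⁻¹) *
        (g * xG K 10 (ree6 K (3 ^ m) t u v).g * g⁻¹) * (g * xG K 11 (ree6 K (3 ^ m) t u v).h * g⁻¹) by group,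
    hconj, hconj, hconj, hconj, hconj, hconj, hchi 7 1 0 (by decide) (by decide),
    hchi 6 0 1 (by decide) (by decide), hchi 8 1 1 (by decide) (by decide), hchi 9 2 1 (by decide) (by decide),
    hchi 10 3 1 (by decide) (by decide), hchi 11 3 2 (by decide) (by decide)]
  simp only [ree6, Units.val_mul, Units.val_pow_eq_pow_val, pow_zero, pow_one, one_mul, mul_one]
  simp only [mul_pow, he1, he2]
  congr 6 <;> ring

theorem tor_conj (hK : Fintype.card K = 3 ^ (2 * m + 1)) (s : Kˣ) (t u v : K) :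
    tor m s * reeG m t u v * (tor m s)⁻¹ =
      reeG m ((s : K) * t) ((s : K) ^ (3 * 3 ^ m + 1) * u) (((s : K) ^ (3 * 3 ^ m + 2) * v)) := by
  refine tor_conj_aux s t u v ?_ ?_
  · have h := pow_three_e_e hK (s : K)
    rw [← pow_mul] at h ⊢
    rw [show (3 * 3 ^ m + 1) * 3 ^ m = 3 ^ m * (3 * 3 ^ m) + 3 ^ m by ring, pow_add, h, pow_succ']
  · have h := pow_three_e_e hK (s : K)
    rw [← pow_mul] at h ⊢
    rw [show (3 * 3 ^ m + 2) * 3 ^ m = 3 ^ m * (3 * 3 ^ m) + 2 * 3 ^ m by ring, pow_add, h, pow_succ']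

theorem ree_mem_U1 (hK : Fintype.card K = 3 ^ (2 * m + 1)) (t u v : K) : reeG m t u v ∈ (foldK K m).U1 :=
  (mem_U1_iff hK).2 ⟨t, u, v, rfl⟩

theorem ree_mul (hK : Fintype.card K = 3 ^ (2 * m + 1)) (t u v t' u' v' : K) :
    reeG m t u v * reeG m t' u' v' = reeG m (t + t') (u - (t' ^ 3 ^ m) ^ 3 * t + u')
      (v - (t' ^ 3 ^ m) ^ 3 * t ^ 2 - t' * (u - (t' ^ 3 ^ m) ^ 3 * t) + v') := by
  obtain ⟨a, b, c, e⟩ := (mem_U1_iff hK).1 (mul_mem (ree_mem_U1 hK t u v) (ree_mem_U1 hK t' u' v'))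
  have h := e
  rw [uel_mul] at h
  have h' := uel_inj good_chevG2 K h
  simp only [mul6, ree6, C6.ext_iff] at h'
  obtain ⟨-, rfl, -, -, rfl, rfl⟩ := h'
  exact e

theorem ree_mul_zero (hK : Fintype.card K = 3 ^ (2 * m + 1)) (t u v u' v' : K) :
    reeG m t u v * reeG m 0 u' v' = reeG m t (u + u') (v + v') := by
  rw [ree_mul hK, zero_pow (pow_ne_zero _ (by norm_num : (3 : ℕ) ≠ 0))]
  ring_nf

theorem ree_zero : reeG m (0 : K) 0 0 = 1 := by
  have e : (3 : ℕ) ^ m ≠ 0 := pow_ne_zero _ (by norm_num)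
  simp [reeG, ree6, uel, xg_zero, zero_pow e]

theorem ree_inj {t u v t' u' v' : K} (h : reeG m t u v = reeG m t' u' v') : t = t' ∧ u = u' ∧ v = v' := by
  have h' := uel_inj good_chevG2 K h
  simp only [ree6, C6.ext_iff] at h'
  exact ⟨h'.2.1, h'.2.2.2.2.1, h'.2.2.2.2.2⟩

variable (hK : Fintype.card K = 3 ^ (2 * m + 1))
include hK

theorem eq_one_of_commute_ree {h : GL chevG2.Idx K} (hh : h ∈ (foldK K m).H1)
    (hc : h * reeG m 1 0 0 * h⁻¹ = reeG m 1 0 0) : h = 1 := by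
  obtain ⟨s, rfl⟩ := (mem_H1_iff hK).1 hh
  rw [tor_conj hK] at hc
  obtain ⟨h1, -⟩ := ree_inj hc
  rw [mul_one] at h1
  rw [show s = 1 from Units.ext h1, tor_one]

theorem core_bot :
    ((chevG2.borelSubgroup K ⊓ twistedG2 K (3 ^ m)).subgroupOf (twistedG2 K (3 ^ m))).normalCore = ⊥ := by
  rw [borel_twisted hK, twisted_eq hK, Subgroup.inf_subgroupOf_right, eq_bot_iff]
  rintro ⟨g, hg⟩ hc
  obtain ⟨h₀, hh₀, hf, -⟩ := exists_m0 hK
  have hcB : ∀ b ∈ (foldK K m).fix, b * g * b⁻¹ ∈ (rgdG2 K).B := fun b hb => hc ⟨b, hb⟩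
  have hH : ∀ b ∈ (foldK K m).fix, b * g * b⁻¹ ∈ (foldK K m).H1 := fun b hb => by
    refine (rankOneK (m := m)).borel_inter hh₀ hf (mul_mem (mul_mem hb hg) (inv_mem hb)) (hcB b hb) ?_
    have := hcB ((h₀ * (rgdG2 K).nw w0G2)⁻¹ * b) (mul_mem (inv_mem hf) hb)
    rwa [show (h₀ * (rgdG2 K).nw w0G2)⁻¹ * b * g * ((h₀ * (rgdG2 K).nw w0G2)⁻¹ * b)⁻¹ =
      (h₀ * (rgdG2 K).nw w0G2)⁻¹ * (b * g * b⁻¹) * (h₀ * (rgdG2 K).nw w0G2) by group] at this
  have h1 : g ∈ (foldK K m).H1 := by simpa using hH 1 (one_mem _)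
  set u := reeG (K := K) m 1 0 0
  have hu := ree_mem_U1 hK (1 : K) 0 0
  have h2 := hH u hu.2
  have h3 : (u * g * u⁻¹) * g⁻¹ ∈ (rgdG2 K).Upos ⊓ (rgdG2 K).H := by
    refine Subgroup.mem_inf.2 ⟨?_, mul_mem h2.1 (inv_mem h1.1)⟩
    rw [show u * g * u⁻¹ * g⁻¹ = u * (g * u⁻¹ * g⁻¹) by group]
    exact mul_mem hu.1 ((rgdG2 K).H_conj_span _ h1.1 _ (inv_mem hu.1))
  rw [show (rgdG2 K).Upos ⊓ (rgdG2 K).H = ⊥ from (rgdG2 K).U_inf_H, Subgroup.mem_bot, mul_inv_eq_one,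
    mul_inv_eq_iff_eq_mul] at h3
  exact Subtype.ext (eq_one_of_commute_ree hK h1 (by show g * u * g⁻¹ = u; rw [← h3]; group))

theorem perfect (hm : 1 ≤ m) : twistedG2 K (3 ^ m) ≤ ⁅twistedG2 K (3 ^ m), twistedG2 K (3 ^ m)⁆ := by
  set T := twistedG2 K (3 ^ m)
  set D := ⁅T, T⁆
  obtain ⟨s, hs⟩ := IsCyclic.exists_generator (α := Kˣ)
  have hord : orderOf s = 3 ^ (2 * m + 1) - 1 := by
    rw [orderOf_eq_card_of_forall_mem_zpowers hs, Nat.card_units, Nat.card_eq_fintype_card, hK]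
  have hne : ∀ k, 0 < k → k ≤ 3 * 3 ^ m + 2 → (s : K) ^ k - 1 ≠ 0 := by
    intro k hk hk' e
    rw [sub_eq_zero] at e
    have e' : s ^ k = 1 := Units.ext (by simpa using e)
    refine pow_ne_one_of_lt_orderOf hk.ne' ?_ e'
    have h3 : 3 ≤ 3 ^ m := le_self_pow₀ (by norm_num) (by omega)
    have : 3 ^ (2 * m + 1) = 3 * (3 ^ m * 3 ^ m) := by ring
    rw [hord, this]
    nlinarith [Nat.sub_add_cancel (show 1 ≤ 3 * (3 ^ m * 3 ^ m) by nlinarith)]
  have hcomm : ∀ t u v : K, reeG m ((s : K) * t) ((s : K) ^ (3 * 3 ^ m + 1) * u)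
      ((s : K) ^ (3 * 3 ^ m + 2) * v) * (reeG m t u v)⁻¹ ∈ D := by
    intro t u v
    rw [← tor_conj hK]
    exact Subgroup.commutator_mem_commutator (H₁ := T) (H₂ := T) (H1_le_twisted hK ((mem_H1_iff hK).2 ⟨s, rfl⟩))
      (U1_le_twisted hK (ree_mem_U1 hK t u v))
  have hsub : ∀ t u v t' : K, ∃ u' v', reeG m t u v * (reeG m t' 0 0)⁻¹ = reeG m (t - t') u' v' := by
    intro t u v t'
    obtain ⟨a, b, c, e⟩ := (mem_U1_iff hK).1 (mul_mem (ree_mem_U1 hK t u v) (inv_mem (ree_mem_U1 hK t' 0 0)))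
    have h := congrArg (fun x => x * reeG m t' 0 0) e
    simp only [inv_mul_cancel_right] at h
    rw [ree_mul hK] at h
    obtain ⟨h1, -⟩ := ree_inj h
    exact ⟨b, c, by rw [e, show t - t' = a by rw [h1]; ring]⟩
  have h0 : ∀ v, reeG m (0 : K) 0 v ∈ D := by
    intro v
    have h := hcomm 0 0 (v / ((s : K) ^ (3 * 3 ^ m + 2) - 1))
    rw [mul_zero, mul_zero] at h
    have e : reeG m (0 : K) 0 ((s : K) ^ (3 * 3 ^ m + 2) * (v / ((s : K) ^ (3 * 3 ^ m + 2) - 1))) =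
        reeG m 0 0 v * reeG m 0 0 (v / ((s : K) ^ (3 * 3 ^ m + 2) - 1)) := by
      rw [ree_mul_zero hK, add_zero]
      congr 1
      have := hne _ (by omega) le_rfl
      field_simp
      ring
    rwa [e, mul_inv_cancel_right] at h
  have h1 : ∀ u v, reeG m (0 : K) u v ∈ D := by
    intro u v
    set w := u / ((s : K) ^ (3 * 3 ^ m + 1) - 1)
    have h := hcomm 0 w 0
    rw [mul_zero, mul_zero] at h
    have e : reeG m (0 : K) ((s : K) ^ (3 * 3 ^ m + 1) * w) 0 = reeG m 0 u 0 * reeG m 0 w 0 := by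
      rw [ree_mul_zero hK, add_zero]
      congr 1
      have := hne (3 * 3 ^ m + 1) (by omega) (by omega)
      simp only [w]
      field_simp
      ring
    rw [e, mul_inv_cancel_right] at h
    have h' := mul_mem h (h0 v)
    rwa [ree_mul_zero hK, add_zero, zero_add] at h'
  have h2 : ∀ t u v, reeG m (t : K) u v ∈ D := by
    intro t u v
    have hs1 := hne 1 one_pos (by omega)
    rw [pow_one] at hs1
    have h := hcomm (t / ((s : K) - 1)) 0 0
    rw [mul_zero, mul_zero] at h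
    obtain ⟨u', v', e⟩ := hsub ((s : K) * (t / ((s : K) - 1))) 0 0 (t / ((s : K) - 1))
    rw [e, show (s : K) * (t / ((s : K) - 1)) - t / ((s : K) - 1) = t by field_simp] at h
    have h' := mul_mem h (h1 (u - u') (v - v'))
    rwa [ree_mul_zero hK, add_sub_cancel, add_sub_cancel] at h'
  have hU : (foldK K m).U1 ≤ D := fun g hg => by
    obtain ⟨t, u, v, rfl⟩ := (mem_U1_iff hK).1 hg
    exact h2 t u v
  have hnuT : T.map (nu good_chevG2 K) ≤ T := by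
    rintro _ ⟨x, hx, rfl⟩
    show _ ∈ twistedG2 K (3 ^ m)
    rw [twisted_eq hK]
    exact nu_fix good_chevG2 K halfG2_ok foldG2 m rootsG2 nuG2 (twisted_le hK hx)
  have hnu : D.map (nu good_chevG2 K) ≤ D := by
    rw [Subgroup.map_commutator]
    exact Subgroup.commutator_mono hnuT hnuT
  refine (Subgroup.closure_le _).2 ?_
  rintro g ⟨w, ⟨t, u, v, rfl | rfl⟩, e⟩
  · obtain rfl : g = reeG m t u v := Units.ext (e.trans (coe_ree6 good_chevG2 t u v).symm)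
    exact h2 t u v
  · obtain rfl : g = nu good_chevG2 K (reeG m t u v) := Units.ext (by rw [e, nu_uel]; rfl)
    exact hnu ⟨_, h2 t u v, rfl⟩

theorem commutator_ree (hm : 1 ≤ m) : commutator ↥(twistedG2 K (3 ^ m)) = ⊤ := by
  refine eq_top_iff.2 fun x _ => ?_
  have h := perfect hK hm x.2
  have e : ⁅twistedG2 K (3 ^ m), twistedG2 K (3 ^ m)⁆ =
      (commutator ↥(twistedG2 K (3 ^ m))).map (twistedG2 K (3 ^ m)).subtype := by
    rw [_root_.commutator_def, Subgroup.map_commutator, ← MonoidHom.range_eq_map, Subgroup.range_subtype]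
  rw [e] at h
  obtain ⟨y, hy, hxy⟩ := h
  rwa [← show y = x from Subtype.ext hxy]

theorem isSolvable_B1 : Group.IsSolvable ↥((rgdG2 K).B.subgroupOf (foldK K m).fix) := by
  set R := rgdG2 K
  set F := (foldK K m).fix
  have hB : ∀ x : ↥(R.B.subgroupOf F), ((x : F) : GL chevG2.Idx K) ∈ R.B := fun x => x.2
  choose u hu h hh e using fun x : ↥(R.B.subgroupOf F) => R.exists_B (hB x)
  have huniq := fun (x : ↥(R.B.subgroupOf F)) (a b : GL chevG2.Idx K) (ha : a ∈ R.Upos) (hb : b ∈ R.H)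
    (hx : ((x : F) : GL chevG2.Idx K) = a * b) => (eq_of_mul_eq (hu x) ha (hh x) hb ((e x).symm.trans hx)).2
  let φ : ↥(R.B.subgroupOf F) →* chevG2.diagonalSubgroup K :=
    { toFun := fun x => ⟨h x, hh x⟩
      map_one' := Subtype.ext (huniq 1 1 1 (one_mem _) (one_mem _) (by simp))
      map_mul' := fun x y => Subtype.ext (huniq (x * y) (u x * (h x * u y * (h x)⁻¹)) (h x * h y)
        (mul_mem (hu x) (R.H_conj_span _ (hh x) _ (hu y))) (mul_mem (hh x) (hh y))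
        (by rw [Subgroup.coe_mul, Subgroup.coe_mul, e x, e y]; group)) }
  letI : CommGroup ↥(chevG2.diagonalSubgroup K) :=
    { (inferInstance : Group ↥(chevG2.diagonalSubgroup K)) with
      mul_comm := fun a b => Subtype.ext (diag_commute good_chevG2 a.2 b.2) }
  haveI : Group.IsSolvable ↥(foldK K m).U1 := by
    haveI : Fact (Nat.Prime 3) := ⟨Nat.prime_three⟩
    have hp : IsPGroup 3 ↥(foldK K m).U1 :=
      IsPGroup.of_card (n := (2 * m + 1) * 3) (by rw [card_U1 hK, ← pow_mul])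
    haveI := hp.isNilpotent
    exact inferInstance
  let ι : ↥(foldK K m).U1 →* ↥(R.B.subgroupOf F) :=
    { toFun := fun x => ⟨⟨x, x.2.2⟩, R.Upos_le_B x.2.1⟩
      map_one' := rfl
      map_mul' := fun _ _ => rfl }
  refine Group.isSolvable_of_ker_le_range ι φ fun x hx => ?_
  have h1 : h x = 1 := congrArg Subtype.val hx
  have hx' : ((x : F) : GL chevG2.Idx K) = u x := by rw [e x, h1, mul_one]
  exact ⟨⟨_, hx' ▸ hu x, (x : F).2⟩, rfl⟩

theorem simple_ree (hm : 1 ≤ m) :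
    IsSimpleGroup ↥(twistedG2 K (3 ^ m)) ∧ ¬ IsMulCommutative ↥(twistedG2 K (3 ^ m)) := by
  have hp := commutator_ree hK hm
  have hc := core_bot hK
  rw [borel_twisted hK, twisted_eq hK, Subgroup.inf_subgroupOf_right] at hc
  rw [twisted_eq hK] at hp ⊢
  obtain ⟨h₀, hh₀, hf, -⟩ := exists_m0 hK
  obtain ⟨x, hx, hx1⟩ := exists_U1_ne_one hK
  haveI : Nontrivial ↥(foldK K m).fix := ⟨⟨⟨x, hx.2⟩, 1, fun h => hx1 (congrArg Subtype.val h)⟩⟩
  refine ⟨BN.isSimpleGroup_of_irreducible ((rankOneK (m := m)).bnPair hh₀ hf ⟨x, hx, hx1⟩) ?_ (isSolvable_B1 hK) hp hc, ?_⟩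
  · intro J hJ hne hne'
    obtain ⟨a, ha⟩ := hne
    obtain ⟨b, hb, hbJ⟩ := hne'
    exact absurd (Set.mem_singleton_iff.1 hb ▸ Set.mem_singleton_iff.1 (hJ ha) ▸ ha) hbJ
  · intro hcomm
    have : commutator ↥(foldK K m).fix = ⊥ := by
      rw [_root_.commutator_def, Subgroup.commutator_eq_bot_iff_le_centralizer]
      intro a _
      rw [Subgroup.mem_centralizer_iff]
      intro b _
      exact hcomm.is_comm.comm b a
    rw [this] at hp
    exact bot_ne_top hp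

end Cfsg.Agent.Twisted
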