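/-
Twisted groups, part 15: elements of U¹, odd torus, points and Sylow 3-subgroups of ²G₂(q).
-/
import Cfsg.Agent.Lib.Twisted.G2Core

set_option autoImplicit false
set_option linter.unusedSectionVars false

open scoped Pointwise

namespace Cfsg.Agent.Twisted

open Cfsg.Lie Matrix
open Cfsg.Lie.ChevalleyDatum
open Cfsg.Agent.Chev Cfsg.Agent.ChevBN

variable {K : Type*} [Field K] [Fintype K] [CharP K 3] {m : ℕ}
variable (hK : Fintype.card K = 3 ^ (2 * m + 1))
include hK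

/-- A torus element commuting with a nontrivial element of U. -/
theorem commute_cases {s : Kˣ} {t u v : K} (hne : reeG m t u v ≠ 1)
    (h : tor m s * reeG m t u v * (tor m s)⁻¹ = reeG m t u v) :
    s = 1 ∨ (t = 0 ∧ v = 0 ∧ (s : K) * s = 1) := by
  rw [tor_conj hK] at h
  obtain ⟨ht, hu, hv⟩ := ree_inj h
  by_cases ht0 : t = 0
  swap
  · exact Or.inl (Units.ext (mul_right_cancel₀ ht0 (ht.trans (one_mul t).symm)))
  have he := pow_three_e_e hK (s : K)
  rw [← pow_mul] at he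
  by_cases hv0 : v = 0
  swap
  · left
    have e1 : (s : K) ^ (3 * 3 ^ m + 2) = 1 := mul_right_cancel₀ hv0 (hv.trans (one_mul v).symm)
    have e2 : (s : K) ^ (2 * 3 ^ m + 1) = 1 := by
      have := congrArg (fun x : K => x ^ 3 ^ m) e1
      simp only [one_pow, ← pow_mul] at this
      rwa [show (3 * 3 ^ m + 2) * 3 ^ m = 3 ^ m * (3 * 3 ^ m) + 2 * 3 ^ m by ring, pow_add, he, ← pow_succ'] at this
    refine Units.ext ?_
    calc (s : K) = (s : K) * ((s : K) ^ (2 * 3 ^ m + 1)) ^ 3 := by rw [e2, one_pow, mul_one]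
      _ = ((s : K) ^ (3 * 3 ^ m + 2)) ^ 2 := by rw [← pow_mul, ← pow_mul, ← pow_succ']; congr 1; ring
      _ = 1 := by rw [e1, one_pow]
  refine Or.inr ⟨ht0, hv0, ?_⟩
  have hu0 : u ≠ 0 := fun h0 => hne (by rw [ht0, hv0, h0, ree_zero])
  have e1 : (s : K) ^ (3 * 3 ^ m + 1) = 1 := mul_right_cancel₀ hu0 (hu.trans (one_mul u).symm)
  have e2 : (s : K) ^ (3 ^ m + 1) = 1 := by
    have := congrArg (fun x : K => x ^ 3 ^ m) e1
    simp only [one_pow, ← pow_mul] at this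
    rwa [show (3 * 3 ^ m + 1) * 3 ^ m = 3 ^ m * (3 * 3 ^ m) + 3 ^ m by ring, pow_add, he, ← pow_succ'] at this
  calc (s : K) * s = (s : K) * s * (s : K) ^ (3 * 3 ^ m + 1) := by rw [e1, mul_one]
    _ = ((s : K) ^ (3 ^ m + 1)) ^ 3 := by rw [← pow_two, ← pow_add, ← pow_mul]; congr 1; ring
    _ = 1 := by rw [e2, one_pow]

theorem odd_half : ∃ k, 3 ^ (2 * m + 1) - 1 = 2 * k ∧ Odd k := by
  have : 3 ^ (2 * m + 1) % 4 = 3 := by rw [pow_succ, pow_mul, Nat.mul_mod, Nat.pow_mod]; norm_num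
  refine ⟨(3 ^ (2 * m + 1) - 1) / 2, by omega, ?_⟩
  rw [Nat.odd_iff]
  omega

theorem odd_torus :
    2 * Nat.card {h : ↥(foldK K m).H1 // Odd (orderOf h)} = 3 ^ (2 * m + 1) - 1 ∧
      ∀ h ∈ (foldK K m).H1, h ≠ 1 → Odd (orderOf h) →
        (foldK K m).U1 ⊓ Subgroup.centralizer {h} = ⊥ := by
  constructor
  · obtain ⟨k, hk, hodd⟩ := odd_half hK
    have hcard : Nat.card Kˣ = 2 * k := by rw [Nat.card_units, Nat.card_eq_fintype_card, hK, hk]
    have e : Nat.card {h : ↥(foldK K m).H1 // Odd (orderOf h)} = Nat.card (powMonoidHom k : Kˣ →* Kˣ).ker := by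
      have hb := torHom_bijective hK
      refine Nat.card_congr (Equiv.symm (Equiv.subtypeEquiv (Equiv.ofBijective _ hb) fun s => ?_))
      show s ∈ (powMonoidHom k : Kˣ →* Kˣ).ker ↔ Odd (orderOf (torHom hK s))
      rw [orderOf_injective _ hb.1, MonoidHom.mem_ker, powMonoidHom_apply, ← orderOf_dvd_iff_pow_eq_one]
      refine ⟨fun h => hodd.of_dvd_nat h, fun h => ?_⟩
      exact (Nat.coprime_two_right.2 h).dvd_of_dvd_mul_left (hcard ▸ orderOf_dvd_natCard s)
    rw [e, IsCyclic.card_powMonoidHom_ker, hcard, Nat.gcd_eq_right (Dvd.intro_left 2 rfl), hk]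
  · intro h hh hne hodd
    obtain ⟨s, rfl⟩ := (mem_H1_iff hK).1 hh
    rw [eq_bot_iff]
    intro g hg
    obtain ⟨hgU, hgC⟩ := Subgroup.mem_inf.1 hg
    rw [Subgroup.mem_bot]
    by_contra hg1
    obtain ⟨t, u, v, rfl⟩ := (mem_U1_iff hK).1 hgU
    rw [Subgroup.mem_centralizer_singleton_iff] at hgC
    rcases commute_cases hK hg1 (by rw [mul_inv_eq_iff_eq_mul]; exact hgC.symm) with rfl | ⟨-, -, hs⟩
    · exact hne tor_one
    · have h2 : tor m s ^ 2 = 1 := by
        rw [sq, ← tor_mul, show s * s = 1 from Units.ext hs, tor_one]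
      have hdvd := orderOf_dvd_of_pow_eq_one h2
      rcases (Nat.dvd_prime Nat.prime_two).1 hdvd with h | h
      · exact hne (orderOf_eq_one_iff.1 h)
      · rw [h] at hodd
        exact absurd hodd (by decide)

theorem ree_cube (t u v : K) :
    reeG m t u v ^ 3 = reeG m 0 0 (-((t ^ 3 ^ m) ^ 3 * t ^ 2)) := by
  have h3 : (3 : K) = 0 := three_eq_zero K
  rw [pow_succ, pow_two, ree_mul hK, ree_mul hK]
  congr 2
  · linear_combination t * h3
  · linear_combination (u - (t ^ 3 ^ m) ^ 3 * t) * h3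
  · linear_combination (v - t * u) * h3

theorem card_order_three :
    Nat.card {u : ↥(foldK K m).U1 // orderOf u = 3} = (3 ^ (2 * m + 1)) ^ 2 - 1 := by
  classical
  haveI : Fact (Nat.Prime 3) := ⟨Nat.prime_three⟩
  have hiff : ∀ t u v : K, (⟨reeG m t u v, ree_mem_U1 hK t u v⟩ : (foldK K m).U1) ^ 3 = 1 ↔ t = 0 := by
    intro t u v
    rw [← Subtype.coe_inj, SubmonoidClass.coe_pow, OneMemClass.coe_one, ree_cube hK, ← ree_zero (K := K) (m := m)]
    constructor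
    · intro h
      have := (ree_inj h).2.2
      by_contra ht
      exact (neg_ne_zero.2 (mul_ne_zero (pow_ne_zero _ (pow_ne_zero _ ht)) (pow_ne_zero _ ht))) this
    · rintro rfl
      simp
  let f : {p : K × K // p ≠ (0, 0)} → {u : ↥(foldK K m).U1 // orderOf u = 3} := fun p =>
    ⟨⟨reeG m 0 p.1.1 p.1.2, ree_mem_U1 hK _ _ _⟩, orderOf_eq_prime ((hiff 0 _ _).2 rfl) fun h => p.2 (by
      have h' := congrArg Subtype.val h
      rw [OneMemClass.coe_one, ← ree_zero (K := K) (m := m)] at h'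
      exact Prod.ext (ree_inj h').2.1 (ree_inj h').2.2)⟩
  have hf : Function.Bijective f := by
    constructor
    · intro p q h
      obtain ⟨-, a, b⟩ := ree_inj (congrArg Subtype.val (congrArg Subtype.val h))
      exact Subtype.ext (Prod.ext a b)
    · rintro ⟨⟨g, hg⟩, ho⟩
      obtain ⟨t, u, v, rfl⟩ := (mem_U1_iff hK).1 hg
      have h3 := pow_orderOf_eq_one (⟨reeG m t u v, hg⟩ : (foldK K m).U1)
      rw [ho] at h3
      obtain rfl := (hiff t u v).1 h3
      refine ⟨⟨(u, v), fun h => ?_⟩, rfl⟩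
      obtain ⟨rfl, rfl⟩ := Prod.mk.inj h
      have h1 : (⟨reeG m (0 : K) 0 0, hg⟩ : (foldK K m).U1) = 1 := Subtype.ext ree_zero
      rw [h1, orderOf_one] at ho
      omega
  rw [← Nat.card_eq_of_bijective f hf, Nat.card_eq_fintype_card, Fintype.card_subtype_compl,
    Fintype.card_subtype_eq, Fintype.card_prod, hK]
  congr 1
  ring

/-- A point other than B is u m₀ B. -/
theorem point_form {h₀ : GL chevG2.Idx K} (hh₀ : h₀ ∈ (rgdG2 K).H)
    (hf : h₀ * (rgdG2 K).nw w0G2 ∈ (foldK K m).fix) (g : ↥(foldK K m).fix)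
    (hg : (g : GL chevG2.Idx K) ∉ (rgdG2 K).B) :
    ∃ u : ↥(foldK K m).fix, (u : GL chevG2.Idx K) ∈ (foldK K m).U1 ∧
      (QuotientGroup.mk g : ↥(foldK K m).fix ⧸ (rgdG2 K).B.subgroupOf (foldK K m).fix) =
        QuotientGroup.mk (u * ⟨_, hf⟩) := by
  rcases (rankOneK (m := m)).form' hh₀ hf g.2 with ⟨u, hu, h, hh, e⟩ | ⟨u, hu, h, hh, c, hc, e⟩
  · exact absurd (show (g : GL chevG2.Idx K) ∈ (rgdG2 K).B from
      e ▸ mul_mem ((rgdG2 K).Upos_le_B hu.1) ((rgdG2 K).H_le_B hh.1)) hg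
  · refine ⟨⟨u, hu.2⟩, hu, QuotientGroup.eq.2 ?_⟩
    rw [Subgroup.mem_subgroupOf]
    simp only [Subgroup.coe_mul, Subgroup.coe_inv]
    have hh' : (h₀ * (rgdG2 K).nw w0G2)⁻¹ * h * (h₀ * (rgdG2 K).nw w0G2) ∈ (rgdG2 K).H := by
      have := (rgdG2 K).conj_H_mem (inv_mem (mul_mem ((rgdG2 K).H_le_N hh₀) ((rgdG2 K).nw_mem_N w0G2))) hh.1
      rwa [inv_inv] at this
    rw [e, show (u * h * (h₀ * (rgdG2 K).nw w0G2) * c)⁻¹ * (u * (h₀ * (rgdG2 K).nw w0G2)) =
      c⁻¹ * ((h₀ * (rgdG2 K).nw w0G2)⁻¹ * h * (h₀ * (rgdG2 K).nw w0G2))⁻¹ by group]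
    exact mul_mem ((rgdG2 K).Upos_le_B (inv_mem hc.1)) ((rgdG2 K).H_le_B (inv_mem hh'))

theorem three_point :
    (∀ x y z : ↥(foldK K m).fix ⧸ (rgdG2 K).B.subgroupOf (foldK K m).fix, x ≠ y → x ≠ z → y ≠ z →
        Nat.card ↥(MulAction.stabilizer ↥(foldK K m).fix x ⊓ MulAction.stabilizer ↥(foldK K m).fix y ⊓
          MulAction.stabilizer ↥(foldK K m).fix z) ≤ 2) ∧
      ∃ x y z : ↥(foldK K m).fix ⧸ (rgdG2 K).B.subgroupOf (foldK K m).fix, x ≠ y ∧ x ≠ z ∧ y ≠ z ∧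
        Nat.card ↥(MulAction.stabilizer ↥(foldK K m).fix x ⊓ MulAction.stabilizer ↥(foldK K m).fix y ⊓
          MulAction.stabilizer ↥(foldK K m).fix z) = 2 := by
  classical
  obtain ⟨h₀, hh₀, hf, -⟩ := exists_m0 hK
  set n : ↥(foldK K m).fix := ⟨_, hf⟩
  set o : ↥(foldK K m).fix ⧸ ((rgdG2 K).B.subgroupOf (foldK K m).fix) := QuotientGroup.mk 1
  set p : ↥(foldK K m).fix ⧸ ((rgdG2 K).B.subgroupOf (foldK K m).fix) := QuotientGroup.mk n
  have hpo : p ≠ o := fun h => m0_not_mem_B (K := K) hh₀ (by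
    have := QuotientGroup.eq.1 h.symm
    simpa [n, Subgroup.mem_subgroupOf] using this)
  have hUB : ∀ u : ↥(foldK K m).fix, (u : GL chevG2.Idx K) ∈ (foldK K m).U1 → u • o = o := fun u hu =>
    QuotientGroup.eq.2 (by
      simpa [Subgroup.mem_subgroupOf] using (rgdG2 K).Upos_le_B (inv_mem hu.1))
  have hform : ∀ x : ↥(foldK K m).fix ⧸ ((rgdG2 K).B.subgroupOf (foldK K m).fix), x ≠ o → ∃ u : ↥(foldK K m).fix, (u : GL chevG2.Idx K) ∈ (foldK K m).U1 ∧ x = u • p := by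
    intro x hx
    induction x using QuotientGroup.induction_on with
    | H g =>
      refine point_form hK hh₀ hf g fun hg => hx (QuotientGroup.eq.2 ?_)
      simpa [Subgroup.mem_subgroupOf] using inv_mem hg
  have horb : ∀ x : ↥(foldK K m).fix ⧸ ((rgdG2 K).B.subgroupOf (foldK K m).fix), ∃ g : ↥(foldK K m).fix, g • x = o := fun x =>
    QuotientGroup.induction_on x fun g => ⟨g⁻¹, by
      show QuotientGroup.mk (g⁻¹ * g) = o; rw [inv_mul_cancel]⟩
  have hstab : ∀ (g : ↥(foldK K m).fix) (x : ↥(foldK K m).fix ⧸ ((rgdG2 K).B.subgroupOf (foldK K m).fix)), MulAction.stabilizer ↥(foldK K m).fix (g • x) =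
      (MulAction.stabilizer ↥(foldK K m).fix x).map (MulAut.conj g).toMonoidHom :=
    fun g x => MulAction.stabilizer_smul_eq_stabilizer_map_conj g x
  -- torus elements commuting with a nontrivial element
  have hmain : ∀ u : ↥(foldK K m).fix, (u : GL chevG2.Idx K) ∈ (foldK K m).U1 → (u : GL chevG2.Idx K) ≠ 1 →
      ∀ g : ↥(foldK K m).fix, g ∈ MulAction.stabilizer ↥(foldK K m).fix o ⊓ MulAction.stabilizer ↥(foldK K m).fix p ⊓ MulAction.stabilizer ↥(foldK K m).fix (u • p) →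
        ∃ s : Kˣ, (g : GL chevG2.Idx K) = tor m s ∧ s * s = 1 := by
    intro u hu hu1 g hg
    obtain ⟨hg12, hgz⟩ := Subgroup.mem_inf.1 hg
    obtain ⟨hgo, hgp⟩ := Subgroup.mem_inf.1 hg12
    rw [MulAction.mem_stabilizer_iff] at hgo hgp hgz
    have hgB : (g : GL chevG2.Idx K) ∈ (rgdG2 K).B := by
      have := QuotientGroup.eq.1 hgo
      simpa [Subgroup.mem_subgroupOf] using this
    have hnb : ∀ x : ↥(foldK K m).fix, x • p = p → (n : GL chevG2.Idx K)⁻¹ * x * n ∈ (rgdG2 K).B := fun x hx => by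
      have := inv_mem (QuotientGroup.eq.1 hx)
      simpa [Subgroup.mem_subgroupOf, mul_assoc] using this
    have hgH := (rankOneK (m := m)).borel_inter hh₀ hf g.2 hgB (hnb g hgp)
    obtain ⟨s, hs⟩ := (mem_H1_iff hK).1 hgH
    have hw : (u⁻¹ * g * u * g⁻¹) • p = p := by
      have e1 : g⁻¹ • p = p := by rw [inv_smul_eq_iff, hgp]
      rw [mul_smul, mul_smul, mul_smul, e1, hgz, inv_smul_smul]
    have hwU : ((u⁻¹ * g * u * g⁻¹ : ↥(foldK K m).fix) : GL chevG2.Idx K) ∈ (rgdG2 K).Upos := by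
      simp only [Subgroup.coe_mul, Subgroup.coe_inv]
      rw [show (u : GL chevG2.Idx K)⁻¹ * g * u * (g : GL chevG2.Idx K)⁻¹ =
        (u : GL chevG2.Idx K)⁻¹ * ((g : GL chevG2.Idx K) * u * (g : GL chevG2.Idx K)⁻¹) by group]
      exact mul_mem (inv_mem hu.1) ((rgdG2 K).H_conj_span _ hgH.1 _ hu.1)
    have hwH := (rankOneK (m := m)).borel_inter hh₀ hf (u⁻¹ * g * u * g⁻¹).2
      ((rgdG2 K).Upos_le_B hwU) (hnb _ hw)
    have hw1 : ((u⁻¹ * g * u * g⁻¹ : ↥(foldK K m).fix) : GL chevG2.Idx K) = 1 := by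
      rw [← Subgroup.mem_bot, ← (rgdG2 K).U_inf_H]
      exact Subgroup.mem_inf.2 ⟨hwU, hwH.1⟩
    simp only [Subgroup.coe_mul, Subgroup.coe_inv, hs] at hw1
    have hc : tor m s * (u : GL chevG2.Idx K) * (tor m s)⁻¹ = u := by
      calc tor m s * (u : GL chevG2.Idx K) * (tor m s)⁻¹ =
            (u : GL chevG2.Idx K) * ((u : GL chevG2.Idx K)⁻¹ * tor m s * u * (tor m s)⁻¹) := by group
        _ = u := by rw [hw1, mul_one]
    obtain ⟨t, a, b, e⟩ := (mem_U1_iff hK).1 hu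
    rw [e] at hc hu1
    rcases commute_cases hK hu1 hc with rfl | ⟨-, -, h⟩
    · exact ⟨1, hs, one_mul 1⟩
    · exact ⟨s, hs, Units.ext h⟩
  have hsq : Nat.card {s : Kˣ // s * s = 1} ≤ 2 := by
    rw [Nat.card_eq_fintype_card, Fintype.card_subtype]
    simpa only [sq] using IsCyclic.card_pow_eq_one_le (α := Kˣ) two_pos
  have hle : ∀ u : ↥(foldK K m).fix, (u : GL chevG2.Idx K) ∈ (foldK K m).U1 → (u : GL chevG2.Idx K) ≠ 1 →
      Nat.card ↥(MulAction.stabilizer ↥(foldK K m).fix o ⊓ MulAction.stabilizer ↥(foldK K m).fix p ⊓ MulAction.stabilizer ↥(foldK K m).fix (u • p)) ≤ 2 := by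
    intro u hu hu1
    choose f hf1 hf2 using hmain u hu hu1
    refine le_trans (Nat.card_le_card_of_injective (fun g => (⟨f g.1 g.2, hf2 g.1 g.2⟩ : {s : Kˣ // s * s = 1}))
      fun a b h => ?_) hsq
    exact Subtype.ext (Subtype.ext ((hf1 a.1 a.2).trans (by
      rw [show f a.1 a.2 = f b.1 b.2 from congrArg Subtype.val h]; exact (hf1 b.1 b.2).symm)))
  refine ⟨fun x y z hxy hxz hyz => ?_, ?_⟩
  · obtain ⟨g₁, hg₁⟩ := horb x
    obtain ⟨u₁, hu₁, hy⟩ := hform (g₁ • y) (fun h => hxy (MulAction.injective g₁ (hg₁.trans h.symm)))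
    set g := u₁⁻¹ * g₁ with hg
    have hxo : g • x = o := by rw [hg, mul_smul, hg₁]; exact hUB _ (inv_mem hu₁)
    have hyp : g • y = p := by rw [hg, mul_smul, hy, inv_smul_smul]
    obtain ⟨u, hu, hz⟩ := hform (g • z) (fun h => hxz (MulAction.injective g (hxo.trans h.symm)))
    have hu1 : (u : GL chevG2.Idx K) ≠ 1 := fun h => hyz (MulAction.injective g (by
      show g • y = g • z
      rw [hyp, hz, show u = 1 from Subtype.ext h, one_smul]))
    have hcard := hle u hu hu1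
    rw [← hz, ← hxo, ← hyp, hstab, hstab, hstab, ← Subgroup.map_inf _ _ _ (MulAut.conj g).injective,
      ← Subgroup.map_inf _ _ _ (MulAut.conj g).injective, Subgroup.card_map_of_injective (MulAut.conj g).injective]
      at hcard
    exact hcard
  · set u : ↥(foldK K m).fix := ⟨reeG m (0 : K) 1 0, (ree_mem_U1 hK 0 1 0).2⟩
    have hu : (u : GL chevG2.Idx K) ∈ (foldK K m).U1 := ree_mem_U1 hK 0 1 0
    have hu1 : (u : GL chevG2.Idx K) ≠ 1 := fun h => one_ne_zero (ree_inj (h.trans ree_zero.symm)).2.1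
    have hop : o ≠ u • p := fun h => hpo (by
      have := congrArg (u⁻¹ • ·) h
      simp only [inv_smul_smul, hUB u⁻¹ (inv_mem hu)] at this
      exact this.symm)
    have hpu : p ≠ u • p := by
      intro h
      have h1 : (n : GL chevG2.Idx K)⁻¹ * u * n ∈ (rgdG2 K).B := by
        have := QuotientGroup.eq.1 h
        simpa [Subgroup.mem_subgroupOf, mul_assoc] using this
      have h2 := (rankOneK (m := m)).borel_inter hh₀ hf u.2 ((rgdG2 K).Upos_le_B hu.1) h1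
      exact hu1 (by rw [← Subgroup.mem_bot, ← (rgdG2 K).U_inf_H]; exact Subgroup.mem_inf.2 ⟨hu.1, h2.1⟩)
    refine ⟨o, p, u • p, hpo.symm, hop, hpu, le_antisymm (hle u hu hu1) ?_⟩
    set S := MulAction.stabilizer ↥(foldK K m).fix o ⊓ MulAction.stabilizer ↥(foldK K m).fix p ⊓ MulAction.stabilizer ↥(foldK K m).fix (u • p)
    have hH : tor m (-1 : Kˣ) ∈ (foldK K m).H1 := (mem_H1_iff hK).2 ⟨-1, rfl⟩
    set a : ↥(foldK K m).fix := ⟨tor m (-1 : Kˣ), hH.2⟩
    have hao : a • o = o := QuotientGroup.eq.2 (by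
      simpa [a, Subgroup.mem_subgroupOf] using (rgdG2 K).H_le_B (inv_mem hH.1))
    have hap : a • p = p := QuotientGroup.eq.2 (by
      have := (rgdG2 K).H_le_B ((rgdG2 K).conj_H_mem
        (inv_mem (mul_mem ((rgdG2 K).H_le_N hh₀) ((rgdG2 K).nw_mem_N w0G2))) (inv_mem hH.1))
      rw [inv_inv] at this
      simpa [a, n, Subgroup.mem_subgroupOf, mul_assoc] using this)
    have hau : a * u = u * a := by
      refine Subtype.ext ?_
      show tor m (-1 : Kˣ) * reeG m 0 1 0 = reeG m 0 1 0 * tor m (-1)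
      rw [← mul_inv_eq_iff_eq_mul, tor_conj hK, mul_zero, mul_zero, Units.val_neg, Units.val_one,
        Even.neg_one_pow (by simp [Nat.even_add_one, parity_simps]), one_mul]
    have haS : a ∈ S := by
      simp only [S, Subgroup.mem_inf, MulAction.mem_stabilizer_iff]
      exact ⟨⟨hao, hap⟩, by rw [← mul_smul, hau, mul_smul, hap]⟩
    have hne : (⟨a, haS⟩ : S) ≠ 1 := fun h => by
      have h1 := congrArg (fun x : S => ((x : ↥(foldK K m).fix) : GL chevG2.Idx K)) h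
      simp only [OneMemClass.coe_one, a, ← tor_one (K := K) (m := m)] at h1
      have := congrArg (fun x : Kˣ => (x : K)) (tor_injective h1)
      simp only [Units.val_neg, Units.val_one] at this
      exact one_ne_zero (α := K) (by linear_combination this + three_eq_zero K)
    haveI : Nontrivial S := ⟨⟨_, _, hne⟩⟩
    exact Finite.one_lt_card

theorem sylow_ti (P Q : Sylow 3 ↥(foldK K m).fix) (hPQ : P ≠ Q) :
    (P : Subgroup ↥(foldK K m).fix) ⊓ (Q : Subgroup ↥(foldK K m).fix) = ⊥ := by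
  haveI : Fact (Nat.Prime 3) := ⟨Nat.prime_three⟩
  obtain ⟨h₀, hh₀, hf, -⟩ := exists_m0 hK
  set W := (foldK K m).U1.subgroupOf (foldK K m).fix
  have hW : Nat.card W = 3 ^ (Nat.card ↥(foldK K m).fix).factorization 3 := by
    have h1 : Nat.card W = (3 ^ (2 * m + 1)) ^ 3 := by
      rw [Nat.card_congr (Subgroup.subgroupOfEquivOfLe (show (foldK K m).U1 ≤ (foldK K m).fix from fun _ hx => hx.2)).toEquiv, card_U1 hK]
    have h2 : Nat.card ↥(foldK K m).fix = (3 ^ (2 * m + 1)) ^ 3 * (3 ^ (2 * m + 1) - 1) * ((3 ^ (2 * m + 1)) ^ 3 + 1) := by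
      show Nat.card ↥(foldK K m).fix = _
      rw [← twisted_eq hK, card_ree hK]
    rw [h1, h2, ← pow_mul]
    congr 1
    have hq : 3 ≤ 3 ^ (2 * m + 1) := le_self_pow₀ (by norm_num) (by omega)
    have d1 : ¬ 3 ∣ 3 ^ (2 * m + 1) - 1 := by
      intro h
      have h' : 3 ∣ 3 ^ (2 * m + 1) := dvd_pow_self 3 (by omega)
      omega
    have d2 : ¬ 3 ∣ 3 ^ ((2 * m + 1) * 3) + 1 := by
      intro h
      have h' : 3 ∣ 3 ^ ((2 * m + 1) * 3) := dvd_pow_self 3 (by omega)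
      omega
    rw [Nat.factorization_mul (mul_ne_zero (pow_ne_zero _ (by norm_num)) (by omega)) (Nat.succ_ne_zero _),
      Nat.factorization_mul (pow_ne_zero _ (by norm_num)) (by omega), Finsupp.add_apply, Finsupp.add_apply,
      Nat.factorization_pow, Finsupp.smul_apply, Nat.Prime.factorization_self Nat.prime_three,
      Nat.factorization_eq_zero_of_not_dvd d1, Nat.factorization_eq_zero_of_not_dvd d2]
    simp
  set S₀ := Sylow.ofCard W hW
  obtain ⟨g, rfl⟩ := MulAction.exists_smul_eq ↥(foldK K m).fix S₀ P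
  obtain ⟨g', rfl⟩ := MulAction.exists_smul_eq ↥(foldK K m).fix S₀ Q
  have hmem : ∀ (a x : ↥(foldK K m).fix), x ∈ ((a • S₀ : Sylow 3 ↥(foldK K m).fix) : Subgroup ↥(foldK K m).fix) ↔ a⁻¹ * x * a ∈ W := fun a x => by
    rw [Sylow.coe_subgroup_smul, Subgroup.mem_pointwise_smul_iff_inv_smul_mem, ← MulAut.conj.map_inv,
      MulAut.smul_def, MulAut.conj_apply, inv_inv]
    rfl
  set x := g⁻¹ * g' with hx
  rcases (rankOneK (m := m)).form' hh₀ hf x.2 with ⟨u, hu, h, hh, e⟩ | ⟨u, hu, h, hh, c, hc, e⟩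
  · exfalso
    refine hPQ (Sylow.ext (Subgroup.ext fun y => ?_))
    rw [hmem, hmem]
    have hx1 : ∀ w : ↥(foldK K m).fix, w ∈ W → x * w * x⁻¹ ∈ W ∧ x⁻¹ * w * x ∈ W := by
      intro w hw
      rw [Subgroup.mem_subgroupOf] at hw
      have hn : ∀ {z : GL chevG2.Idx K}, z ∈ (foldK K m).U1 → h * z * h⁻¹ ∈ (foldK K m).U1 ∧
          h⁻¹ * z * h ∈ (foldK K m).U1 := fun hz =>
        ⟨⟨(rgdG2 K).H_conj_span _ hh.1 _ hz.1, mul_mem (mul_mem hh.2 hz.2) (inv_mem hh.2)⟩,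
          ⟨by have := (rgdG2 K).H_conj_span {r | (rgdG2 K).pos r} (inv_mem hh.1) _ hz.1; rw [inv_inv] at this; exact this,
            mul_mem (mul_mem (inv_mem hh.2) hz.2) hh.2⟩⟩
      constructor <;> simp only [W, Subgroup.mem_subgroupOf, Subgroup.coe_mul, Subgroup.coe_inv, e]
      · rw [show u * h * (w : GL chevG2.Idx K) * (u * h)⁻¹ = u * (h * w * h⁻¹) * u⁻¹ by group]
        exact mul_mem (mul_mem hu (hn hw).1) (inv_mem hu)
      · rw [show (u * h)⁻¹ * (w : GL chevG2.Idx K) * (u * h) = h⁻¹ * (u⁻¹ * w * u) * h by group]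
        exact (hn (mul_mem (mul_mem (inv_mem hu) hw) hu)).2
    constructor
    · intro hy
      have := (hx1 _ hy).2
      rwa [show x⁻¹ * (g⁻¹ * y * g) * x = g'⁻¹ * y * g' by rw [hx]; group] at this
    · intro hy
      have := (hx1 _ hy).1
      rwa [show x * (g'⁻¹ * y * g') * x⁻¹ = g⁻¹ * y * g by rw [hx]; group] at this
  · rw [eq_bot_iff]
    intro y hy
    obtain ⟨h1, h2⟩ := Subgroup.mem_inf.1 hy
    rw [hmem] at h1 h2
    set w := g⁻¹ * y * g with hw
    have h3 : x⁻¹ * w * x ∈ W := by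
      rwa [show x⁻¹ * w * x = g'⁻¹ * y * g' by rw [hx, hw]; group]
    simp only [W, Subgroup.mem_subgroupOf, Subgroup.coe_mul, Subgroup.coe_inv, e] at h1 h3
    set z := (u * h)⁻¹ * (w : GL chevG2.Idx K) * (u * h) with hz
    have hzU : z ∈ (foldK K m).U1 := by
      rw [hz, show (u * h)⁻¹ * (w : GL chevG2.Idx K) * (u * h) = h⁻¹ * (u⁻¹ * w * u) * h by group]
      exact ⟨by
          have := (rgdG2 K).H_conj_span {r | (rgdG2 K).pos r} (inv_mem hh.1) _ (mul_mem (mul_mem (inv_mem hu.1) h1.1) hu.1)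
          rw [inv_inv] at this; exact this,
        mul_mem (mul_mem (inv_mem hh.2) (mul_mem (mul_mem (inv_mem hu.2) h1.2) hu.2)) hh.2⟩
    have hzn : (h₀ * (rgdG2 K).nw w0G2)⁻¹ * z * (h₀ * (rgdG2 K).nw w0G2) ∈ (rgdG2 K).B := by
      have := mul_mem (mul_mem ((rgdG2 K).Upos_le_B hc.1) ((rgdG2 K).Upos_le_B h3.1))
        ((rgdG2 K).Upos_le_B (inv_mem hc.1))
      convert this using 1
      rw [hz]; group
    have hzH := (rankOneK (m := m)).borel_inter hh₀ hf hzU.2 ((rgdG2 K).Upos_le_B hzU.1) hzn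
    have hz1 : z = 1 := by
      rw [← Subgroup.mem_bot, ← (rgdG2 K).U_inf_H]
      exact Subgroup.mem_inf.2 ⟨hzU.1, hzH.1⟩
    have hw1 : (w : GL chevG2.Idx K) = 1 := by
      calc (w : GL chevG2.Idx K) = u * h * z * (u * h)⁻¹ := by rw [hz]; group
        _ = 1 := by rw [hz1]; group
    rw [Subgroup.mem_bot]
    calc y = g * w * g⁻¹ := by rw [hw]; group
      _ = 1 := by rw [show w = 1 from Subtype.ext hw1]; group

end Cfsg.Agent.Twisted
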