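/-
Twisted groups, part 9: certified evaluation of a product of root elements on a vector, modulo p.

* `Chk`, `chk_spec`: a list of intermediate vectors certifies W *ᵥ v = w for a word W.
-/
import Cfsg.Agent.Lib.Twisted.Half

set_option autoImplicit false

namespace Cfsg.Agent.Twisted

open Cfsg.Lie Matrix
open Cfsg.Lie.ChevalleyDatum
open Cfsg.Agent.Chev

variable (D : ChevalleyDatum)

/-- The value of a sparse vector. -/
def vecOf (R : Type*) [CommRing R] (S : List (D.Idx × ℤ)) : D.Idx → R :=
  (S.map fun x => (x.2 : R) • bv D R (key D x.1)).sum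

/-- The terms of x_r(c) applied to a sparse vector, minus another one. -/
def stepTerms (r : ℕ) (c : ℤ) (S T : List (D.Idx × ℤ)) : List (Key D × ℤ) :=
  (S.flatMap fun x => (colT D r x.1).map fun y => (y.1.1, x.2 * y.2 * c ^ y.1.2)) ++
    T.map fun x => (key D x.1, -x.2)

/-- `Ss` certifies that the word maps the first vector to the last: the last letter is applied first. -/
def Chk (p : ℕ) : List (ℕ × ℤ) → List (List (D.Idx × ℤ)) → List (D.Idx × ℤ) → List (D.Idx × ℤ) → Prop
  | [], [], S, T => S = T
  | g :: w, U :: Us, S, T => g.1 < D.nroots ∧ ZeroMod p (stepTerms D g.1 g.2 U T) ∧ Chk p w Us S U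
  | _, _, _, _ => False

instance chkDecidable (p : ℕ) : ∀ (w : List (ℕ × ℤ)) (Us : List (List (D.Idx × ℤ))) (S T : List (D.Idx × ℤ)),
    Decidable (Chk D p w Us S T)
  | [], [], S, T => inferInstanceAs (Decidable (S = T))
  | g :: w, U :: Us, S, T => by
    haveI := chkDecidable p w Us S U
    exact inferInstanceAs (Decidable (g.1 < D.nroots ∧ ZeroMod p (stepTerms D g.1 g.2 U T) ∧ Chk D p w Us S U))
  | [], _ :: _, _, _ => .isFalse id
  | _ :: _, [], _, _ => .isFalse id

variable {D}

theorem stepTerms_spec (hD : Good D) {R : Type*} [CommRing R] {p : ℕ} [CharP R p] {r : ℕ} (hr : r < D.nroots)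
    (c : ℤ) {S T : List (D.Idx × ℤ)} (h : ZeroMod p (stepTerms D r c S T)) :
    xR D R r (c : R) *ᵥ vecOf D R S = vecOf D R T := by
  ext a
  have h0 := sum_eq_zero_of_zeroMod (R := R) (fun k => bv D R k a) _ h
  rw [stepTerms, List.map_append, List.sum_append, List.map_map, List.map_flatMap] at h0
  have hT : (T.map ((fun x : Key D × ℤ => (x.2 : R) * bv D R x.1 a) ∘ fun x => (key D x.1, -x.2))).sum =
      -vecOf D R T a := by
    clear h0 h
    induction T with
    | nil => simp [vecOf]
    | cons x T ih => simp [vecOf] at ih ⊢; rw [ih]; ring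
  have hS : ∀ (S : List (D.Idx × ℤ)), ((S.flatMap fun x => ((colT D r x.1).map fun y =>
      (y.1.1, x.2 * y.2 * c ^ y.1.2)).map fun x : Key D × ℤ => (x.2 : R) * bv D R x.1 a)).sum =
      (xR D R r (c : R) *ᵥ vecOf D R S) a := by
    intro S
    induction S with
    | nil => simp [vecOf]
    | cons x S ih =>
      rw [List.flatMap_cons, List.sum_append, ih]
      have hx : bv D R (key D x.1) = Pi.single x.1 1 := by
        ext b
        simp [bv, Pi.single_apply, (key_injective D).eq_iff]
      have hcol := congrFun (colT_spec hD hr (c : R) x.1) a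
      simp only [vecOf, List.map_cons, List.sum_cons, Matrix.mulVec_add, Pi.add_apply, Matrix.mulVec_smul, hx,
        Pi.smul_apply, hcol]
      congr 1
      generalize colT D r x.1 = L
      induction L with
      | nil => simp
      | cons y L ihL =>
        simp only [List.map_cons, List.sum_cons, ihL, Pi.add_apply, Pi.smul_apply, smul_eq_mul, mul_add]
        push_cast
        ring
  rw [hS, hT] at h0
  exact eq_of_sub_eq_zero (by rw [sub_eq_add_neg]; exact h0)

theorem chk_spec (hD : Good D) {F : Type*} [Field F] {p : ℕ} [CharP F p] :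
    ∀ {w : List (ℕ × ℤ)} {Us : List (List (D.Idx × ℤ))} {S T : List (D.Idx × ℤ)}, Chk D p w Us S T →
      D.wordMat F (w.map fun g => (g.1, (g.2 : F))) *ᵥ vecOf D F S = vecOf D F T
  | [], [], S, T, h => by simp [ChevalleyDatum.wordMat, show S = T from h]
  | g :: w, U :: Us, S, T, h => by
    obtain ⟨hg, hz, hrest⟩ := h
    have e : D.wordMat F ((g :: w).map fun g => (g.1, (g.2 : F))) =
        D.x F g.1 (g.2 : F) * D.wordMat F (w.map fun g => (g.1, (g.2 : F))) := by
      simp [ChevalleyDatum.wordMat]
    rw [e, ← Matrix.mulVec_mulVec, chk_spec hD hrest, x_eq_xR D hg]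
    exact stepTerms_spec hD hg g.2 hz
  | [], _ :: _, _, _, h => h.elim
  | _ :: _, [], _, _, h => h.elim

end Cfsg.Agent.Twisted
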