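/-
Twisted groups, part 22: characters of the fixed torus of ²F₄.

* `cH`, `cH_eq` : the character of `tH x` at a root;
* `classInduction` : induction over the 16 classes;
* `cH_conj`, `conj0`, `inverts` : conjugation by the Weyl group;
* `hk`, `hk_comm`, `hk_fix` : centralisers of root groups in the torus act fixed point freely on the others.
-/
import Cfsg.Agent.Lib.Twisted.F4Facts

set_option autoImplicit false
set_option maxRecDepth 10000
set_option linter.unusedSectionVars false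

namespace Cfsg.Agent.Twisted.F4

open Cfsg.Lie Cfsg.Lie.ChevalleyDatum Cfsg.Agent.Chev Cfsg.Agent.ChevBN

theorem wwN_app (a b : List (Fin chevF4.rank)) (r : ℕ) :
    wwN chevF4 (a ++ b) r = wwN chevF4 a (wwN chevF4 b r) := List.foldr_append ..

variable {K : Type*} [Field K] {m : ℕ}

/-- The character of the torus element at a root. -/
def cH (m : ℕ) (x : Kˣ × Kˣ) (r : ℕ) : Kˣ :=
  ChevOrder.chi (D := chevF4) ![x.1 ^ 2 ^ m, x.2 ^ 2 ^ m, x.2, x.1] r

theorem cH_eq (x : Kˣ × Kˣ) (r : ℕ) : cH m x r =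
    x.1 ^ (chevF4.cartan 0 r * 2 ^ m + chevF4.cartan 3 r) *
      x.2 ^ (chevF4.cartan 1 r * 2 ^ m + chevF4.cartan 2 r) := by
  show ∏ i : Fin 4, (![x.1 ^ 2 ^ m, x.2 ^ 2 ^ m, x.2, x.1] i) ^ chevF4.cartan i.val r = _
  simp only [Fin.prod_univ_four]
  simp [← zpow_natCast x.1, ← zpow_natCast x.2, ← zpow_mul, zpow_add, mul_comm ((2 : ℤ) ^ m)]
  simp only [mul_assoc, mul_left_comm, mul_comm]

theorem xF_zero' (r : ℕ) : xF K r 0 = 1 := Units.ext (by simp [coe_xg, DataF4.good.x_zero])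

variable [CharP K 2] [Fintype K] (hK : Fintype.card K = 2 ^ (2 * m + 1))
include hK

theorem tH_conj_xF (x : Kˣ × Kˣ) {r : ℕ} (hr : r < chevF4.nroots) (u : K) :
    tH m x * xF K r u * (tH m x)⁻¹ = xF K r ((cH m x r : K) * u) :=
  tF_conj hK _ hr u

theorem cH_conj (i : Fin 2) {x y : Kˣ × Kˣ}
    (h : (RF K).nw (W i) * tH m x * ((RF K).nw (W i))⁻¹ = tH m y) {r : ℕ} (hr : r < chevF4.nroots) :
    cH m y (wwN chevF4 (W i) r) = cH m x r := by
  set n := (RF K).nw (W i) with hn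
  have hw : ∀ u : K, n * xF K r u * n⁻¹ = xF K (wwN chevF4 (W i) r) u := fun u =>
    nw_conj_xg DataF4.good rootsF4 (W i) hr u
  have e : xF K (wwN chevF4 (W i) r) (cH m y (wwN chevF4 (W i) r) : K) =
      xF K (wwN chevF4 (W i) r) (cH m x r : K) := by
    calc xF K (wwN chevF4 (W i) r) (cH m y (wwN chevF4 (W i) r) : K)
        = tH m y * xF K (wwN chevF4 (W i) r) 1 * (tH m y)⁻¹ := by
          rw [tH_conj_xF hK _ (wwN_lt DataF4.good _ hr), mul_one]
      _ = n * (tH m x * xF K r 1 * (tH m x)⁻¹) * n⁻¹ := by rw [← h, ← hw]; group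
      _ = _ := by rw [tH_conj_xF hK _ hr, mul_one, hw]
  exact Units.ext (pair_unique.xg_inj' e (wwN_lt DataF4.good _ hr))

/-- Reading the coordinates off the characters. -/
theorem eq_of_cH {x y : Kˣ × Kˣ} (h47 : cH m y 47 = cH m x 47) (h40 : cH m y 40 = cH m x 40) : y = x := by
  have hc : ∀ i < 4, chevF4.cartan i 47 = ([0, 0, 0, 1] : List ℤ).getD i 0 ∧
      chevF4.cartan i 40 = ([-1, 1, 0, 0] : List ℤ).getD i 0 := by decide +kernel
  obtain ⟨a0, b0⟩ := hc 0 (by norm_num)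
  obtain ⟨a1, b1⟩ := hc 1 (by norm_num)
  obtain ⟨a2, b2⟩ := hc 2 (by norm_num)
  obtain ⟨a3, b3⟩ := hc 3 (by norm_num)
  have e1 : y.1 = x.1 := by simpa [cH_eq, a0, a1, a2, a3] using h47
  have e2 : y.2 ^ 2 ^ m = x.2 ^ 2 ^ m := by
    rw [cH_eq, cH_eq, b0, b1, b2, b3, e1] at h40
    simpa [← zpow_natCast] using h40
  exact Prod.ext e1 (by rw [← pow_e_e' hK y.2, e2, pow_e_e' hK])

theorem exists_conj (i : Fin 2) (x : Kˣ × Kˣ) :
    ∃ y, (RF K).nw (W i) * tH m x * ((RF K).nw (W i))⁻¹ = tH m y :=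
  (mem_H1_iff hK).1 (nW_conj_H1 hK i ((mem_H1_iff hK).2 ⟨x, rfl⟩))

/-- The first fundamental reflection on the torus. -/
theorem conj0 (a b : Kˣ) :
    (RF K).nw (W 0) * tH m (a, b) * ((RF K).nw (W 0))⁻¹ = tH m (b * a⁻¹, b) := by
  obtain ⟨y, hy⟩ := exists_conj hK 0 (a, b)
  rw [hy]
  congr 1
  have e1 := cH_conj hK 0 hy (r := 46) (by decide)
  have e2 := cH_conj hK 0 hy (r := 44) (by decide)
  rw [show wwN chevF4 (W 0) 46 = 47 by decide +kernel] at e1
  rw [show wwN chevF4 (W 0) 44 = 40 by decide +kernel] at e2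
  have hc : ∀ i < 4, chevF4.cartan i 47 = ([0, 0, 0, 1] : List ℤ).getD i 0 ∧
      chevF4.cartan i 40 = ([-1, 1, 0, 0] : List ℤ).getD i 0 ∧
      chevF4.cartan i 46 = ([0, 0, 1, -1] : List ℤ).getD i 0 ∧
      chevF4.cartan i 44 = ([1, 0, 0, 0] : List ℤ).getD i 0 := by decide +kernel
  obtain ⟨a0, b0, c0, d0⟩ := hc 0 (by norm_num)
  obtain ⟨a1, b1, c1, d1⟩ := hc 1 (by norm_num)
  obtain ⟨a2, b2, c2, d2⟩ := hc 2 (by norm_num)
  obtain ⟨a3, b3, c3, d3⟩ := hc 3 (by norm_num)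
  refine eq_of_cH hK ?_ ?_
  · rw [e1, cH_eq, cH_eq, a0, a1, a2, a3, c0, c1, c2, c3]
    simp [mul_comm]
  · rw [e2, cH_eq, cH_eq, b0, b1, b2, b3, d0, d1, d2, d3]
    simp [mul_zpow]

/-- The longest word. -/
def w0l : List (Fin 2) := [0, 1, 0, 1, 0, 1, 0, 1]

/-- The longest element inverts the torus. -/
theorem inverts {h : GL chevF4.Idx K} (hh : h ∈ (σF K m).H1) :
    (rgdF4' hK (m := m)).nw w0l * h * ((rgdF4' hK (m := m)).nw w0l)⁻¹ = h⁻¹ := by
  obtain ⟨x, rfl⟩ := (mem_H1_iff hK).1 hh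
  have hlift : ∀ l : List (Fin 2), ∀ x : Kˣ × Kˣ, ∃ y,
      (rgdF4' hK (m := m)).nw l * tH m x * ((rgdF4' hK (m := m)).nw l)⁻¹ = tH m y ∧
      ∀ r < chevF4.nroots, cH m y (wwN chevF4 (ew l) r) = cH m x r := by
    intro l
    induction l with
    | nil => exact fun x => ⟨x, by simp, fun r _ => by simp [ew, wwN]⟩
    | cons i l ih =>
      intro x
      obtain ⟨y, hy, hc⟩ := ih x
      obtain ⟨z, hz⟩ := exists_conj hK i y
      refine ⟨z, ?_, fun r hr => ?_⟩
      · rw [RGD.RootData.nw_cons, ← hz, ← hy]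
        simp only [show (rgdF4' hK (m := m)).n i = (RF K).nw (W i) from rfl]
        group
      · rw [ew_cons, wwN_app, cH_conj hK i hz (wwN_lt DataF4.good _ hr), hc r hr]
  obtain ⟨y, hy, hc⟩ := hlift w0l x
  rw [hy]
  have hinv : (tH m x)⁻¹ = tH m (x⁻¹) := inv_eq_of_mul_eq_one_right (by
    rw [← tH_mul hK, mul_inv_cancel]
    have h1 := tH_mul hK (m := m) (1 : Kˣ × Kˣ) 1
    rw [mul_one] at h1
    exact mul_eq_left.1 h1.symm)
  rw [hinv]
  congr 1
  have key : ∀ r < chevF4.nroots, wwN chevF4 (ew w0l) r = chevF4.neg r := by decide +kernel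
  have hval : ∀ r < chevF4.nroots, cH m y r = cH m x⁻¹ r := by
    intro r hr
    have h1 := hc (chevF4.neg r) (DataF4.good.neg_lt r hr)
    rw [key _ (DataF4.good.neg_lt r hr), DataF4.good.neg_neg r hr] at h1
    rw [h1]
    show ChevOrder.chi (D := chevF4) _ _ = ChevOrder.chi (D := chevF4) _ _
    rw [tF_conj.chi_neg _ r hr]
    show (cH m x r)⁻¹ = cH m x⁻¹ r
    rw [cH_eq, cH_eq, mul_inv_rev, mul_comm, Prod.fst_inv, Prod.snd_inv, inv_zpow, inv_zpow]
  exact eq_of_cH hK (hval 47 (by decide)) (hval 40 (by decide))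

/-! ### Induction over classes -/


omit hK in
theorem classInduction {P : Fin 16 → Prop} (h0 : P 0) (h7 : P 7)
    (step : ∀ i j, P j → P (wcl i j)) : ∀ j, P j := by
  have h8 := step 0 0 h0
  have h6 := step 1 0 h0
  have h14 := step 1 _ h8
  have h2 := step 0 _ h6
  have h4 := step 1 _ h2
  have h10 := step 0 _ h14
  have h12 := step 1 _ h10
  have h1 := step 0 7 h7
  have h15 := step 1 7 h7
  have h5 := step 1 _ h1
  have h9 := step 0 _ h15
  have h3 := step 0 _ h5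
  have h13 := step 1 _ h9
  have h11 := step 0 _ h13
  intro j
  fin_cases j
  exacts [h0, h1, h2, h3, h4, h5, h6, h7, h8, h9, h10, h11, h12, h13, h14, h15]

/-- An element whose characters on a class are all non-trivial acts fixed point freely. -/
theorem fix_eq_one : ∀ j : Fin 16, ∀ x : Kˣ × Kˣ, (∀ r ∈ cls j.val, cH m x r ≠ 1) →
    ∀ g ∈ X K m j, tH m x * g * (tH m x)⁻¹ = g → g = 1 := by
  refine classInduction ?_ ?_ ?_
  · intro x hx g hg he
    obtain ⟨t, rfl⟩ := (mem_X0_iff hK).1 hg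
    rw [show tH m x * (xF K 33 (t ^ 2 ^ m) * xF K 24 t) * (tH m x)⁻¹ =
      (tH m x * xF K 33 (t ^ 2 ^ m) * (tH m x)⁻¹) * (tH m x * xF K 24 t * (tH m x)⁻¹) by group,
      tH_conj_xF hK x (r := 33) (by decide), tH_conj_xF hK x (r := 24) (by decide)] at he
    obtain ⟨-, h2⟩ := pair_unique hK he
    have ht : t = 0 := by
      by_contra ht
      exact hx 24 (by decide) (Units.ext (mul_right_cancel₀ ht (by rw [h2, Units.val_one, one_mul])))
    simp [ht, xF_zero']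
  · intro x hx g hg he
    obtain ⟨t, u, rfl⟩ := (mem_X7_iff hK).1 hg
    rw [show ∀ A B C E : GL chevF4.Idx K, tH m x * (A * B * C * E) * (tH m x)⁻¹ =
      (tH m x * A * (tH m x)⁻¹) * (tH m x * B * (tH m x)⁻¹) * (tH m x * C * (tH m x)⁻¹) *
        (tH m x * E * (tH m x)⁻¹) from fun A B C E => by group,
      tH_conj_xF hK x (r := 27) (by decide), tH_conj_xF hK x (r := 25) (by decide),
      tH_conj_xF hK x (r := 28) (by decide), tH_conj_xF hK x (r := 30) (by decide)] at he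
    obtain ⟨-, h2, h3, -⟩ := b2_unique hK he
    have ht : t = 0 := by
      by_contra ht
      exact hx 25 (by decide) (Units.ext (mul_right_cancel₀ ht (by rw [h2, Units.val_one, one_mul])))
    subst ht
    rw [zero_pow (Nat.succ_ne_zero _), zero_add] at h3
    have hu : u = 0 := by
      by_contra hu
      exact hx 28 (by decide) (Units.ext (mul_right_cancel₀ hu (by rw [h3, Units.val_one, one_mul])))
    simp [hu, xF_zero']
  · intro i j ih x hx g hg he
    obtain ⟨y, hy⟩ := exists_conj hK i x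
    set n := (RF K).nw (W i) with hn
    have hg' := nW_conj_X (K := K) (m := m) i _ hg
    rw [wcl_wcl] at hg'
    have := ih y (fun r hr => ?_) _ hg' (by rw [← hy, ← hn]; calc
      n * tH m x * n⁻¹ * (n * g * n⁻¹) * (n * tH m x * n⁻¹)⁻¹ = n * (tH m x * g * (tH m x)⁻¹) * n⁻¹ := by group
      _ = n * g * n⁻¹ := by rw [he])
    · calc g = n⁻¹ * (n * g * n⁻¹) * n := by group
        _ = 1 := by rw [this]; group
    · have hlt := (cls_spec j.val j.isLt r hr).1
      have h1 := cH_conj hK i hy (r := wwN chevF4 (W i) r) (wwN_lt DataF4.good _ hlt)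
      rw [← wwN_app, W_sq i r hlt] at h1
      rw [h1]
      exact hx _ (cls_w i j r hr)

end Cfsg.Agent.Twisted.F4

namespace Cfsg.Agent.Twisted.F4

open Cfsg.Lie Cfsg.Lie.ChevalleyDatum Cfsg.Agent.Chev Cfsg.Agent.ChevBN

/-- The exponents `(u, v)` of a generator of the centraliser of the class 0 or 7, as pairs `a + b·2^m`. -/
def hexp (b : Bool) : (ℤ × ℤ) × (ℤ × ℤ) := if b then ((2, -2), (1, 0)) else ((1, 0), (2, 0))

/-- Twice the exponent of the character at a root, reduced modulo `2·(2^m)² - 1`: `c₀ + c₁·2^m`. -/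
def red (b : Bool) (r : ℕ) : ℤ × ℤ :=
  let u := (hexp b).1; let v := (hexp b).2
  let c := fun i => chevF4.cartan i r
  let p0 := c 3 * u.1 + c 2 * v.1
  let p1 := c 0 * u.1 + c 3 * u.2 + c 1 * v.1 + c 2 * v.2
  let p2 := c 0 * u.2 + c 1 * v.2
  (2 * p0 + p2, 2 * p1)

theorem red_small : ∀ r < chevF4.nroots, ∀ b : Bool, (red b r).1.natAbs ≤ 15 ∧ (red b r).2.natAbs ≤ 30 := by
  decide +kernel

/-- The class fixed by `hexp`. -/
def hcls (b : Bool) : ℕ := if b then 7 else 0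

theorem red_cases : ∀ s < 16, ∀ b : Bool, ∀ r ∈ cls s,
    (s = hcls b ∨ s = hcls b + 8) ∨
      (red b r ≠ (0, 0) ∧ ∀ e ∈ ([2, 4, 8] : List ℤ), ((red b r).1 + (red b r).2 * e) % (2 * e * e - 1) ≠ 0) := by
  decide +kernel

theorem red_zero : ∀ b : Bool, ∀ r ∈ cls (hcls b), red b r = (0, 0) := by decide +kernel

theorem red_not_dvd {m : ℕ} (hm : 1 ≤ m) {r : ℕ} {s : ℕ} {b : Bool} (hs : s < 16) (hr : r ∈ cls s)
    (h0 : s ≠ hcls b) (h8 : s ≠ hcls b + 8) :
    ¬ (2 * (2 : ℤ) ^ m * 2 ^ m - 1) ∣ (red b r).1 + (red b r).2 * 2 ^ m := by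
  obtain ⟨hne, hsmall⟩ := (red_cases s hs b r hr).resolve_left (by omega)
  intro hd
  by_cases hm4 : m ≤ 3
  · refine hsmall ((2 : ℤ) ^ m) ?_ (Int.emod_eq_zero_of_dvd hd)
    interval_cases m <;> norm_num
  · push Not at hm4
    have hlt : r < chevF4.nroots := (cls_spec s hs r hr).1
    obtain ⟨b1, b2⟩ := red_small r hlt b
    have he : (16 : ℤ) ≤ 2 ^ m := by
      calc (16 : ℤ) = 2 ^ 4 := by norm_num
        _ ≤ 2 ^ m := pow_le_pow_right₀ (by norm_num) hm4
    set e := (2 : ℤ) ^ m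
    have hq : 2 * 16 * e ≤ 2 * e * e := by nlinarith
    have h1 : |(red b r).1| ≤ 15 := by rw [Int.abs_eq_natAbs]; omega
    have h2 : |(red b r).2| ≤ 30 := by rw [Int.abs_eq_natAbs]; omega
    have hz : (red b r).1 + (red b r).2 * e = 0 := by
      refine Int.eq_zero_of_abs_lt_dvd hd ?_
      have h3 : |(red b r).2 * e| ≤ 30 * e := by
        rw [abs_mul, abs_of_nonneg (by omega : (0 : ℤ) ≤ e)]; exact mul_le_mul_of_nonneg_right h2 (by omega)
      have := abs_add_le (red b r).1 ((red b r).2 * e)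
      omega
    have h20 : (red b r).2 = 0 := by
      by_contra h
      have : (1 : ℤ) ≤ |(red b r).2| := by rw [Int.abs_eq_natAbs]; omega
      have h4 : e ≤ |(red b r).2 * e| := by
        rw [abs_mul, abs_of_nonneg (by omega : (0 : ℤ) ≤ e)]; exact le_mul_of_one_le_left (by omega) this
      have h5 : |(red b r).2 * e| = |(red b r).1| := by
        rw [show (red b r).2 * e = -(red b r).1 by omega, abs_neg]
      omega
    exact hne (Prod.ext (by rw [h20, zero_mul, add_zero] at hz; exact hz) h20)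

variable {K : Type*} [Field K] [CharP K 2] [Fintype K] {m : ℕ}

/-- A generator of the centraliser of the class 0 or 7. -/
def hx (m : ℕ) (g : Kˣ) (b : Bool) : Kˣ × Kˣ :=
  (g ^ ((hexp b).1.1 + (hexp b).1.2 * 2 ^ m), g ^ ((hexp b).2.1 + (hexp b).2.2 * 2 ^ m))

variable (hK : Fintype.card K = 2 ^ (2 * m + 1))
include hK

theorem card_units' : Nat.card Kˣ = 2 * 2 ^ m * 2 ^ m - 1 := by
  rw [Nat.card_units, Nat.card_eq_fintype_card, hK]
  congr 1
  ring

theorem units_zpow (g : Kˣ) : g ^ (2 * (2 : ℤ) ^ m * 2 ^ m - 1) = 1 := by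
  have h1 : 1 ≤ 2 * 2 ^ m * 2 ^ m := Nat.one_le_iff_ne_zero.2 (by positivity)
  have : g ^ (2 * 2 ^ m * 2 ^ m - 1 : ℕ) = 1 := by
    rw [← card_units' hK]; exact pow_card_eq_one'
  rw [← zpow_natCast, Nat.cast_sub h1] at this
  simpa using this

theorem cH_hx_sq (g : Kˣ) (b : Bool) (r : ℕ) :
    cH m (hx m g b) r ^ (2 : ℤ) = g ^ ((red b r).1 + (red b r).2 * 2 ^ m) := by
  rw [cH_eq, hx]
  simp only [← zpow_mul, ← zpow_add]
  set e := (2 : ℤ) ^ m
  have key : ∀ p : ℤ, g ^ (p * (2 * e * e - 1)) = 1 := fun p => by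
    rw [mul_comm, zpow_mul, units_zpow hK, one_zpow]
  obtain ⟨p, hp⟩ : ∃ p : ℤ, ((((hexp b).1.1 + (hexp b).1.2 * e) * (chevF4.cartan 0 r * e + chevF4.cartan 3 r) +
      ((hexp b).2.1 + (hexp b).2.2 * e) * (chevF4.cartan 1 r * e + chevF4.cartan 2 r)) * 2) =
      (red b r).1 + (red b r).2 * e + p * (2 * e * e - 1) :=
    ⟨chevF4.cartan 0 r * (hexp b).1.2 + chevF4.cartan 1 r * (hexp b).2.2, by simp only [red]; ring⟩
  rw [hp, zpow_add, key, mul_one]

theorem eq_one_of_sq' {x : Kˣ} (h : x ^ (2 : ℤ) = 1) : x = 1 := by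
  have h' : (x : K) ^ 2 = 1 := by
    have := congrArg Units.val h
    simpa [zpow_two, sq] using this
  have h0 : ((x : K) + 1) ^ 2 = 0 := by rw [CharTwo.add_sq, h', one_pow, CharTwo.add_self_eq_zero]
  exact Units.ext ((CharTwo.add_eq_zero.1 (eq_zero_of_pow_eq_zero h0)).trans rfl)

theorem cH_hx_fix (g : Kˣ) (b : Bool) {r : ℕ} (hr : r ∈ cls (hcls b)) : cH m (hx m g b) r = 1 :=
  eq_one_of_sq' hK (by rw [cH_hx_sq hK, red_zero b r hr]; simp)

theorem cH_hx_ne (hm : 1 ≤ m) {g : Kˣ} (hg : orderOf g = Nat.card Kˣ) (b : Bool) {s : ℕ} (hs : s < 16)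
    (h0 : s ≠ hcls b) (h8 : s ≠ hcls b + 8) {r : ℕ} (hr : r ∈ cls s) : cH m (hx m g b) r ≠ 1 := by
  intro h
  have h2 := cH_hx_sq hK g b r
  rw [h, one_zpow] at h2
  refine red_not_dvd hm hs hr h0 h8 ?_
  have hd := orderOf_dvd_iff_zpow_eq_one.2 h2.symm
  rw [hg, card_units' hK, Nat.cast_sub (Nat.one_le_iff_ne_zero.2 (by positivity))] at hd
  simpa using hd

end Cfsg.Agent.Twisted.F4
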