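/-
Twisted groups, part 23: commutators of root groups of ²F₄, segments, centres.

* `comm_sp`, `commute_X`, `comm31` : commutators of classes;
* `segX`, `segX_split`, `segX_disj`, `X_conj_segX` : segments;
* `C7`, `mem_C7_iff`, `C3_commutator` : the centre of a Suzuki root group and its image in class 3.
-/
import Cfsg.Agent.Lib.Twisted.F4Torus

set_option autoImplicit false
set_option maxRecDepth 10000
set_option linter.unusedSectionVars false

open scoped commutatorElement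

namespace Cfsg.Agent.Twisted.F4

open Cfsg.Lie Cfsg.Lie.ChevalleyDatum Cfsg.Agent.Chev Cfsg.Agent.ChevBN

variable {K : Type*} [Field K] [CharP K 2]

/-- The product of a commutator word. -/
noncomputable def cw (r s : ℕ) (t u : K) : GL chevF4.Idx K :=
  ((chevF4.commTerms r s).map fun τ => xF K τ.1 ((τ.2.1 : K) * t ^ τ.2.2.1 * u ^ τ.2.2.2)).prod

theorem xg_comm {r s : ℕ} (hr : r < chevF4.nroots) (hs : s < chevF4.nroots) (h₁ : s ≠ r)
    (h₂ : s ≠ chevF4.neg r) (t u : K) : xF K s u * xF K r t = xF K r t * xF K s u * cw r s t u := by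
  apply Units.ext
  rw [Units.val_mul, Units.val_mul, Units.val_mul, coe_xg, coe_xg, DataF4.good.commutator hr hs h₁ h₂, cw]
  congr 1
  rw [ChevalleyDatum.commWord, ChevalleyDatum.wordMat, List.map_map,
    ← Units.coeHom_apply, map_list_prod, List.map_map]
  refine congrArg List.prod (List.map_congr_left fun τ _ => ?_)
  simp [coe_xg, CharTwo.neg_eq]

theorem cw_mem {r s : ℕ} {C : List ℕ}
    (h : ∀ τ ∈ chevF4.commTerms r s, τ.1 < chevF4.nroots ∧ (τ.1 ∈ C ∨ τ.2.1 % 2 = 0)) (t u : K) :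
    cw r s t u ∈ spF K C := by
  refine list_prod_mem fun g hg => ?_
  obtain ⟨τ, hτ, rfl⟩ := List.mem_map.1 hg
  obtain ⟨hlt, hC | he⟩ := h τ hτ
  · exact xg_mem_sp DataF4.good rootsF4 hlt hC _
  · rw [show ((τ.2.1 : ℤ) : K) = 0 from
      (CharP.intCast_eq_zero_iff K 2 _).2 (Int.dvd_of_emod_eq_zero he), zero_mul, zero_mul, xF_zero']
    exact one_mem _

/-- `r, s` are distinct, not opposite, and their commutator terms lie in `C` or vanish modulo 2. -/
def CommTo (A B C : List ℕ) : Prop :=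
  ∀ r ∈ A, ∀ s ∈ B, r < chevF4.nroots ∧ s < chevF4.nroots ∧ s ≠ r ∧ s ≠ chevF4.neg r ∧
    ∀ τ ∈ chevF4.commTerms r s, τ.1 < chevF4.nroots ∧ (τ.1 ∈ C ∨ τ.2.1 % 2 = 0)

theorem commute_sp {A B : List ℕ} (h : CommTo A B []) {x y : GL chevF4.Idx K} (hx : x ∈ spF K A)
    (hy : y ∈ spF K B) : x * y = y * x := by
  have hgen : ∀ r ∈ A, ∀ s ∈ B, ∀ t u : K, xF K s u * xF K r t = xF K r t * xF K s u := by
    intro r hr s hs t u
    obtain ⟨h1, h2, h3, h4, h5⟩ := h r hr s hs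
    have := cw_mem (K := K) h5 t u
    rw [show spF K [] = ⊥ from sp_nil DataF4.good rootsF4, Subgroup.mem_bot] at this
    rw [xg_comm h1 h2 h3 h4, this, mul_one]
  have hle : spF K A ≤ Subgroup.centralizer (spF K B : Set (GL chevF4.Idx K)) := by
    refine sp_le DataF4.good rootsF4 fun r hr hlt t => Subgroup.mem_centralizer_iff.2 fun y hy => ?_
    have hle' : spF K B ≤ Subgroup.centralizer {xF K r t} :=
      sp_le DataF4.good rootsF4 fun s hs _ u =>
        Subgroup.mem_centralizer_iff.2 fun z hz => by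
          rw [Set.mem_singleton_iff.1 hz]; exact (hgen r hr s hs t u).symm
    exact (Subgroup.mem_centralizer_iff.1 (hle' hy) _ rfl).symm
  exact (Subgroup.mem_centralizer_iff.1 (hle hx) y hy).symm

/-- Commutators land in a part commuting with both. -/
theorem comm_sp {A B C : List ℕ} (h : CommTo A B C) (hA : CommTo C A []) (hB : CommTo C B [])
    {x y : GL chevF4.Idx K} (hx : x ∈ spF K A) (hy : y ∈ spF K B) : ⁅x, y⁆ ∈ spF K C := by
  have cA : ∀ {c a}, c ∈ spF K C → a ∈ spF K A → c * a = a * c := fun hc ha => commute_sp hA hc ha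
  have cB : ∀ {c b}, c ∈ spF K C → b ∈ spF K B → c * b = b * c := fun hc hb => commute_sp hB hc hb
  have key : ∀ r ∈ A, r < chevF4.nroots → ∀ t, ∀ y ∈ spF K B, ⁅xF K r t, y⁆ ∈ spF K C := by
    intro r hr hrlt t
    let P : Subgroup (GL chevF4.Idx K) :=
      { carrier := {y | y ∈ spF K B ∧ ⁅xF K r t, y⁆ ∈ spF K C}
        one_mem' := ⟨one_mem _, by rw [commutatorElement_one_right]; exact one_mem _⟩
        mul_mem' := fun {a b} ha hb => ⟨mul_mem ha.1 hb.1, by
          rw [show ⁅xF K r t, a * b⁆ = ⁅xF K r t, a⁆ * (a * ⁅xF K r t, b⁆ * a⁻¹) by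
            simp only [commutatorElement_def]; group]
          refine mul_mem ha.2 ?_
          rw [← cB hb.2 ha.1, mul_inv_cancel_right]
          exact hb.2⟩
        inv_mem' := fun {a} ha => ⟨inv_mem ha.1, by
          rw [show ⁅xF K r t, a⁻¹⁆ = a⁻¹ * (⁅xF K r t, a⁆)⁻¹ * a by simp only [commutatorElement_def]; group,
            ← cB (inv_mem ha.2) (inv_mem ha.1), inv_mul_cancel_right]
          exact inv_mem ha.2⟩ }
    have hle : spF K B ≤ P := sp_le DataF4.good rootsF4 fun s hs hlt u => ⟨xg_mem_sp DataF4.good rootsF4 hlt hs u, by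
      obtain ⟨h1, h2, h3, h4, h5⟩ := h r hr s hs
      have hW := cw_mem (K := K) h5 (-t) u
      have e : ⁅xF K r t, xF K s u⁆ = xF K s u * cw r s (-t) u * (xF K s u)⁻¹ := by
        have hi : xF K r (-t) = (xF K r t)⁻¹ := (xg_inv DataF4.good r t).symm
        rw [commutatorElement_def, mul_assoc (xF K r t) (xF K s u), ← hi, xg_comm h1 h2 h3 h4, hi]
        group
      rw [show xg DataF4.good K s u = xF K s u from rfl, e, ← cB hW (xg_mem_sp DataF4.good rootsF4 hlt hs u),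
        mul_inv_cancel_right]
      exact hW⟩
    exact fun y hy => (hle hy).2
  let Q : Subgroup (GL chevF4.Idx K) :=
    { carrier := {x | x ∈ spF K A ∧ ∀ y ∈ spF K B, ⁅x, y⁆ ∈ spF K C}
      one_mem' := ⟨one_mem _, fun y _ => by rw [commutatorElement_one_left]; exact one_mem _⟩
      mul_mem' := fun {a b} ha hb => ⟨mul_mem ha.1 hb.1, fun y hy => by
        rw [show ⁅a * b, y⁆ = a * ⁅b, y⁆ * a⁻¹ * ⁅a, y⁆ by simp only [commutatorElement_def]; group,
          ← cA (hb.2 y hy) ha.1, mul_inv_cancel_right]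
        exact mul_mem (hb.2 y hy) (ha.2 y hy)⟩
      inv_mem' := fun {a} ha => ⟨inv_mem ha.1, fun y hy => by
        rw [show ⁅a⁻¹, y⁆ = a⁻¹ * (⁅a, y⁆)⁻¹ * a by simp only [commutatorElement_def]; group,
          ← cA (inv_mem (ha.2 y hy)) (inv_mem ha.1), inv_mul_cancel_right]
        exact inv_mem (ha.2 y hy)⟩ }
  have hle : spF K A ≤ Q := sp_le DataF4.good rootsF4 fun r hr hlt t =>
    ⟨xg_mem_sp DataF4.good rootsF4 hlt hr t, key r hr hlt t⟩
  exact (hle hx).2 y hy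

theorem commTo_facts :
    CommTo (cls 2) (cls 3) [] ∧ CommTo (cls 2) (cls 4) [] ∧ CommTo (cls 3) (cls 4) [] ∧
    CommTo (cls 3) (cls 1) (cls 2) ∧ CommTo (cls 2) (cls 1) [] ∧
    CommTo [36] [39, 45] [] ∧ CommTo [44, 47] [39, 45] [] ∧ CommTo [34] [47] [] ∧
    CommTo [26] [44] [] := by
  refine ⟨?_, ?_, ?_, ?_, ?_, ?_, ?_, ?_, ?_⟩ <;> (unfold CommTo; decide +kernel)

variable {m : ℕ}

theorem commute_23 {x y : GL chevF4.Idx K} (hx : x ∈ X K m 2) (hy : y ∈ X K m 3) : x * y = y * x :=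
  commute_sp commTo_facts.1 (Subgroup.mem_inf.1 hx).1 (Subgroup.mem_inf.1 hy).1

theorem commute_24 {x y : GL chevF4.Idx K} (hx : x ∈ X K m 2) (hy : y ∈ X K m 4) : x * y = y * x :=
  commute_sp commTo_facts.2.1 (Subgroup.mem_inf.1 hx).1 (Subgroup.mem_inf.1 hy).1

theorem commute_34 {x y : GL chevF4.Idx K} (hx : x ∈ X K m 3) (hy : y ∈ X K m 4) : x * y = y * x :=
  commute_sp commTo_facts.2.2.1 (Subgroup.mem_inf.1 hx).1 (Subgroup.mem_inf.1 hy).1

theorem comm31 {x y : GL chevF4.Idx K} (hx : x ∈ X K m 3) (hy : y ∈ X K m 1) : ⁅x, y⁆ ∈ X K m 2 := by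
  obtain ⟨hx1, hx2⟩ := Subgroup.mem_inf.1 hx
  obtain ⟨hy1, hy2⟩ := Subgroup.mem_inf.1 hy
  refine Subgroup.mem_inf.2 ⟨comm_sp commTo_facts.2.2.2.1 commTo_facts.1 commTo_facts.2.2.2.2.1 hx1 hy1, ?_⟩
  rw [commutatorElement_def]
  exact mul_mem (mul_mem (mul_mem hx2 hy2) (inv_mem hx2)) (inv_mem hy2)

/-! ### Segments -/

/-- The fixed part of a segment. -/
noncomputable def segX (K : Type*) [Field K] [CharP K 2] (m : ℕ) (a b : ℕ) : Subgroup (GL chevF4.Idx K) :=
  spF K (seg a b) ⊓ (σF K m).fix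

variable [Fintype K] (hK : Fintype.card K = 2 ^ (2 * m + 1))
include hK

theorem X_eq_segX {a : ℕ} (ha : a < 8) : X K m ⟨a, by omega⟩ = segX K m a (a + 1) := by
  rw [segX, seg_one a ha]; rfl

theorem segX_split {a b : ℕ} (hb : b ≤ 8) (hab : a < b) {g : GL chevF4.Idx K} (hg : g ∈ segX K m a b) :
    ∃ x ∈ X K m ⟨a, by omega⟩, ∃ y ∈ segX K m (a + 1) b, g = x * y := by
  have he := seg_cons b hb a hab
  rw [segX, he] at hg
  exact fix_split DataF4.good rootsF4 (σF K m) σ_rho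
      (seg_one a (by omega) ▸ seg_closed (a + 1) (by omega) a (by omega)) (seg_closed b hb (a + 1) hab)
      (he ▸ seg_closed b hb a hab.le) (seg_one a (by omega) ▸ seg_rho (a + 1) (by omega) a (by omega))
      (seg_rho b hb (a + 1) hab) (fun g hg => exists_split DataF4.good rootsF4 (seg_norm b hb a hab) hg) hg

theorem segX_disj {a b : ℕ} (hb : b ≤ 8) (hab : a < b) {g : GL chevF4.Idx K}
    (h1 : g ∈ X K m ⟨a, by omega⟩) (h2 : g ∈ segX K m (a + 1) b) : g = 1 := by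
  have he := seg_cons b hb a hab
  exact (split_unique DataF4.good rootsF4 (seg_one a (by omega) ▸ seg_closed (a + 1) (by omega) a (by omega))
    (seg_closed b hb (a + 1) hab) (he ▸ seg_closed b hb a hab.le)
    (fun g hg => exists_split DataF4.good rootsF4 (seg_norm b hb a hab) hg)
    (Subgroup.mem_inf.1 h1).1 (one_mem _) (one_mem _) (Subgroup.mem_inf.1 h2).1
    (by rw [mul_one, one_mul])).1

theorem X_conj_segX {a b : ℕ} (hb : b ≤ 8) (hab : a < b) {x y : GL chevF4.Idx K}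
    (hx : x ∈ X K m ⟨a, by omega⟩) (hy : y ∈ segX K m (a + 1) b) : x * y * x⁻¹ ∈ segX K m (a + 1) b :=
  Subgroup.mem_inf.2 ⟨(conj_sp DataF4.good rootsF4 (seg_norm b hb a hab) (Subgroup.mem_inf.1 hx).1
      (Subgroup.mem_inf.1 hy).1).1,
    mul_mem (mul_mem (Subgroup.mem_inf.1 hx).2 (Subgroup.mem_inf.1 hy).2) (inv_mem (Subgroup.mem_inf.1 hx).2)⟩

omit hK in
theorem X_le_segX {a b : ℕ} {j : Fin 16} (ha : a ≤ j.val) (hj : j.val < b) : X K m j ≤ segX K m a b :=
  inf_le_inf_right _ (sp_mono DataF4.good rootsF4 fun r hr =>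
    List.mem_flatMap.2 ⟨j.val, List.mem_range'_1.2 ⟨ha, by omega⟩, hr⟩)

theorem Upos_eq_segX : (rgdF4' hK (m := m)).Upos = segX K m 0 8 := by
  refine le_antisymm ?_ (seg_le_Upos hK le_rfl (Nat.zero_le _))
  rw [Upos_eq hK]
  exact fun u hu => Subgroup.mem_inf.2
    ⟨(RF K).span_mono (fun r hr => (seg_all r.val r.isLt).1 hr) hu.1, hu.2⟩

/-! ### Centres -/

omit hK in
/-- The centre of the root group of class 7. -/
noncomputable def C7 (K : Type*) [Field K] [CharP K 2] (m : ℕ) : Subgroup (GL chevF4.Idx K) :=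
  spF K [28, 30] ⊓ (σF K m).fix

omit hK in
theorem C7_le : C7 K m ≤ X K m 7 :=
  inf_le_inf_right _ (sp_mono DataF4.good rootsF4 (show [28, 30] ⊆ cls 7 by decide))

theorem mem_C7_iff {g : GL chevF4.Idx K} :
    g ∈ C7 K m ↔ ∃ u, g = xF K 28 u * xF K 30 (u ^ (2 * 2 ^ m)) := by
  constructor
  · intro hg
    obtain ⟨t, u, e⟩ := (mem_X7_iff hK).1 (C7_le hg)
    obtain ⟨c, hc, d, hd, e'⟩ := exists_split DataF4.good rootsF4 b2_norm.2.2.1 (Subgroup.mem_inf.1 hg).1
    obtain ⟨c, rfl⟩ := sp_singleton DataF4.good rootsF4 hc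
    obtain ⟨d, rfl⟩ := sp_singleton DataF4.good rootsF4 hd
    have e'' : g = xF K 27 0 * xF K 25 0 * xF K 28 c * xF K 30 d := by
      rw [e', xF_zero', xF_zero', one_mul, one_mul]
    obtain ⟨-, ht, hc, hd⟩ := b2_unique hK (e''.symm.trans e)
    subst ht
    rw [zero_pow (Nat.succ_ne_zero _), zero_add] at hc
    exact ⟨u, by rw [e', hc, hd]⟩
  · rintro ⟨u, rfl⟩
    refine Subgroup.mem_inf.2 ⟨mul_mem (xg_mem_sp _ _ (by decide) (by simp) _)
      (xg_mem_sp _ _ (by decide) (by simp) _), (Subgroup.mem_inf.1 ((mem_X7_iff hK).2 ⟨0, u, ?_⟩)).2⟩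
    simp [zero_pow, xF_zero']

/-- A product of reflections taking class 7 to class 3. -/
noncomputable def g3 (K : Type*) [Field K] : GL chevF4.Idx K :=
  (RF K).nw (W 0) * (RF K).nw (W 1) * (RF K).nw (W 0)

omit hK in
theorem g3_xF {r : ℕ} (hr : r < chevF4.nroots) (u : K) :
    g3 K * xF K r u * (g3 K)⁻¹ = xF K (wwN chevF4 (W 0 ++ W 1 ++ W 0) r) u := by
  rw [show g3 K = (RF K).nw (W 0 ++ W 1 ++ W 0) by simp [g3, mul_assoc]]
  exact nw_conj_xg DataF4.good rootsF4 _ hr u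

/-- Every element of the centre in class 3 is a commutator of classes 1 and 4. -/
theorem C3_commutator {g : GL chevF4.Idx K} (hg : g ∈ C7 K m) :
    ∃ x ∈ X K m 1, ∃ y ∈ X K m 4, g3 K * g * (g3 K)⁻¹ = ⁅x, y⁆ := by
  obtain ⟨u, rfl⟩ := (mem_C7_iff hK).1 hg
  obtain ⟨t, ht⟩ : ∃ t : K, t ^ 2 ^ m = u := ⟨u ^ (2 * 2 ^ m), by rw [← pow_mul, mul_comm, pow_mul, pow_e_e hK]⟩
  subst ht
  rw [pow_e_e hK]
  -- the image of the centre
  have hC : g3 K * (xF K 28 (t ^ 2 ^ m) * xF K 30 t) * (g3 K)⁻¹ = xF K 44 (t ^ 2 ^ m) * xF K 47 t := by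
    rw [show g3 K * (xF K 28 (t ^ 2 ^ m) * xF K 30 t) * (g3 K)⁻¹ = (g3 K * xF K 28 (t ^ 2 ^ m) * (g3 K)⁻¹) *
      (g3 K * xF K 30 t * (g3 K)⁻¹) by group, g3_xF (by decide), g3_xF (by decide),
      show wwN chevF4 (W 0 ++ W 1 ++ W 0) 28 = 44 by decide +kernel,
      show wwN chevF4 (W 0 ++ W 1 ++ W 0) 30 = 47 by decide +kernel]
  rw [hC]
  -- the element of class 1
  have hx : xF K 34 1 * xF K 26 1 * xF K 36 1 ∈ X K m 1 := by
    have h7 : xF K 27 ((1 : K) ^ 2 ^ m) * xF K 25 1 * xF K 28 (1 ^ (2 ^ m + 1) + 0) *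
        xF K 30 ((0 : K) ^ (2 * 2 ^ m)) ∈ X K m 7 := (mem_X7_iff hK).2 ⟨1, 0, rfl⟩
    rw [one_pow, one_pow, add_zero, zero_pow (by positivity), xF_zero', mul_one] at h7
    have h1 := nW_conj_X (K := K) (m := m) 0 7 h7
    rw [show wcl 0 (7 : Fin 16) = 1 from rfl] at h1
    set n := (RF K).nw (W 0) with hn
    rw [show n * (xF K 27 1 * xF K 25 1 * xF K 28 1) * n⁻¹ = (n * xF K 27 1 * n⁻¹) * (n * xF K 25 1 * n⁻¹) *
      (n * xF K 28 1 * n⁻¹) by group, hn, nw_conj_xg DataF4.good rootsF4 (W 0) (s := 27) (by decide),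
      nw_conj_xg DataF4.good rootsF4 (W 0) (s := 25) (by decide),
      nw_conj_xg DataF4.good rootsF4 (W 0) (s := 28) (by decide),
      show wwN chevF4 (W 0) 27 = 34 by decide +kernel, show wwN chevF4 (W 0) 25 = 26 by decide +kernel,
      show wwN chevF4 (W 0) 28 = 36 by decide +kernel] at h1
    exact h1
  -- the element of class 4
  have hy : xF K 39 (t ^ 2 ^ m) * xF K 45 t ∈ X K m 4 := by
    have h0 := (mem_X0_iff hK).2 ⟨t, rfl⟩
    have h4 := nW_conj_X (K := K) (m := m) 1 _ (nW_conj_X 0 _ (nW_conj_X 1 0 h0))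
    rw [show wcl 1 (wcl 0 (wcl 1 (0 : Fin 16))) = 4 by decide] at h4
    have e : ∀ r v, r < chevF4.nroots → (RF K).nw (W 1) * ((RF K).nw (W 0) * ((RF K).nw (W 1) * xF K r v *
        ((RF K).nw (W 1))⁻¹) * ((RF K).nw (W 0))⁻¹) * ((RF K).nw (W 1))⁻¹ =
        xF K (wwN chevF4 (W 1 ++ W 0 ++ W 1) r) v := fun r v hr => by
      refine Eq.trans ?_ (nw_conj_xg DataF4.good rootsF4 (W 1 ++ W 0 ++ W 1) hr v)
      simp only [RGD.RootData.nw_append]; group
    rw [show ∀ A B : GL chevF4.Idx K, (RF K).nw (W 1) * ((RF K).nw (W 0) * ((RF K).nw (W 1) * (A * B) *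
        ((RF K).nw (W 1))⁻¹) * ((RF K).nw (W 0))⁻¹) * ((RF K).nw (W 1))⁻¹ =
      ((RF K).nw (W 1) * ((RF K).nw (W 0) * ((RF K).nw (W 1) * A *
        ((RF K).nw (W 1))⁻¹) * ((RF K).nw (W 0))⁻¹) * ((RF K).nw (W 1))⁻¹) *
      ((RF K).nw (W 1) * ((RF K).nw (W 0) * ((RF K).nw (W 1) * B *
        ((RF K).nw (W 1))⁻¹) * ((RF K).nw (W 0))⁻¹) * ((RF K).nw (W 1))⁻¹) from fun A B => by group,
      e 33 _ (by decide), e 24 _ (by decide),
      show wwN chevF4 (W 1 ++ W 0 ++ W 1) 33 = 39 by decide +kernel,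
      show wwN chevF4 (W 1 ++ W 0 ++ W 1) 24 = 45 by decide +kernel] at h4
    exact h4
  refine ⟨_, hx, _, hy, ?_⟩
  have m1 : ∀ {r : ℕ} {L : List ℕ} (x : K), r < chevF4.nroots → r ∈ L → xF K r x ∈ spF K L :=
    fun x hlt hr => xg_mem_sp DataF4.good rootsF4 hlt hr x
  set a := t ^ 2 ^ m with ha
  set y := xF K 39 a * xF K 45 t with hy'
  have hyS : y ∈ spF K [39, 45] := mul_mem (m1 _ (by decide) (by simp)) (m1 _ (by decide) (by simp))
  have c36 : xF K 36 1 * y = y * xF K 36 1 :=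
    commute_sp commTo_facts.2.2.2.2.2.1 (m1 1 (by decide) (by simp)) hyS
  have cC : ∀ v ∈ spF K [44, 47], v * y = y * v := fun v hv => commute_sp commTo_facts.2.2.2.2.2.2.1 hv hyS
  have h34 : CommTo [34] [45] [] ∧ CommTo [26] [39] [] ∧ CommTo [34] [44] [] ∧ CommTo [26] [47] [] ∧
      CommTo [44] [47] [] := by refine ⟨?_, ?_, ?_, ?_, ?_⟩ <;> (unfold CommTo; decide +kernel)
  have c3445 := commute_sp h34.1 (m1 (1 : K) (r := 34) (by decide) (by simp)) (m1 t (r := 45) (by decide) (by simp))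
  have c2639 := commute_sp h34.2.1 (m1 (1 : K) (r := 26) (by decide) (by simp)) (m1 a (r := 39) (by decide) (by simp))
  have c3444 := commute_sp h34.2.2.1 (m1 (1 : K) (r := 34) (by decide) (by simp)) (m1 a (r := 44) (by decide) (by simp))
  have c2644 := commute_sp commTo_facts.2.2.2.2.2.2.2.2 (m1 (1 : K) (r := 26) (by decide) (by simp))
    (m1 a (r := 44) (by decide) (by simp))
  have c3447 := commute_sp commTo_facts.2.2.2.2.2.2.2.1 (m1 (1 : K) (r := 34) (by decide) (by simp))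
    (m1 t (r := 47) (by decide) (by simp))
  have c4447 := commute_sp h34.2.2.2.2 (m1 a (r := 44) (by decide) (by simp))
    (m1 t (r := 47) (by decide) (by simp))
  have d34 : xF K 34 1 * xF K 39 a * (xF K 34 1)⁻¹ = xF K 39 a * xF K 44 a := by
    rw [mul_inv_eq_iff_eq_mul, mul_assoc, ← c3444]
    have := xg_comm (K := K) (r := 34) (s := 39) (by decide) (by decide) (by decide) (by decide) 1 a
    rw [cw, show chevF4.commTerms 34 39 = [(44, 1, 1, 1)] by decide +kernel] at this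
    simp at this
    rw [← mul_assoc, this, mul_assoc (xF K 34 1 * xF K 39 a)]
    rw [xg_add DataF4.good (by decide), CharTwo.add_self_eq_zero, xg_zero, mul_one]
  have d26 : xF K 26 1 * xF K 45 t * (xF K 26 1)⁻¹ = xF K 45 t * xF K 47 t := by
    have c2647 := commute_sp h34.2.2.2.1 (m1 (1 : K) (r := 26) (by decide) (by simp))
      (m1 t (r := 47) (by decide) (by simp))
    rw [mul_inv_eq_iff_eq_mul, mul_assoc, ← c2647]
    have := xg_comm (K := K) (r := 26) (s := 45) (by decide) (by decide) (by decide) (by decide) 1 t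
    rw [cw, show chevF4.commTerms 26 45 = [(47, 1, 1, 1)] by decide +kernel] at this
    simp at this
    rw [← mul_assoc, this, mul_assoc (xF K 26 1 * xF K 45 t)]
    rw [xg_add DataF4.good (by decide), CharTwo.add_self_eq_zero, xg_zero, mul_one]
  have hconj : xF K 34 1 * xF K 26 1 * xF K 36 1 * y * (xF K 34 1 * xF K 26 1 * xF K 36 1)⁻¹ =
      y * (xF K 44 a * xF K 47 t) := by
    calc _ = xF K 34 1 * (xF K 26 1 * (xF K 36 1 * y) * (xF K 36 1)⁻¹ * (xF K 26 1)⁻¹) * (xF K 34 1)⁻¹ := by group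
      _ = xF K 34 1 * ((xF K 26 1 * xF K 39 a) * xF K 45 t * (xF K 26 1)⁻¹) * (xF K 34 1)⁻¹ := by
        rw [c36, hy']; group
      _ = xF K 34 1 * (xF K 39 a * (xF K 26 1 * xF K 45 t * (xF K 26 1)⁻¹)) * (xF K 34 1)⁻¹ := by
        rw [c2639]; group
      _ = xF K 34 1 * xF K 39 a * (xF K 34 1)⁻¹ * ((xF K 34 1 * xF K 45 t) * (xF K 34 1)⁻¹) *
          ((xF K 34 1 * xF K 47 t) * (xF K 34 1)⁻¹) := by rw [d26]; group
      _ = xF K 39 a * xF K 44 a * xF K 45 t * xF K 47 t := by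
        rw [d34, c3445, c3447, mul_inv_cancel_right, mul_inv_cancel_right]
      _ = _ := by
        have c4445 : xF K 44 a * xF K 45 t = xF K 45 t * xF K 44 a :=
          commute_sp (show CommTo [44] [45] [] by unfold CommTo; decide +kernel) (m1 a (by decide) (by simp))
            (m1 t (by decide) (by simp))
        rw [hy', mul_assoc (xF K 39 a), c4445]; group
  rw [commutatorElement_def, hconj]
  have hmem : xF K 44 a * xF K 47 t ∈ spF K [44, 47] :=
    mul_mem (m1 _ (by decide) (by simp)) (m1 _ (by decide) (by simp))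
  rw [← cC _ hmem, mul_inv_cancel_right]

end Cfsg.Agent.Twisted.F4
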