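/-
The large Ree group is generated by `h x` and `u n₀`: `h` centralises the class of Suzuki type, `x` lies in it,
`u` lies in the other fundamental class and `n₀` is the longest element.

* `f4_two_generated`.
-/
import Cfsg.Agent.Lib.Twisted.F4Facts

set_option autoImplicit false
set_option maxRecDepth 20000
set_option linter.unusedSectionVars false
set_option backward.isDefEq.respectTransparency false

namespace Cfsg.Agent.Twisted.F4

open Cfsg.Lie Cfsg.Lie.ChevalleyDatum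
open Cfsg.Agent.Chev Cfsg.Agent.ChevBN

/-- The longest word. -/
def wLong : List (Fin 2) := (List.replicate 4 ([0, 1] : List (Fin 2))).flatten

theorem wLong_roots : ∀ r < chevF4.nroots, wwN chevF4 (ew wLong) r = chevF4.neg r := by decide +kernel

theorem wLong_cls : wLong.foldr wcl (0 : Fin 16) = 8 ∧ wLong.foldr wcl (7 : Fin 16) = 15 := by decide +kernel

theorem neg_coroot : ∀ i < 4,
    (chevF4.coroot.getD (chevF4.neg 33) #[]).getD i 0 = (if i = 0 then -1 else 0) ∧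
    (chevF4.coroot.getD (chevF4.neg 27) #[]).getD i 0 = (if i = 1 then -1 else 0) ∧
    (chevF4.coroot.getD (chevF4.neg 25) #[]).getD i 0 = (if i = 2 then -1 else 0) ∧
    (chevF4.coroot.getD (chevF4.neg 24) #[]).getD i 0 = (if i = 3 then -1 else 0) := by decide +kernel

theorem class_cartan : ∀ i < 4,
    chevF4.cartan i 33 = ([2, -1, 0, 0] : List ℤ).getD i 0 ∧ chevF4.cartan i 24 = ([0, 0, -1, 2] : List ℤ).getD i 0 ∧
    chevF4.cartan i 27 = ([-1, 2, -1, 0] : List ℤ).getD i 0 ∧ chevF4.cartan i 25 = ([0, -2, 2, -1] : List ℤ).getD i 0 ∧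
    chevF4.cartan i 28 = ([-1, 0, 1, -1] : List ℤ).getD i 0 ∧
    chevF4.cartan i 30 = ([-2, 2, 0, -1] : List ℤ).getD i 0 := by decide +kernel

variable {K : Type*} [Field K] [CharP K 2] [Fintype K] {m : ℕ} (hK : Fintype.card K = 2 ^ (2 * m + 1))
include hK

theorem tH_inv_of_long (x : Kˣ × Kˣ) :
    (RF K).nw (ew wLong) * tH m x * ((RF K).nw (ew wLong))⁻¹ = (tH m x)⁻¹ := by
  rw [tH, ← hg_simples hK]
  set n := (RF K).nw (ew wLong) with hn
  rw [show ∀ a b c d : GL chevF4.Idx K, n * (a * b * c * d) * n⁻¹ =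
      (n * a * n⁻¹) * (n * b * n⁻¹) * (n * c * n⁻¹) * (n * d * n⁻¹) from fun a b c d => by group, hn,
    nw_conj_hg DataF4.good rootsF4 _ (s := 33) (by decide), nw_conj_hg DataF4.good rootsF4 _ (s := 27) (by decide),
    nw_conj_hg DataF4.good rootsF4 _ (s := 25) (by decide), nw_conj_hg DataF4.good rootsF4 _ (s := 24) (by decide),
    wLong_roots 33 (by decide), wLong_roots 27 (by decide), wLong_roots 25 (by decide), wLong_roots 24 (by decide),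
    hg_simples hK, hg_eq_torusHom DataF4.good (show chevF4.neg 33 < chevF4.nroots by decide +kernel),
    hg_eq_torusHom DataF4.good (show chevF4.neg 27 < chevF4.nroots by decide +kernel),
    hg_eq_torusHom DataF4.good (show chevF4.neg 25 < chevF4.nroots by decide +kernel),
    hg_eq_torusHom DataF4.good (show chevF4.neg 24 < chevF4.nroots by decide +kernel),
    ← map_mul, ← map_mul, ← map_mul]
  rw [tF, ← map_inv]
  refine congrArg _ (funext fun (i : Fin 4) => ?_)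
  obtain ⟨h1, h2, h3, h4⟩ := neg_coroot i.val i.isLt
  simp only [Pi.mul_apply, Pi.inv_apply, h1, h2, h3, h4]
  fin_cases i <;> simp

theorem tH_chi (x : Kˣ × Kˣ) :
    (ChevOrder.chi (D := chevF4) ![x.1 ^ 2 ^ m, x.2 ^ 2 ^ m, x.2, x.1] 24 = x.1 ^ 2 * x.2⁻¹) ∧
    (ChevOrder.chi (D := chevF4) ![x.1 ^ 2 ^ m, x.2 ^ 2 ^ m, x.2, x.1] 25 =
      x.2 ^ 2 * ((x.2 ^ 2 ^ m) ^ 2)⁻¹ * x.1⁻¹) ∧
    (ChevOrder.chi (D := chevF4) ![x.1 ^ 2 ^ m, x.2 ^ 2 ^ m, x.2, x.1] 28 = (x.1 ^ 2 ^ m)⁻¹ * x.2 * x.1⁻¹) := by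
  obtain ⟨-, e04, -, e05, e08, -⟩ := class_cartan 0 (by norm_num)
  obtain ⟨-, e14, -, e15, e18, -⟩ := class_cartan 1 (by norm_num)
  obtain ⟨-, e24, -, e25, e28, -⟩ := class_cartan 2 (by norm_num)
  obtain ⟨-, e34, -, e35, e38, -⟩ := class_cartan 3 (by norm_num)
  refine ⟨?_, ?_, ?_⟩ <;>
    (show ∏ i : Fin 4, (![x.1 ^ 2 ^ m, x.2 ^ 2 ^ m, x.2, x.1] i) ^ chevF4.cartan i.val _ = _
     simp [Fin.prod_univ_four, e04, e05, e08, e14, e15, e18, e24, e25, e28, e34, e35, e38,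
       mul_comm, mul_left_comm])

theorem op_mul (s t : K) : xF K 33 (s ^ 2 ^ m) * xF K 24 s * (xF K 33 (t ^ 2 ^ m) * xF K 24 t) =
    xF K 33 ((s + t) ^ 2 ^ m) * xF K 24 (s + t) := by
  rw [show xF K 33 (s ^ 2 ^ m) * xF K 24 s * (xF K 33 (t ^ 2 ^ m) * xF K 24 t) =
      xF K 33 (s ^ 2 ^ m) * (xF K 24 s * xF K 33 (t ^ 2 ^ m)) * xF K 24 t by group,
    comm_free' hK (r := 33) (s := 24) (by decide) (by decide) (by decide) (by decide) (by decide +kernel),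
    show xF K 33 (s ^ 2 ^ m) * (xF K 33 (t ^ 2 ^ m) * xF K 24 s) * xF K 24 t =
      (xF K 33 (s ^ 2 ^ m) * xF K 33 (t ^ 2 ^ m)) * (xF K 24 s * xF K 24 t) by group,
    xg_add DataF4.good (by decide), xg_add DataF4.good (by decide), ← add_pow_char_pow]

theorem conj_op (x : Kˣ × Kˣ) (t : K) :
    tH m x * (xF K 33 (t ^ 2 ^ m) * xF K 24 t) * (tH m x)⁻¹ =
      xF K 33 ((((x.1 ^ 2 * x.2⁻¹ : Kˣ) : K) * t) ^ 2 ^ m) * xF K 24 (((x.1 ^ 2 * x.2⁻¹ : Kˣ) : K) * t) := by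
  obtain ⟨h24, -, -⟩ := tH_chi hK (m := m) x
  have hf := (mem_H1_iff hK).2 ⟨x, rfl⟩
  have hmem : tH m x * (xF K 33 (t ^ 2 ^ m) * xF K 24 t) * (tH m x)⁻¹ ∈ X K m 0 :=
    (rgdF4' hK (m := m)).H_conj_U _ hf 0 _ ((mem_X0_iff hK).2 ⟨t, rfl⟩)
  obtain ⟨w, hw⟩ := (mem_X0_iff hK).1 hmem
  have e : tH m x * (xF K 33 (t ^ 2 ^ m) * xF K 24 t) * (tH m x)⁻¹ =
      (tH m x * xF K 33 (t ^ 2 ^ m) * (tH m x)⁻¹) * (tH m x * xF K 24 t * (tH m x)⁻¹) := by group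
  rw [hw] at e ⊢
  rw [tH, tF_conj hK _ (by decide), tF_conj hK _ (by decide), h24] at e
  rw [← (pair_unique hK e).2]

theorem conj_b2 (x : Kˣ × Kˣ) (t u : K) :
    tH m x * (xF K 27 (t ^ 2 ^ m) * xF K 25 t * xF K 28 (t ^ (2 ^ m + 1) + u) * xF K 30 (u ^ (2 * 2 ^ m))) *
      (tH m x)⁻¹ =
    (let c : K := ((x.2 ^ 2 * ((x.2 ^ 2 ^ m) ^ 2)⁻¹ * x.1⁻¹ : Kˣ) : K)
     let d : K := (((x.1 ^ 2 ^ m)⁻¹ * x.2 * x.1⁻¹ : Kˣ) : K)
     let u' : K := d * (t ^ (2 ^ m + 1) + u) + (c * t) ^ (2 ^ m + 1)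
     xF K 27 ((c * t) ^ 2 ^ m) * xF K 25 (c * t) * xF K 28 ((c * t) ^ (2 ^ m + 1) + u') *
       xF K 30 (u' ^ (2 * 2 ^ m))) := by
  obtain ⟨-, h25, h28⟩ := tH_chi hK (m := m) x
  have hf := (mem_H1_iff hK).2 ⟨x, rfl⟩
  set g := xF K 27 (t ^ 2 ^ m) * xF K 25 t * xF K 28 (t ^ (2 ^ m + 1) + u) * xF K 30 (u ^ (2 * 2 ^ m))
  have hmem : tH m x * g * (tH m x)⁻¹ ∈ X K m 7 :=
    (rgdF4' hK (m := m)).H_conj_U _ hf 7 _ ((mem_X7_iff hK).2 ⟨t, u, rfl⟩)
  obtain ⟨t', u', hw⟩ := (mem_X7_iff hK).1 hmem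
  have e : tH m x * g * (tH m x)⁻¹ =
      (tH m x * xF K 27 (t ^ 2 ^ m) * (tH m x)⁻¹) * (tH m x * xF K 25 t * (tH m x)⁻¹) *
      (tH m x * xF K 28 (t ^ (2 ^ m + 1) + u) * (tH m x)⁻¹) *
      (tH m x * xF K 30 (u ^ (2 * 2 ^ m)) * (tH m x)⁻¹) := by simp only [g]; group
  rw [hw] at e ⊢
  rw [tH, tF_conj hK _ (by decide), tF_conj hK _ (by decide), tF_conj hK _ (by decide),
    tF_conj hK _ (by decide), h25, h28] at e
  obtain ⟨-, eb, ec, -⟩ := b2_unique hK e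
  dsimp only
  rw [← eb]
  rw [show (((x.1 ^ 2 ^ m)⁻¹ * x.2 * x.1⁻¹ : Kˣ) : K) * (t ^ (2 ^ m + 1) + u) + t' ^ (2 ^ m + 1) = u' by
    linear_combination (-1 : K) * ec + (t' ^ (2 ^ m + 1)) * (CharTwo.two_eq_zero : (2 : K) = 0)]

theorem xF_zero (r : ℕ) : xF K r (0 : K) = 1 := xg_zero _ r

theorem sandwich {G : Type*} [Group G] {A B C D : G} (hBA : B * A = A * B) (hBC : B * C = C * B)
    (hDA : D * A = A * D) : A * C * A * (B * D * B) = A * B * (C * D) * (A * B) :=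
  calc A * C * A * (B * D * B) = A * C * (A * B) * D * B := by simp only [mul_assoc]
    _ = A * (C * B) * (A * D) * B := by rw [← hBA]; simp only [mul_assoc]
    _ = A * B * (C * D) * (A * B) := by rw [← hBC, ← hDA]; simp only [mul_assoc]

theorem f4_two_generated (hm : 1 ≤ m) :
    ∃ a b : ↥(twistedF4 K (2 ^ m)), Subgroup.closure ({a, b} : Set ↥(twistedF4 K (2 ^ m))) = ⊤ := by
  classical
  obtain ⟨ζ, hζ⟩ := IsCyclic.exists_generator (α := Kˣ)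
  have hq : ∀ u : Kˣ, u ^ (2 ^ (2 * m + 1) - 1) = 1 := fun u => by
    rw [← hK, ← Fintype.card_units, pow_card_eq_one]
  have hpw : ((2 ^ (2 * m + 1) - 1 : ℕ) : ℤ) = 2 * (2 : ℤ) ^ m * (2 : ℤ) ^ m - 1 := by
    rw [Nat.cast_sub Nat.one_le_two_pow]; push_cast; ring
  have hq8 : 8 ≤ 2 ^ (2 * m + 1) :=
    le_trans (by norm_num : 8 ≤ 2 ^ 3) (Nat.pow_le_pow_right two_pos (by omega))
  have hgen : ∀ {e : ℤ}, IsCoprime e (2 * (2 : ℤ) ^ m * (2 : ℤ) ^ m - 1) → ∀ u : K, u ≠ 0 →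
      ∃ n : ℕ, u = ((ζ ^ e : Kˣ) : K) ^ n := by
    intro e he u hu
    rw [← hpw] at he
    obtain ⟨a, b, hab⟩ := he
    obtain ⟨k, hk⟩ := hζ (Units.mk0 u hu)
    have h1 : ζ ^ ((2 ^ (2 * m + 1) - 1 : ℕ) : ℤ) = 1 := by rw [zpow_natCast]; exact hq ζ
    have h2 : Units.mk0 u hu ∈ Subgroup.zpowers (ζ ^ e) := ⟨a * k, by
      show (ζ ^ e) ^ (a * k) = _
      rw [← hk, ← zpow_mul, show e * (a * k) = k + ((2 ^ (2 * m + 1) - 1 : ℕ) : ℤ) * (-(b * k)) by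
        linear_combination k * hab, zpow_add, zpow_mul ζ ((2 ^ (2 * m + 1) - 1 : ℕ) : ℤ), h1, one_zpow, mul_one]⟩
    obtain ⟨n, hn⟩ := (isOfFinOrder_of_finite (ζ ^ e)).mem_powers_iff_mem_zpowers.2 h2
    exact ⟨n, by simpa using (congrArg Units.val hn).symm⟩
  -- the torus element
  set θ : ℤ := (2 : ℤ) ^ m with hθ
  set x : Kˣ × Kˣ := (ζ ^ (2 - 2 * θ), ζ) with hx
  obtain ⟨-, c25, c28⟩ := tH_chi hK (m := m) x
  have hx25 : x.2 ^ 2 * ((x.2 ^ 2 ^ m) ^ 2)⁻¹ * x.1⁻¹ = 1 := by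
    simp only [x, ← zpow_natCast, ← zpow_mul, ← zpow_neg, ← zpow_add]
    rw [show ∀ E : ℤ, E = 0 → ζ ^ E = 1 from fun E h => by rw [h, zpow_zero]]
    push_cast; rw [hθ]; ring
  have hx28 : (x.1 ^ 2 ^ m)⁻¹ * x.2 * x.1⁻¹ = 1 := by
    simp only [x, ← zpow_natCast, ← zpow_mul, ← zpow_neg]
    rw [← zpow_add_one, ← zpow_add, show ∀ E : ℤ, E = ((2 ^ (2 * m + 1) - 1 : ℕ) : ℤ) → ζ ^ E = 1 from
      fun E h => by rw [h, zpow_natCast]; exact hq ζ]
    rw [hpw]; push_cast; rw [hθ]; ring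
  set g : Kˣ := x.1 ^ 2 * x.2⁻¹ with hgd
  have hge : g = ζ ^ (3 - 4 * θ) := by
    simp only [g, x, ← zpow_natCast, ← zpow_mul, ← zpow_neg_one, ← zpow_add]
    congr 1
    push_cast; ring
  have hgg : ∀ u : K, u ≠ 0 → ∃ n : ℕ, u = (g : K) ^ n := fun u hu => by
    rw [hge]
    exact hgen ⟨3 + 4 * θ, 8, by ring⟩ u hu
  have hg1 : (g : K) + 1 ≠ 0 := by
    intro e
    rw [CharTwo.add_eq_zero] at e
    have h1 : ∀ u : Kˣ, u = 1 := fun u => by
      obtain ⟨n, hn⟩ := hgg (u : K) u.ne_zero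
      exact Units.ext (by rw [hn, e, one_pow, Units.val_one])
    have h2 : Fintype.card Kˣ = 1 := Fintype.card_eq_one_iff.2 ⟨1, h1⟩
    rw [Fintype.card_units, hK] at h2
    omega
  -- elements of the two classes
  set op : K → GL chevF4.Idx K := fun t => xF K 33 (t ^ 2 ^ m) * xF K 24 t with hop
  set bb : K → K → GL chevF4.Idx K := fun t u => xF K 27 (t ^ 2 ^ m) * xF K 25 t *
    xF K 28 (t ^ (2 ^ m + 1) + u) * xF K 30 (u ^ (2 * 2 ^ m)) with hbb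
  have hzero : (0 : K) ^ 2 ^ m = 0 ∧ (0 : K) ^ (2 ^ m + 1) = 0 ∧ (0 : K) ^ (2 * 2 ^ m) = 0 :=
    ⟨zero_pow (Nat.two_pow_pos m).ne', zero_pow (Nat.succ_ne_zero _),
      zero_pow (Nat.mul_pos two_pos (Nat.two_pow_pos m)).ne'⟩
  set H := tH m x
  set n₀ := (RF K).nw (ew wLong)
  set R := rgdF4' hK (m := m)
  have hn₀ : n₀ = R.nw wLong := (nw'_eq hK wLong).symm
  have hn₀T : n₀ ∈ twistedF4 K (2 ^ m) := by
    rw [twisted_eq hK, hn₀]; exact R.N_le_G (R.nw_mem_N _)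
  have hHT : H ∈ twistedF4 K (2 ^ m) := H1_le hK ((mem_H1_iff hK).2 ⟨_, rfl⟩)
  have hA' : H * bb 1 0 ∈ twistedF4 K (2 ^ m) := mul_mem hHT (b_mem hK 1 0)
  have hB' : op 1 * n₀ ∈ twistedF4 K (2 ^ m) := mul_mem (op_mem hK 1) hn₀T
  refine ⟨⟨_, hA'⟩, ⟨_, hB'⟩, Subgroup.map_injective (f := (twistedF4 K (2 ^ m)).subtype) Subtype.val_injective ?_⟩
  rw [MonoidHom.map_closure, Set.image_pair, ← MonoidHom.range_eq_map, Subgroup.range_subtype]
  refine le_antisymm ((Subgroup.closure_le _).2 (by rintro z (rfl | rfl) <;> assumption)) ?_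
  show twistedF4 K (2 ^ m) ≤ Subgroup.closure {H * bb 1 0, op 1 * n₀}
  set S := Subgroup.closure ({H * bb 1 0, op 1 * n₀} : Set (GL chevF4.Idx K))
  have hA : H * bb 1 0 ∈ S := Subgroup.subset_closure (Set.mem_insert _ _)
  have hB : op 1 * n₀ ∈ S := Subgroup.subset_closure (Set.mem_insert_of_mem _ rfl)
  -- the two factors
  have hcomm : H * bb 1 0 = bb 1 0 * H := by
    rw [← mul_inv_eq_iff_eq_mul]
    show tH m x * bb 1 0 * (tH m x)⁻¹ = _
    simp only [bb]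
    rw [conj_b2 hK]
    simp only [hx25, hx28, Units.val_one, one_mul, one_pow, add_zero, CharTwo.add_self_eq_zero, hzero.2.2]
  have hN : ∀ y ∈ X K m 7, y ^ (2 ^ (2 * m + 1)) ^ 2 = 1 := fun y hy => by
    have := pow_card_eq_one' (G := ↥(X K m 7)) (x := ⟨y, hy⟩)
    rw [card_X7 hK] at this
    simpa using congrArg Subtype.val this
  obtain ⟨hH, hb⟩ : H ∈ S ∧ bb 1 0 ∈ S := by
    set Q := 2 ^ (2 * m + 1) with hQ
    set N := (Q - 1) * (Q + 1) with hN'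
    have e1 : H ^ N = 1 := by
      rw [pow_mul]
      have : H ^ (Q - 1) = 1 := by
        show tF ![x.1 ^ 2 ^ m, x.2 ^ 2 ^ m, x.2, x.1] ^ (Q - 1) = 1
        rw [tF, ← map_pow]
        convert map_one (ChevOrder.torusHom chevF4 K)
        funext i
        exact hq _
      rw [this, one_pow]
    have e2 : bb 1 0 ^ (N + 1) = 1 := by
      rw [show N + 1 = Q ^ 2 by
        obtain ⟨r, hr⟩ : ∃ r, Q = r + 1 := ⟨Q - 1, by omega⟩
        rw [hN', hr, Nat.add_sub_cancel]; ring]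
      exact hN _ ((mem_X7_iff hK).2 ⟨1, 0, rfl⟩)
    have e : (H * bb 1 0) ^ N = (bb 1 0)⁻¹ := by
      rw [Commute.mul_pow hcomm, e1, one_mul]
      exact eq_inv_of_mul_eq_one_left (by rw [← pow_succ]; exact e2)
    have hx' : bb 1 0 ∈ S := inv_mem_iff.1 (e ▸ pow_mem hA N)
    exact ⟨by simpa using mul_mem hA (inv_mem hx'), hx'⟩
  have hconj : n₀ * H * n₀⁻¹ = H⁻¹ := tH_inv_of_long hK x
  have hopS : op ((g : K) + 1) ∈ S := by
    have h := mul_mem hH (mul_mem (mul_mem hB hH) (inv_mem hB))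
    have hinv : (op 1)⁻¹ = op 1 := inv_eq_of_mul_eq_one_right (by
      simp only [op]
      rw [op_mul hK, CharTwo.add_self_eq_zero, hzero.1, xF_zero hK, xF_zero hK, mul_one])
    rwa [show H * (op 1 * n₀ * H * (op 1 * n₀)⁻¹) = H * (op 1 * (n₀ * H * n₀⁻¹) * (op 1)⁻¹) by group, hconj,
      show H * (op 1 * H⁻¹ * (op 1)⁻¹) = H * op 1 * H⁻¹ * (op 1)⁻¹ by group, hinv,
      show H * op 1 * H⁻¹ = op ((g : K) * 1) from conj_op hK x 1, mul_one,
      show op (g : K) * op 1 = op ((g : K) + 1) from op_mul hK _ _] at h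
  have hop_all : ∀ t, op t ∈ S := by
    intro t
    rcases eq_or_ne t 0 with rfl | ht
    · simp only [op]; rw [hzero.1, xF_zero hK, xF_zero hK, mul_one]; exact one_mem _
    have key : ∀ n : ℕ, op ((g : K) ^ n * ((g : K) + 1)) ∈ S := by
      intro n
      induction n with
      | zero => simpa using hopS
      | succ n ih =>
        have e : H * op ((g : K) ^ n * ((g : K) + 1)) * H⁻¹ = op ((g : K) * ((g : K) ^ n * ((g : K) + 1))) :=
          conj_op hK x _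
        rw [pow_succ', mul_assoc, ← e]
        exact mul_mem (mul_mem hH ih) (inv_mem hH)
    obtain ⟨n, hn⟩ := hgg (t / ((g : K) + 1)) (div_ne_zero ht hg1)
    have := key n
    rwa [← hn, div_mul_cancel₀ t hg1] at this
  have hX0 : X K m 0 ≤ S := fun y hy => by
    obtain ⟨t, rfl⟩ := (mem_X0_iff hK).1 hy
    exact hop_all t
  have hn : n₀ ∈ S := by simpa using mul_mem (inv_mem (hop_all 1)) hB
  have hmap : ∀ {j k : Fin 16}, wLong.foldr wcl j = k → X K m j ≤ S → X K m k ≤ S := by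
    intro j k e h
    have hU : (R.U j).map (MulAut.conj (R.nw wLong)).toMonoidHom = X K m k := by
      rw [R.map_conj_U]; exact congrArg _ e
    rw [← hU]
    rintro _ ⟨y, hy, rfl⟩
    exact mul_mem (mul_mem (hn₀ ▸ hn) (h hy)) (inv_mem (hn₀ ▸ hn))
  have hX8 : X K m 8 ≤ S := hmap wLong_cls.1 hX0
  -- the torus of the pair class
  have hnp : ∀ a : Kˣ, ng DataF4.good K 33 ((a ^ 2 ^ m : Kˣ) : K) * ng DataF4.good K 24 (a : K) ∈ S := by
    intro a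
    have h := mul_mem (mul_mem (hop_all (a : K))
      (hX8 ((mem_X8_iff hK).2 ⟨((a⁻¹ : Kˣ) : K), rfl⟩))) (hop_all (a : K))
    have c : ∀ r ∈ [24, 23], ∀ q ∈ [33, 14], ∀ x y : K, xF K r x * xF K q y = xF K q y * xF K r x := by
      intro r hr q hq x y
      have hd : ∀ r ∈ [24, 23], ∀ q ∈ [33, 14], q < 48 ∧ r < 48 ∧ r ≠ q ∧ r ≠ chevF4.neg q ∧
          chevF4.commTerms q r = [] := by decide +kernel
      obtain ⟨h1, h2, h3, h4, h5⟩ := hd r hr q hq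
      exact comm_free' hK h1 h2 h3 h4 h5 y x
    have e : ng DataF4.good K 33 ((a ^ 2 ^ m : Kˣ) : K) * ng DataF4.good K 24 (a : K) =
        (xF K 33 ((a : K) ^ 2 ^ m) * xF K 24 a) * (xF K 14 (((a⁻¹ : Kˣ) : K) ^ 2 ^ m) * xF K 23 ((a⁻¹ : Kˣ) : K)) *
          (xF K 33 ((a : K) ^ 2 ^ m) * xF K 24 a) := by
      simp only [ng, show chevF4.neg 33 = 14 from rfl, show chevF4.neg 24 = 23 from rfl, Units.val_pow_eq_pow_val,
        Units.val_inv_eq_inv_val, inv_pow, CharTwo.neg_eq]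
      exact sandwich hK (c 24 (by simp) 33 (by simp) _ _) (c 24 (by simp) 14 (by simp) _ _)
        (c 23 (by simp) 33 (by simp) _ _)
    rw [e]
    exact h
  have hT : ∀ a : Kˣ, tH m (a, 1) ∈ S := by
    intro a
    have e1 : hg DataF4.good K 33 ((a ^ 2 ^ m : Kˣ) : K) * hg DataF4.good K 24 (a : K) = tH m (a, 1) := by
      rw [hg_eq_torusHom DataF4.good (show 33 < chevF4.nroots by decide),
        hg_eq_torusHom DataF4.good (show 24 < chevF4.nroots by decide), ← map_mul, tH]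
      refine congrArg _ (funext fun (i : Fin 4) => ?_)
      obtain ⟨h1, -, -, h4, -, -⟩ := coroot_vals hK i.val i.isLt
      simp only [Pi.mul_apply, h1, h4]
      fin_cases i <;> simp
    have h := mul_mem (hnp a) (hnp 1)
    simp only [one_pow, Units.val_one] at h
    rw [← e1, show hg DataF4.good K 33 ((a ^ 2 ^ m : Kˣ) : K) * hg DataF4.good K 24 (a : K) =
      ng DataF4.good K 33 ((a ^ 2 ^ m : Kˣ) : K) * ng DataF4.good K 24 (a : K) *
        (ng DataF4.good K 33 1 * ng DataF4.good K 24 1) by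
      rw [hg, hg, CharTwo.neg_eq, mul_assoc, mul_assoc (ng DataF4.good K 33 _),
        ← mul_assoc (ng DataF4.good K 24 _) (ng DataF4.good K 33 1), (ng_commute hK _ _).eq, mul_assoc]]
    exact h
  -- the Suzuki class
  have hb0 : ∀ t : K, bb t 0 ∈ S := by
    intro t
    rcases eq_or_ne t 0 with rfl | ht
    · simp only [bb]
      rw [hzero.1, hzero.2.1, add_zero, hzero.2.2, xF_zero hK, xF_zero hK, xF_zero hK, xF_zero hK, mul_one, mul_one, mul_one]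
      exact one_mem _
    have h := mul_mem (mul_mem (hT (Units.mk0 t ht)⁻¹) hb) (inv_mem (hT (Units.mk0 t ht)⁻¹))
    simp only [bb] at h ⊢
    rw [conj_b2 hK] at h
    simpa [inv_pow, pow_succ, mul_comm, CharTwo.add_self_eq_zero] using h
  have hsum : ∀ t s : K, bb (t + s) (s ^ 2 ^ m * t) ∈ S := by
    intro t s
    have h := mul_mem (hb0 s) (hb0 t)
    simp only [bb] at h ⊢
    rw [b2_mul hK, ← add_pow_char_pow, hzero.2.2, add_zero, add_zero, add_zero, add_zero] at h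
    rw [add_comm t s,
      show (s + t) ^ (2 ^ m + 1) + s ^ 2 ^ m * t = t ^ 2 ^ m * s + s ^ (2 ^ m + 1) + t ^ (2 ^ m + 1) by
        rw [pow_succ, pow_succ, pow_succ, add_pow_char_pow]
        linear_combination (s ^ 2 ^ m * t) * (CharTwo.two_eq_zero : (2 : K) = 0),
      show (s ^ 2 ^ m * t) ^ (2 * 2 ^ m) = (t ^ 2 ^ m) ^ 2 * s by
        rw [mul_pow, pow_e_e hK, ← pow_mul, mul_comm (2 ^ m) 2, mul_comm]]
    exact h
  have hcen : ∀ u : K, bb 0 u ∈ S := by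
    intro u
    obtain ⟨t, rfl⟩ : ∃ t : K, t ^ (2 ^ m + 1) = u := by
      rcases eq_or_ne u 0 with rfl | hu
      · exact ⟨0, hzero.2.1⟩
      · obtain ⟨n, hn⟩ := hgen (e := θ + 1) ⟨2 - 2 * θ, 1, by ring⟩ u hu
        refine ⟨(ζ : K) ^ n, ?_⟩
        rw [hn, ← pow_mul, mul_comm, pow_mul, ← Units.val_pow_eq_pow_val, ← zpow_natCast ζ (2 ^ m + 1)]
        push_cast; rw [hθ]
    have := hsum t t
    rwa [CharTwo.add_self_eq_zero, ← pow_succ] at this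
  have hX7 : X K m 7 ≤ S := fun y hy => by
    obtain ⟨t, u, rfl⟩ := (mem_X7_iff hK).1 hy
    have h := mul_mem (hb0 t) (hcen u)
    simp only [bb] at h
    rw [b2_mul hK] at h
    simp only [hzero.1, hzero.2.1, hzero.2.2, add_zero, zero_add, zero_mul, zero_pow two_ne_zero] at h
    exact h
  have hX15 : X K m 15 ≤ S := hmap wLong_cls.2 hX7
  refine (Subgroup.closure_le _).2 ?_
  rintro y ⟨w, (⟨t, rfl | rfl⟩ | ⟨t, u, rfl | rfl⟩), e⟩
  · refine hX0 ((mem_X0_iff hK).2 ⟨t, Units.ext ?_⟩)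
    rw [e]; simp [f4PairWord, f4p1, f4p4, ChevalleyDatum.wordMat]
  · refine hX8 ((mem_X8_iff hK).2 ⟨t, Units.ext ?_⟩)
    rw [e]; simp [f4PairWord, f4m1, f4m4, ChevalleyDatum.wordMat]
  · refine hX7 ((mem_X7_iff hK).2 ⟨t, u, Units.ext ?_⟩)
    rw [e]; simp [b2ClassWord, f4a, f4b, f4ab, f4aab, ChevalleyDatum.wordMat, mul_assoc]
  · refine hX15 ((mem_X15_iff hK).2 ⟨t, u, Units.ext ?_⟩)
    rw [e]; simp [b2ClassWord, f4ma, f4mb, f4mab, f4maab, ChevalleyDatum.wordMat, mul_assoc]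

end Cfsg.Agent.Twisted.F4
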