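/-
Twisted groups, part 21: lifting root group data to a central extension.

* `lift`, `Good` : the lift `⁅H̃, π⁻¹X⁆` of a subgroup normalised by the torus, and when it is a complement;
* `commute_of_coprime`, `Good.of_quot`, `Good.conj`, `Good.prod` : criteria;
* `TorusLift`, `liftData`, `ker_eq_bot` : lifted root group data splits a stem extension.
-/
import Cfsg.Agent.Lib.RGD.Core
import Cfsg.Agent.Lib.Twisted.Fixed
import Cfsg.Agent.Lib.CentralExt.Basic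

set_option autoImplicit false
set_option linter.unusedSectionVars false

open scoped commutatorElement

namespace Cfsg.Agent.CentralLift

open Cfsg.Agent.RGD

variable {Γ M : Type*} [Group Γ] [Group M] (π : Γ →* M) (H : Subgroup M)

/-- The lift of a subgroup. -/
def lift (X : Subgroup M) : Subgroup Γ := ⁅H.comap π, X.comap π⁆

/-- The lift is mapped bijectively. -/
structure Good (X : Subgroup M) : Prop where
  inj : ∀ x ∈ lift π H X, π x = 1 → x = 1
  surj : ∀ y ∈ X, ∃ x ∈ lift π H X, π x = y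

variable {π H}

theorem lift_mono {X Y : Subgroup M} (h : X ≤ Y) : lift π H X ≤ lift π H Y :=
  Subgroup.commutator_mono le_rfl (Subgroup.comap_mono h)

theorem comm_mem_lift {X : Subgroup M} {h v : Γ} (hh : π h ∈ H) (hv : π v ∈ X) :
    ⁅h, v⁆ ∈ lift π H X :=
  Subgroup.commutator_mem_commutator hh hv

theorem map_mem_of_lift {X : Subgroup M} (hn : ∀ h ∈ H, ∀ x ∈ X, h * x * h⁻¹ ∈ X) {x : Γ}
    (hx : x ∈ lift π H X) : π x ∈ X := by
  have hle : lift π H X ≤ X.comap π := by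
    refine Subgroup.commutator_le.2 fun h hh v hv => ?_
    rw [Subgroup.mem_comap, map_commutatorElement, commutatorElement_def]
    exact mul_mem (hn _ hh _ hv) (inv_mem hv)
  exact hle hx

/-- Conjugation by an element normalising the torus maps lifts to lifts. -/
theorem lift_conj {g : Γ} {X Y : Subgroup M} (hH : ∀ h ∈ H, π g * h * (π g)⁻¹ ∈ H)
    (hX : ∀ x ∈ X, π g * x * (π g)⁻¹ ∈ Y) {x : Γ} (hx : x ∈ lift π H X) :
    g * x * g⁻¹ ∈ lift π H Y := by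
  have hle : lift π H X ≤ (lift π H Y).comap (MulAut.conj g).toMonoidHom := by
    refine Subgroup.commutator_le.2 fun h hh v hv => ?_
    show g * ⁅h, v⁆ * g⁻¹ ∈ lift π H Y
    rw [show g * ⁅h, v⁆ * g⁻¹ = ⁅g * h * g⁻¹, g * v * g⁻¹⁆ by simp only [commutatorElement_def]; group]
    refine comm_mem_lift ?_ ?_
    · simpa only [map_mul, map_inv] using hH _ hh
    · simpa only [map_mul, map_inv] using hX _ hv
  exact hle hx

/-- If `a` commutes with `h` and conjugates `π⁻¹X` into `π⁻¹Y`, it conjugates `⁅h, v⁆` into the lift of `Y`. -/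
theorem conj_comm_mem {a h v : Γ} {Y : Subgroup M} (hc : a * h = h * a) (hh : π h ∈ H)
    (hv : π a * π v * (π a)⁻¹ ∈ Y) : a * ⁅h, v⁆ * a⁻¹ ∈ lift π H Y := by
  rw [show a * ⁅h, v⁆ * a⁻¹ = ⁅a * h * a⁻¹, a * v * a⁻¹⁆ by simp only [commutatorElement_def]; group, hc,
    mul_inv_cancel_right]
  exact comm_mem_lift hh (by simpa only [map_mul, map_inv] using hv)

section Central

variable (hker : π.ker ≤ Subgroup.center Γ)
include hker

theorem central {z : Γ} (hz : π z = 1) (g : Γ) : g * z = z * g :=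
  Subgroup.mem_center_iff.1 (hker (MonoidHom.mem_ker.2 hz)) g

/-- Elements with commuting images of coprime orders commute. -/
theorem commute_of_coprime {a b : Γ} {k l : ℕ} (hkl : Nat.Coprime k l) (hc : π a * π b = π b * π a)
    (ha : π a ^ k = 1) (hb : π b ^ l = 1) : a * b = b * a := by
  have hc1 : π ⁅a, b⁆ = 1 := by
    rw [map_commutatorElement]; exact commutatorElement_eq_one_iff_mul_comm.2 hc
  have e1 : ∀ n : ℕ, a * b ^ n * a⁻¹ = ⁅a, b⁆ ^ n * b ^ n := by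
    intro n
    have h : a * b * a⁻¹ = ⁅a, b⁆ * b := by rw [commutatorElement_def]; group
    have hcm : Commute ⁅a, b⁆ b := (central hker hc1 b).symm
    rw [← conj_pow, h, hcm.mul_pow]
  have e2 : ∀ n : ℕ, b * a ^ n * b⁻¹ = ⁅b, a⁆ ^ n * a ^ n := by
    intro n
    have hc1' : π ⁅b, a⁆ = 1 := by
      rw [map_commutatorElement]; exact commutatorElement_eq_one_iff_mul_comm.2 hc.symm
    have h : b * a * b⁻¹ = ⁅b, a⁆ * a := by rw [commutatorElement_def]; group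
    have hcm : Commute ⁅b, a⁆ a := (central hker hc1' a).symm
    rw [← conj_pow, h, hcm.mul_pow]
  have hl : ⁅a, b⁆ ^ l = 1 := by
    have h := e1 l
    rw [central hker (by rw [map_pow, hb] : π (b ^ l) = 1) a, mul_inv_cancel_right] at h
    exact right_eq_mul.1 h
  have hk : ⁅a, b⁆ ^ k = 1 := by
    have h := e2 k
    rw [central hker (by rw [map_pow, ha] : π (a ^ k) = 1) b, mul_inv_cancel_right] at h
    have h' := right_eq_mul.1 h
    rwa [← commutatorElement_inv a b, inv_pow, inv_eq_one] at h'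
  have : ⁅a, b⁆ = 1 := by
    refine orderOf_eq_one_iff.1 (Nat.eq_one_of_dvd_coprimes hkl ?_ ?_)
    · exact orderOf_dvd_of_pow_eq_one hk
    · exact orderOf_dvd_of_pow_eq_one hl
  exact commutatorElement_eq_one_iff_mul_comm.1 this

/-- A complement normalised by the torus that lies in the lift is the lift. -/
theorem Good.of_complement {X : Subgroup M} (M' : Subgroup Γ)
    (hcov : ∀ v, π v ∈ X → ∃ x ∈ M', π x = π v)
    (hnorm : ∀ h, π h ∈ H → ∀ x ∈ M', h * x * h⁻¹ ∈ M')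
    (hinj : ∀ x ∈ M', π x = 1 → x = 1) (hle : M' ≤ lift π H X) (hrange : X ≤ π.range) : Good π H X := by
  have heq : lift π H X ≤ M' := by
    refine Subgroup.commutator_le.2 fun h hh v hv => ?_
    obtain ⟨x, hx, e⟩ := hcov v hv
    have hz : π (x⁻¹ * v) = 1 := by rw [map_mul, map_inv, e, inv_mul_cancel]
    have : ⁅h, v⁆ = ⁅h, x⁆ := by
      have hv' : v = x * (x⁻¹ * v) := by group
      rw [hv', commutatorElement_def, commutatorElement_def]
      calc h * (x * (x⁻¹ * v)) * h⁻¹ * (x * (x⁻¹ * v))⁻¹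
          = h * x * ((x⁻¹ * v) * h⁻¹) * (x⁻¹ * v)⁻¹ * x⁻¹ := by group
        _ = h * x * (h⁻¹ * (x⁻¹ * v)) * (x⁻¹ * v)⁻¹ * x⁻¹ := by rw [central hker hz h⁻¹]
        _ = h * x * h⁻¹ * x⁻¹ := by group
    rw [this, commutatorElement_def]
    exact mul_mem (hnorm h hh x hx) (inv_mem hx)
  refine ⟨fun x hx => hinj x (heq hx), fun y hy => ?_⟩
  obtain ⟨v, rfl⟩ := hrange hy
  obtain ⟨x, hx, e⟩ := hcov v hy
  exact ⟨x, hle hx, e⟩

theorem Good.bot : Good π H (⊥ : Subgroup M) := by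
  refine Good.of_complement hker ⊥ (fun v hv => ⟨1, one_mem _, ?_⟩) (fun h _ x hx => ?_)
    (fun x hx _ => Subgroup.mem_bot.1 hx) bot_le bot_le
  · rw [map_one, Subgroup.mem_bot.1 hv]
  · rw [Subgroup.mem_bot.1 hx]; simp

end Central

theorem fpf_inj {X : Subgroup M} {h : M} (hn : ∀ x ∈ X, h * x * h⁻¹ ∈ X)
    (hfix : ∀ x ∈ X, h * x * h⁻¹ = x → x = 1) {x y : M} (hx : x ∈ X) (hy : y ∈ X)
    (e : ⁅h, x⁆ = ⁅h, y⁆) : x = y := by
  simp only [commutatorElement_def] at e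
  refine (inv_mul_eq_one.1 (hfix _ (mul_mem (inv_mem hy) hx) ?_)).symm
  calc h * (y⁻¹ * x) * h⁻¹ = (h * y * h⁻¹)⁻¹ * (h * x * h⁻¹ * x⁻¹) * x := by group
    _ = (h * y * h⁻¹)⁻¹ * (h * y * h⁻¹ * y⁻¹) * x := by rw [e]
    _ = y⁻¹ * x := by group

theorem fpf_surj {X : Subgroup M} [Finite X] {h : M} (hn : ∀ x ∈ X, h * x * h⁻¹ ∈ X)
    (hfix : ∀ x ∈ X, h * x * h⁻¹ = x → x = 1) {y : M} (hy : y ∈ X) : ∃ x ∈ X, ⁅h, x⁆ = y := by
  let f : X → X := fun x => ⟨⁅h, (x : M)⁆, by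
    rw [commutatorElement_def]; exact mul_mem (hn _ x.2) (inv_mem x.2)⟩
  have hf : Function.Injective f := fun x y e =>
    Subtype.ext (fpf_inj hn hfix x.2 y.2 (congrArg Subtype.val e))
  obtain ⟨x, hx⟩ := (Finite.injective_iff_bijective.1 hf).2 ⟨y, hy⟩
  exact ⟨x, x.2, congrArg Subtype.val hx⟩

section Central

variable (hker : π.ker ≤ Subgroup.center Γ)
include hker

/-- A two step criterion: `C` is good, its lift is central in `π⁻¹X` and contains its commutators. -/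
theorem Good.of_quot {X C : Subgroup M} [Finite X] (hCX : C ≤ X) (hC : Good π H C)
    (hnX : ∀ h ∈ H, ∀ x ∈ X, h * x * h⁻¹ ∈ X) (hnC : ∀ h ∈ H, ∀ x ∈ C, h * x * h⁻¹ ∈ C)
    (hcc : ∀ c ∈ lift π H C, ∀ v, π v ∈ X → c * v = v * c)
    (hcm : ∀ v w, π v ∈ X → π w ∈ X → ⁅v, w⁆ ∈ lift π H C)
    (hab : ∀ a b, π a ∈ H → π b ∈ H → a * b = b * a) (hrange : X ≤ π.range)
    {h : Γ} (hh : π h ∈ H) (hfix : ∀ x ∈ X, π h * x * (π h)⁻¹ = x → x = 1) : Good π H X := by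
  haveI : Finite C := Finite.of_injective (Subgroup.inclusion hCX) (Subgroup.inclusion_injective hCX)
  set L := lift π H C with hL
  have hX : ∀ {v}, π v ∈ X → π ⁅h, v⁆ ∈ X := fun {v} hv => by
    rw [map_commutatorElement, commutatorElement_def]; exact mul_mem (hnX _ hh _ hv) (inv_mem hv)
  have hadd : ∀ v w, π v ∈ X → π w ∈ X → ∃ c ∈ L, ⁅h, v * w⁆ = c * (⁅h, v⁆ * ⁅h, w⁆) := by
    intro v w hv hw
    refine ⟨⁅v, ⁅h, w⁆⁆, hcm _ _ hv (hX hw), ?_⟩
    have h1 := hcm v _ hv (hX hw)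
    have h2 : ⁅h, v⁆ * ⁅v, ⁅h, w⁆⁆ = ⁅v, ⁅h, w⁆⁆ * ⁅h, v⁆ := (hcc _ h1 _ (hX hv)).symm
    rw [← mul_assoc, ← h2]
    simp only [commutatorElement_def]; group
  let M' : Subgroup Γ :=
    { carrier := {g | ∃ c ∈ L, ∃ v, π v ∈ X ∧ g = c * ⁅h, v⁆}
      one_mem' := ⟨1, one_mem _, 1, by simp [one_mem]⟩
      mul_mem' := by
        rintro _ _ ⟨c, hc, v, hv, rfl⟩ ⟨c', hc', w, hw, rfl⟩
        obtain ⟨d, hd, e⟩ := hadd v w hv hw
        refine ⟨c * c' * d⁻¹, mul_mem (mul_mem hc hc') (inv_mem hd), v * w,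
          by rw [map_mul]; exact mul_mem hv hw, ?_⟩
        calc c * ⁅h, v⁆ * (c' * ⁅h, w⁆) = c * (⁅h, v⁆ * c') * ⁅h, w⁆ := by group
          _ = c * (c' * ⁅h, v⁆) * ⁅h, w⁆ := by rw [hcc c' hc' _ (hX hv)]
          _ = c * c' * d⁻¹ * (d * (⁅h, v⁆ * ⁅h, w⁆)) := by group
          _ = _ := by rw [← e]
      inv_mem' := by
        rintro _ ⟨c, hc, v, hv, rfl⟩
        obtain ⟨d, hd, e⟩ := hadd v v⁻¹ hv (by rw [map_inv]; exact inv_mem hv)
        rw [mul_inv_cancel, commutatorElement_one_right] at e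
        refine ⟨c⁻¹ * d, mul_mem (inv_mem hc) hd, v⁻¹, by rw [map_inv]; exact inv_mem hv, ?_⟩
        have h2 : (⁅h, v⁆)⁻¹ = d * ⁅h, v⁻¹⁆ := by
          rw [inv_eq_iff_mul_eq_one, ← mul_assoc, ← hcc d hd _ (hX hv), mul_assoc, ← e]
        calc (c * ⁅h, v⁆)⁻¹ = (⁅h, v⁆)⁻¹ * c⁻¹ := mul_inv_rev _ _
          _ = c⁻¹ * (⁅h, v⁆)⁻¹ := by
            rw [hcc c⁻¹ (inv_mem hc) _ (by rw [map_inv]; exact inv_mem (hX hv))]
          _ = _ := by rw [h2, mul_assoc] }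
  have hmem : ∀ v, π v ∈ X → ⁅h, v⁆ ∈ M' := fun v hv => ⟨1, one_mem _, v, hv, (one_mul _).symm⟩
  refine Good.of_complement hker M' (fun v hv => ?_) (fun k hk x hx => ?_) (fun x hx h1 => ?_)
    (fun x hx => ?_) hrange
  · obtain ⟨x, hx, e⟩ := fpf_surj (hnX _ hh) hfix hv
    obtain ⟨w, rfl⟩ := hrange hx
    exact ⟨_, hmem w hx, by rw [map_commutatorElement, e]⟩
  · obtain ⟨c, hc, v, hv, rfl⟩ := hx
    refine ⟨k * c * k⁻¹, lift_conj (fun a ha => mul_mem (mul_mem hk ha) (inv_mem hk))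
      (fun a ha => hnC _ hk a ha) hc, k * v * k⁻¹,
      by rw [map_mul, map_mul, map_inv]; exact hnX _ hk _ hv, ?_⟩
    rw [show k * (c * ⁅h, v⁆) * k⁻¹ = k * c * k⁻¹ * (k * ⁅h, v⁆ * k⁻¹) by group,
      show k * ⁅h, v⁆ * k⁻¹ = ⁅k * h * k⁻¹, k * v * k⁻¹⁆ by simp only [commutatorElement_def]; group,
      hab k h hk hh, mul_inv_cancel_right]
  · obtain ⟨c, hc, v, hv, rfl⟩ := hx
    have hcC := map_mem_of_lift hnC hc
    have hvC : ⁅π h, π v⁆ ∈ C := by
      rw [← map_commutatorElement]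
      rw [map_mul] at h1
      exact eq_inv_of_mul_eq_one_right h1 ▸ inv_mem hcC
    obtain ⟨d, hd, e⟩ := fpf_surj (hnC _ hh) (fun x hx => hfix x (hCX hx)) hvC
    have := fpf_inj (hnX _ hh) hfix (hCX hd) hv e
    exact hC.inj _ (mul_mem hc (comm_mem_lift hh (this ▸ hd))) h1
  · obtain ⟨c, hc, v, hv, rfl⟩ := hx
    exact mul_mem (lift_mono hCX hc) (comm_mem_lift hh hv)

/-- Transport of goodness. -/
theorem Good.conj {X Y : Subgroup M} (g : Γ) (hH : ∀ h ∈ H, π g * h * (π g)⁻¹ ∈ H)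
    (hH' : ∀ h ∈ H, (π g)⁻¹ * h * π g ∈ H) (h1 : ∀ x ∈ X, π g * x * (π g)⁻¹ ∈ Y)
    (h2 : ∀ y ∈ Y, (π g)⁻¹ * y * π g ∈ X) (hX : Good π H X) : Good π H Y := by
  have hinv : ∀ {z : Γ}, z ∈ lift π H Y → g⁻¹ * z * g ∈ lift π H X := fun {z} hz => by
    simpa using lift_conj (g := g⁻¹) (by simpa using hH') (by simpa using h2) hz
  refine ⟨fun x hx hx1 => ?_, fun y hy => ?_⟩
  · have := hX.inj _ (hinv hx) (by simp [hx1])
    calc x = g * (g⁻¹ * x * g) * g⁻¹ := by group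
      _ = 1 := by rw [this]; group
  · obtain ⟨x, hx, e⟩ := hX.surj _ (h2 y hy)
    exact ⟨g * x * g⁻¹, lift_conj hH h1 hx, by rw [map_mul, map_mul, map_inv, e]; group⟩

/-- Elements of a good lift are commutators with a fixed-point-free element. -/
theorem Good.exists_comm {X : Subgroup M} [Finite X] (hX : Good π H X)
    (hnX : ∀ h ∈ H, ∀ x ∈ X, h * x * h⁻¹ ∈ X) (hrange : X ≤ π.range) {h : Γ} (hh : π h ∈ H)
    (hfix : ∀ x ∈ X, π h * x * (π h)⁻¹ = x → x = 1) {x : Γ} (hx : x ∈ lift π H X) :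
    ∃ v, π v ∈ X ∧ x = ⁅h, v⁆ := by
  obtain ⟨y, hy, e⟩ := fpf_surj (hnX _ hh) hfix (map_mem_of_lift hnX hx)
  obtain ⟨v, rfl⟩ := hrange hy
  refine ⟨v, hy, ?_⟩
  have := hX.inj _ (mul_mem (inv_mem (comm_mem_lift hh hy)) hx)
    (by rw [map_mul, map_inv, map_commutatorElement, e, inv_mul_cancel])
  exact (inv_mul_eq_one.1 this).symm

/-- A good lift is generated by any lifts covering it. -/
theorem Good.le_of_cover {Y : Subgroup M} (hY : Good π H Y) (hnY : ∀ h ∈ H, ∀ x ∈ Y, h * x * h⁻¹ ∈ Y)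
    {K : Subgroup Γ} (hK : K ≤ lift π H Y) (hcov : Y ≤ K.map π) : lift π H Y ≤ K := by
  intro x hx
  obtain ⟨k, hk, e⟩ := hcov (map_mem_of_lift hnY hx)
  have := hY.inj _ (mul_mem (inv_mem (hK hk)) hx) (by rw [map_mul, map_inv, e, inv_mul_cancel])
  exact inv_mul_eq_one.1 this ▸ hk

/-- Products. -/
theorem Good.prod {X Y W : Subgroup M} (hX : Good π H X) (hY : Good π H Y)
    (hnX : ∀ h ∈ H, ∀ x ∈ X, h * x * h⁻¹ ∈ X) (hnY : ∀ h ∈ H, ∀ x ∈ Y, h * x * h⁻¹ ∈ Y)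
    (hXW : X ≤ W) (hYW : Y ≤ W) (hsplit : ∀ w ∈ W, ∃ x ∈ X, ∃ y ∈ Y, w = x * y)
    (hdisj : ∀ x ∈ X, x ∈ Y → x = 1) (hrange : W ≤ π.range)
    (hnorm : ∀ a ∈ lift π H X, ∀ b ∈ lift π H Y, a * b * a⁻¹ ∈ lift π H Y) : Good π H W := by
  let M' : Subgroup Γ :=
    { carrier := {g | ∃ a ∈ lift π H X, ∃ b ∈ lift π H Y, g = a * b}
      one_mem' := ⟨1, one_mem _, 1, one_mem _, (one_mul _).symm⟩
      mul_mem' := by
        rintro _ _ ⟨a, ha, b, hb, rfl⟩ ⟨a', ha', b', hb', rfl⟩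
        refine ⟨a * a', mul_mem ha ha', a'⁻¹ * b * a' * b', mul_mem ?_ hb', by group⟩
        simpa using hnorm a'⁻¹ (inv_mem ha') b hb
      inv_mem' := by
        rintro _ ⟨a, ha, b, hb, rfl⟩
        exact ⟨a⁻¹, inv_mem ha, a * b⁻¹ * a⁻¹, hnorm a ha _ (inv_mem hb), by group⟩ }
  refine Good.of_complement hker M' (fun v hv => ?_) (fun h hh x hx => ?_) (fun x hx h1 => ?_)
    (fun x hx => ?_) hrange
  · obtain ⟨x, hx, y, hy, e⟩ := hsplit _ hv
    obtain ⟨a, ha, rfl⟩ := hX.surj x hx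
    obtain ⟨b, hb, rfl⟩ := hY.surj y hy
    exact ⟨a * b, ⟨a, ha, b, hb, rfl⟩, by rw [map_mul, e]⟩
  · obtain ⟨a, ha, b, hb, rfl⟩ := hx
    have hH : ∀ k ∈ H, π h * k * (π h)⁻¹ ∈ H := fun k hk => mul_mem (mul_mem hh hk) (inv_mem hh)
    exact ⟨_, lift_conj hH (hnX _ hh) ha, _, lift_conj hH (hnY _ hh) hb, by group⟩
  · obtain ⟨a, ha, b, hb, rfl⟩ := hx
    have hab : π a = (π b)⁻¹ := by rw [map_mul] at h1; exact eq_inv_of_mul_eq_one_left h1
    have ha1 : π a = 1 := hdisj _ (map_mem_of_lift hnX ha) (hab ▸ inv_mem (map_mem_of_lift hnY hb))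
    have hb1 : π b = 1 := by rw [map_mul, ha1, one_mul] at h1; exact h1
    rw [hX.inj _ ha ha1, hY.inj _ hb hb1, one_mul]
  · obtain ⟨a, ha, b, hb, rfl⟩ := hx
    exact mul_mem (lift_mono hXW ha) (lift_mono hYW hb)

end Central

/-! ### Root group data -/

variable {Φ I : Type*} (R : RootData M Φ I) (π)

/-- A complement of the kernel over the torus, normalised by the lift of N. -/
structure TorusLift where
  /-- the subgroup -/
  T : Subgroup Γ
  mem_H : ∀ t ∈ T, π t ∈ R.H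
  inj : ∀ t ∈ T, π t = 1 → t = 1
  surj : ∀ h ∈ R.H, ∃ t ∈ T, π t = h
  conj : ∀ g, π g ∈ R.N → ∀ t ∈ T, g * t * g⁻¹ ∈ T

variable {π R}

/-- Rank one data in the extension. -/
structure RankOneLift (Tl : TorusLift π R) (i : I) where
  /-- the lift of n -/
  n : Γ
  map_n : π n = R.n i
  sq : n * n ∈ Tl.T
  mem : n ∈ lift π R.H (R.U (R.simple i)) ⊔ lift π R.H (R.U (R.neg (R.simple i))) ⊔ Tl.T
  rank_one : ∀ y ∈ lift π R.H (R.U (R.neg (R.simple i))), y ≠ 1 →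
    ∃ a ∈ lift π R.H (R.U (R.simple i)), ∃ h ∈ Tl.T, ∃ c ∈ lift π R.H (R.U (R.simple i)), y = a * h * n * c

section Lifting

variable (hker : π.ker ≤ Subgroup.center Γ) (hU : ∀ r, Good π R.H (R.U r)) (hUp : Good π R.H R.Upos)
  (Tl : TorusLift π R) (Nl : ∀ i, RankOneLift Tl i)

theorem H_conj_mem {g : Γ} (hg : π g ∈ R.N) : ∀ h ∈ R.H, π g * h * (π g)⁻¹ ∈ R.H :=
  fun _ hh => R.conj_H_mem hg hh

theorem map_span_pos {A : Set Φ} {x : Γ} (hA : ∀ r ∈ A, R.pos r)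
    (hx : x ∈ ⨆ s ∈ A, lift π R.H (R.U s)) : π x ∈ R.span A ∧ x ∈ lift π R.H R.Upos := by
  have hle : (⨆ s ∈ A, lift π R.H (R.U s)) ≤ (R.span A).comap π ⊓ lift π R.H R.Upos :=
    iSup₂_le fun r hr => le_inf (fun y hy => (R.U_le_span hr) (map_mem_of_lift (fun h hh => R.H_conj_U h hh r) hy))
      (lift_mono (R.U_le_Upos (hA r hr)))
  exact hle hx

include hUp in
theorem B_inj {x : Γ} (hx : x ∈ (⨆ s ∈ {s : Φ | R.pos s}, lift π R.H (R.U s)) ⊔ Tl.T) (h1 : π x = 1) :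
    x = 1 := by
  set A := ⨆ s ∈ {s : Φ | R.pos s}, lift π R.H (R.U s) with hA
  have hN : Tl.T ≤ Subgroup.normalizer (A : Set Γ) := by
    intro t ht
    have hc : ∀ {t : Γ}, t ∈ Tl.T → ∀ y ∈ A, t * y * t⁻¹ ∈ A := by
      intro t ht y hy
      have hle : A ≤ A.comap (MulAut.conj t).toMonoidHom := iSup₂_le fun r hr z hz =>
        Subgroup.mem_comap.2 (le_biSup (fun s => lift π R.H (R.U s)) hr
          (lift_conj (fun k hk => mul_mem (mul_mem (Tl.mem_H t ht) hk) (inv_mem (Tl.mem_H t ht)))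
            (fun z hz => R.H_conj_U _ (Tl.mem_H t ht) r z hz) hz))
      exact hle hy
    refine Subgroup.mem_normalizer_iff.2 fun y => ⟨hc ht y, fun hy => ?_⟩
    simpa [mul_assoc] using hc (inv_mem ht) _ hy
  obtain ⟨u, hu, t, ht, rfl⟩ : ∃ u ∈ A, ∃ t ∈ Tl.T, x = u * t := by
    rw [← SetLike.mem_coe, Subgroup.coe_mul_of_right_le_normalizer_left A Tl.T hN] at hx
    obtain ⟨u, hu, t, ht, e⟩ := Set.mem_mul.1 hx
    exact ⟨u, hu, t, ht, e.symm⟩
  rw [map_mul] at h1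
  obtain ⟨hu1, hu2⟩ := map_span_pos (fun _ hr => hr) hu
  have hu0 : π u = 1 := by
    rw [← Subgroup.mem_bot, ← R.U_inf_H]
    exact ⟨hu1, by rw [eq_inv_of_mul_eq_one_left h1]; exact (inv_mem (Tl.mem_H t ht) : (π t)⁻¹ ∈ R.H)⟩
  rw [hu0, one_mul] at h1
  rw [hUp.inj u hu2 hu0, Tl.inj t ht h1, one_mul]

include hker hU hUp Nl in
/-- The lifted root group data. -/
@[reducible] def liftData : RootData Γ Φ I where
  U r := lift π R.H (R.U r)
  H := Tl.T
  n i := (Nl i).n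
  simple := R.simple
  pos := R.pos
  neg := R.neg
  w := R.w
  neg_neg := R.neg_neg
  pos_neg := R.pos_neg
  pos_simple := R.pos_simple
  simple_inj := R.simple_inj
  w_simple := R.w_simple
  w_pos := R.w_pos
  w_neg := R.w_neg
  w_w := R.w_w
  H_conj_U h hh r x hx :=
    lift_conj (fun k hk => mul_mem (mul_mem (Tl.mem_H h hh) hk) (inv_mem (Tl.mem_H h hh)))
      (R.H_conj_U _ (Tl.mem_H h hh) r) hx
  n_conj_U i r x hx :=
    lift_conj (H_conj_mem (by rw [(Nl i).map_n]; exact R.n_mem_N i))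
      (fun z hz => by rw [(Nl i).map_n]; exact R.n_conj_U i r z hz) hx
  n_conj_H i h hh := Tl.conj _ (by rw [(Nl i).map_n]; exact R.n_mem_N i) h hh
  n_sq i := (Nl i).sq
  n_mem i := (Nl i).mem
  U_conj i x hx r hr hne y hy := by
    have hxs := map_mem_of_lift (fun h hh => R.H_conj_U h hh (R.simple i)) hx
    have hys := map_mem_of_lift (fun h hh => R.H_conj_U h hh r) hy
    have hmem := R.U_conj i _ hxs r hr hne _ hys
    have hle : (⨆ s ∈ {s : Φ | R.pos s ∧ s ≠ R.simple i}, R.U s) ≤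
        (⨆ s ∈ {s : Φ | R.pos s ∧ s ≠ R.simple i}, lift π R.H (R.U s)).map π :=
      iSup₂_le fun s hs z hz => by
        obtain ⟨w, hw, e⟩ := (hU s).surj z hz
        exact ⟨w, le_biSup (fun s => lift π R.H (R.U s)) hs hw, e⟩
    obtain ⟨w, hw, e⟩ := hle hmem
    have hz : x * y * x⁻¹ ∈ lift π R.H R.Upos :=
      mul_mem (mul_mem (lift_mono (R.U_le_Upos (R.pos_simple i)) hx) (lift_mono (R.U_le_Upos hr) hy))
        (inv_mem (lift_mono (R.U_le_Upos (R.pos_simple i)) hx))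
    have := hUp.inj _ (mul_mem (inv_mem (map_span_pos (fun _ h => h.1) hw).2) hz)
      (by rw [map_mul, map_inv, e, map_mul, map_mul, map_inv, inv_mul_cancel])
    exact inv_mul_eq_one.1 this ▸ hw
  rank_one i y hy hne := (Nl i).rank_one y hy hne
  U_ne_bot r h := by
    refine R.U_ne_bot r ((Subgroup.eq_bot_iff_forall _).2 fun y hy => ?_)
    obtain ⟨x, hx, e⟩ := (hU r).surj y hy
    have hx' : x ∈ lift π R.H (R.U r) := hx
    rw [show lift π R.H (R.U r) = ⊥ from h, Subgroup.mem_bot] at hx'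
    rw [← e, hx', map_one]
  B_inf_V := by
    refine (Subgroup.eq_bot_iff_forall _).2 fun x hx => B_inj hUp Tl hx.1 ?_
    rw [← Subgroup.mem_bot, ← R.B_inf_V]
    have hB : (⨆ s ∈ {s : Φ | R.pos s}, lift π R.H (R.U s)) ⊔ Tl.T ≤
        ((⨆ s ∈ {s : Φ | R.pos s}, R.U s) ⊔ R.H).comap π :=
      sup_le (iSup₂_le fun r hr z hz => Subgroup.mem_sup_left
        (le_biSup R.U hr (map_mem_of_lift (fun h hh => R.H_conj_U h hh r) hz)))
        (fun t ht => Subgroup.mem_sup_right (Tl.mem_H t ht))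
    have hV : (⨆ s ∈ {s : Φ | ¬ R.pos s}, lift π R.H (R.U s)) ≤ (⨆ s ∈ {s : Φ | ¬ R.pos s}, R.U s).comap π :=
      iSup₂_le fun r hr z hz => (le_biSup R.U hr) (map_mem_of_lift (fun h hh => R.H_conj_U h hh r) hz)
    exact ⟨hB hx.1, hV hx.2⟩
  U_inf_H := by
    refine (Subgroup.eq_bot_iff_forall _).2 fun x hx => Tl.inj x hx.2 ?_
    rw [← Subgroup.mem_bot, ← R.U_inf_H]
    exact ⟨(map_span_pos (fun _ h => h) hx.1).1, Tl.mem_H x hx.2⟩

include hker hU hUp Tl Nl in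
/-- A stem extension of `R.G` with lifted root group data has trivial kernel. -/
theorem ker_eq_bot (hstem : π.ker ≤ commutator Γ) (hrange : π.range ≤ R.G) : π.ker = ⊥ := by
  set R' := liftData hU hUp Tl Nl
  have hsur : R.G ≤ R'.G.map π := by
    refine sup_le (sup_le (R.span_le fun r hr y hy => ?_) fun h hh => ?_)
      (sup_le (fun h hh => ?_) ((Subgroup.closure_le _).2 ?_))
    · obtain ⟨x, hx, e⟩ := (hU r).surj y hy
      exact ⟨x, R'.B_le_G (R'.Upos_le_B (R'.U_le_Upos (r := r) hr hx)), e⟩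
    · obtain ⟨t, ht, e⟩ := Tl.surj h hh
      exact ⟨t, R'.B_le_G (R'.H_le_B ht), e⟩
    · obtain ⟨t, ht, e⟩ := Tl.surj h hh
      exact ⟨t, R'.B_le_G (R'.H_le_B ht), e⟩
    · rintro _ ⟨i, rfl⟩
      exact ⟨R'.n i, R'.N_le_G (R'.n_mem_N i), (Nl i).map_n⟩
  have hnw : ∀ l, π (R'.nw l) = R.nw l := by
    intro l
    induction l with
    | nil => simp
    | cons i l ih => rw [RootData.nw_cons, RootData.nw_cons, map_mul, ih, (Nl i).map_n]
  have hww : ∀ l r, R'.ww l r = R.ww l r := fun _ _ => rfl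
  have hinj : ∀ x ∈ R'.G, π x = 1 → x = 1 := by
    intro x hx h1
    obtain ⟨b, hb, l, b', hb', rfl⟩ := Cfsg.Agent.Twisted.exists_bruhat hx
    have hBm : ∀ c ∈ R'.B, π c ∈ R.B := by
      have : R'.B ≤ R.B.comap π := sup_le (R'.span_le fun r hr z hz =>
        R.Upos_le_B (R.U_le_Upos hr (map_mem_of_lift (fun h hh => R.H_conj_U h hh r) hz)))
        (fun t ht => R.H_le_B (Tl.mem_H t ht))
      exact fun c hc => this hc
    have hl : R.nw l ∈ R.B := by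
      rw [map_mul, map_mul, hnw] at h1
      rw [show R.nw l = (π b)⁻¹ * (π b * R.nw l * π b') * (π b')⁻¹ by group, h1, mul_one]
      exact mul_mem (inv_mem (hBm b hb)) (inv_mem (hBm b' hb'))
    have hl' : R'.nw l ∈ R'.H := by
      rw [R'.mem_H_iff]
      exact fun r hr => (R.mem_H_iff l).1 ((R.nw_mem_B_iff l).1 hl) r hr
    exact B_inj hUp Tl (mul_mem (mul_mem hb (R'.H_le_B hl')) hb') h1
  have hcov : ∀ g : Γ, ∃ x ∈ R'.G, π (x⁻¹ * g) = 1 := fun g => by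
    obtain ⟨x, hx, e⟩ := hsur (hrange ⟨g, rfl⟩)
    exact ⟨x, hx, by rw [map_mul, map_inv, e, inv_mul_cancel]⟩
  have hcomm : commutator Γ ≤ R'.G := by
    rw [commutator_def, Subgroup.commutator_le]
    intro a _ b _
    obtain ⟨x, hx, hxa⟩ := hcov a
    obtain ⟨y, hy, hyb⟩ := hcov b
    have e : ⁅a, b⁆ = ⁅x, y⁆ := by
      have ha : a = x * (x⁻¹ * a) := by group
      have hb : b = y * (y⁻¹ * b) := by group
      rw [ha, hb]
      exact Cfsg.Agent.CentralExt.commutatorElement_mul_center (hker hxa) (hker hyb) x y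
    rw [e, commutatorElement_def]
    exact mul_mem (mul_mem (mul_mem hx hy) (inv_mem hx)) (inv_mem hy)
  exact (Subgroup.eq_bot_iff_forall _).2 fun z hz => hinj z (hcomm (hstem hz)) hz

include hker in
/-- Rank one data from a subgroup meeting the kernel trivially. -/
theorem RankOneLift.of_inj (hU : ∀ r, Good π R.H (R.U r)) (i : I)
    (hL : ∀ x ∈ lift π R.H (R.U (R.simple i)) ⊔ lift π R.H (R.U (R.neg (R.simple i))) ⊔ Tl.T,
      π x = 1 → x = 1) : Nonempty (RankOneLift Tl i) := by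
  set L := lift π R.H (R.U (R.simple i)) ⊔ lift π R.H (R.U (R.neg (R.simple i))) ⊔ Tl.T
  have hsur : R.U (R.simple i) ⊔ R.U (R.neg (R.simple i)) ⊔ R.H ≤ L.map π := by
    refine sup_le (sup_le (fun y hy => ?_) (fun y hy => ?_)) (fun y hy => ?_)
    · obtain ⟨x, hx, e⟩ := (hU _).surj y hy
      exact ⟨x, Subgroup.mem_sup_left (Subgroup.mem_sup_left hx), e⟩
    · obtain ⟨x, hx, e⟩ := (hU _).surj y hy
      exact ⟨x, Subgroup.mem_sup_left (Subgroup.mem_sup_right hx), e⟩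
    · obtain ⟨x, hx, e⟩ := Tl.surj y hy
      exact ⟨x, Subgroup.mem_sup_right hx, e⟩
  obtain ⟨n, hn, en⟩ := hsur (R.n_mem i)
  have heq : ∀ {x y}, x ∈ L → y ∈ L → π x = π y → x = y := fun {x y} hx hy e =>
    (inv_mul_eq_one.1 (hL _ (mul_mem (inv_mem hy) hx) (by rw [map_mul, map_inv, e, inv_mul_cancel]))).symm
  refine ⟨⟨n, en, ?_, hn, fun y hy hne => ?_⟩⟩
  · obtain ⟨t, ht, et⟩ := Tl.surj _ (R.n_sq i)
    rwa [heq (mul_mem hn hn) (Subgroup.mem_sup_right ht) (by rw [map_mul, en, et])]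
  · have hy0 : π y ≠ 1 := fun e => hne ((hU _).inj y hy e)
    obtain ⟨a, ha, h, hh, c, hc, e⟩ :=
      R.rank_one i _ (map_mem_of_lift (fun h hh => R.H_conj_U h hh _) hy) hy0
    obtain ⟨a', ha', rfl⟩ := (hU _).surj a ha
    obtain ⟨h', hh', rfl⟩ := Tl.surj h hh
    obtain ⟨c', hc', rfl⟩ := (hU _).surj c hc
    refine ⟨a', ha', h', hh', c', hc', heq (Subgroup.mem_sup_left (Subgroup.mem_sup_right hy)) ?_ ?_⟩
    · exact mul_mem (mul_mem (mul_mem (Subgroup.mem_sup_left (Subgroup.mem_sup_left ha'))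
        (Subgroup.mem_sup_right hh')) hn) (Subgroup.mem_sup_left (Subgroup.mem_sup_left hc'))
    · rw [e, map_mul, map_mul, map_mul, en]

include hker in
/-- Rank one data when the torus is transitive on a root group with an involution. -/
theorem RankOneLift.of_orbit (hU : ∀ r, Good π R.H (R.U r)) (i : I) {y0 : M}
    (hy0 : y0 ∈ R.U (R.neg (R.simple i))) (hne0 : y0 ≠ 1) (hsq : y0 * y0 = 1)
    (horb : ∀ y ∈ R.U (R.neg (R.simple i)), y ≠ 1 → ∃ h ∈ R.H, y = h * y0 * h⁻¹) :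
    Nonempty (RankOneLift Tl i) := by
  obtain ⟨a, ha, h, hh, c, hc, e⟩ := R.rank_one i y0 hy0 hne0
  -- c is the inverse of a
  have hca : c * a = 1 := by
    set n := R.n i
    have e1 : n * (c * a) * n⁻¹ = h⁻¹ * a⁻¹ * c⁻¹ * (n * h * n)⁻¹ := by
      have h2 : a * h * n * c * (a * h * n * c) = 1 := e ▸ hsq
      calc n * (c * a) * n⁻¹ = h⁻¹ * a⁻¹ * (a * h * n * c * (a * h * n * c)) * c⁻¹ * (n * h * n)⁻¹ := by group
        _ = _ := by rw [h2]; group
    have hB : n * (c * a) * n⁻¹ ∈ R.B := by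
      rw [e1]
      have hnhn : n * h * n ∈ R.H := by
        rw [show n * h * n = n * h * n⁻¹ * (n * n) by group]
        exact mul_mem (R.n_conj_H i h hh) (R.n_sq i)
      refine mul_mem (mul_mem (mul_mem ?_ ?_) ?_) (inv_mem (R.H_le_B hnhn))
      · exact inv_mem (R.H_le_B hh)
      · exact inv_mem (R.Upos_le_B (R.U_le_Upos (R.pos_simple i) ha))
      · exact inv_mem (R.Upos_le_B (R.U_le_Upos (R.pos_simple i) hc))
    have hV : n * (c * a) * n⁻¹ ∈ R.Vneg := by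
      refine R.U_le_Vneg ?_ (R.n_conj_U i _ _ (mul_mem hc ha))
      rw [R.w_simple, R.pos_neg, not_not]
      exact R.pos_simple i
    have h0 : n * (c * a) * n⁻¹ = 1 := Subgroup.mem_bot.1 (R.B_inf_V ▸ Subgroup.mem_inf.2 ⟨hB, hV⟩)
    calc c * a = n⁻¹ * (n * (c * a) * n⁻¹) * n := by group
      _ = 1 := by rw [h0]; group
  obtain ⟨a', ha', ea⟩ := (hU _).surj a ha
  obtain ⟨h', hh', eh⟩ := Tl.surj h hh
  obtain ⟨c', hc', ec⟩ := (hU _).surj c hc
  obtain ⟨y', hy', ey⟩ := (hU _).surj y0 hy0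
  have hca' : c' * a' = 1 := (hU _).inj _ (mul_mem hc' ha') (by rw [map_mul, ea, ec, hca])
  have hy2 : y' * y' = 1 := (hU _).inj _ (mul_mem hy' hy') (by rw [map_mul, ey, hsq])
  have en : π (h'⁻¹ * a'⁻¹ * y' * c'⁻¹) = R.n i := by
    rw [map_mul, map_mul, map_mul, map_inv, map_inv, map_inv, ea, eh, ec, ey, e]; group
  set n := h'⁻¹ * a'⁻¹ * y' * c'⁻¹ with hn
  have hye : y' = a' * h' * n * c' := by rw [hn]; group
  have hnN : π n ∈ R.N := en ▸ R.n_mem_N i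
  refine ⟨⟨n, en, ?_, ?_, fun y hy hne => ?_⟩⟩
  · have h2 : a' * h' * n * c' * (a' * h' * n * c') = 1 := hye ▸ hy2
    have h3 : n * n = (n * h' * n⁻¹)⁻¹ * h'⁻¹ := by
      calc n * n = (n * h' * n⁻¹)⁻¹ * (n * h' * n) := by group
        _ = (n * h' * n⁻¹)⁻¹ * (n * (c' * a') * h' * n) := by rw [hca', mul_one]
        _ = (n * h' * n⁻¹)⁻¹ * (h'⁻¹ * a'⁻¹ * (a' * h' * n * c' * (a' * h' * n * c')) * c'⁻¹) := by group
        _ = (n * h' * n⁻¹)⁻¹ * (h'⁻¹ * (c' * a')⁻¹) := by rw [h2]; group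
        _ = _ := by rw [hca', inv_one, mul_one]
    rw [h3]
    exact mul_mem (inv_mem (Tl.conj n hnN h' hh')) (inv_mem hh')
  · exact mul_mem (mul_mem (mul_mem (Subgroup.mem_sup_right (inv_mem hh'))
      (Subgroup.mem_sup_left (Subgroup.mem_sup_left (inv_mem ha'))))
      (Subgroup.mem_sup_left (Subgroup.mem_sup_right hy')))
      (Subgroup.mem_sup_left (Subgroup.mem_sup_left (inv_mem hc')))
  · obtain ⟨k, hk, ek⟩ := horb _ (map_mem_of_lift (fun h hh => R.H_conj_U h hh _) hy)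
      (fun e' => hne ((hU _).inj y hy e'))
    obtain ⟨k', hk', rfl⟩ := Tl.surj k hk
    have hH : ∀ q ∈ R.H, π k' * q * (π k')⁻¹ ∈ R.H := fun q hq => mul_mem (mul_mem hk hq) (inv_mem hk)
    have hyk : k' * y' * k'⁻¹ ∈ lift π R.H (R.U (R.neg (R.simple i))) :=
      lift_conj hH (R.H_conj_U _ hk _) hy'
    have hy_eq : y = k' * y' * k'⁻¹ :=
      (inv_mul_eq_one.1 ((hU _).inj _ (mul_mem (inv_mem hyk) hy)
        (by rw [map_mul, map_inv, map_mul, map_mul, map_inv, ey, ek, inv_mul_cancel]))).symm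
    refine ⟨k' * a' * k'⁻¹, lift_conj hH (R.H_conj_U _ hk _) ha',
      k' * h' * (n * k'⁻¹ * n⁻¹), mul_mem (mul_mem hk' hh') (Tl.conj n hnN _ (inv_mem hk')),
      k' * c' * k'⁻¹, lift_conj hH (R.H_conj_U _ hk _) hc', ?_⟩
    rw [hy_eq, hye]; group

end Lifting

end Cfsg.Agent.CentralLift
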