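/-
Twisted groups, part 24: lifting root groups and torus of ²F₄ to a central extension.

* `torus_comm`, `torusLift` : the torus;
* `pairing_one` : torus invariant pairings with values in the kernel are trivial;
* `good_X`, `good_segX` : the root groups and segments;
* `rankOne0` : rank one data of class 0.
-/
import Cfsg.Agent.Lib.Twisted.F4Comm
import Cfsg.Agent.Lib.Twisted.CentralLift
import Cfsg.Agent.Lib.Suzuki.Multiplier

set_option autoImplicit false
set_option maxRecDepth 10000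
set_option linter.unusedSectionVars false
set_option linter.style.haveILetI false

open scoped commutatorElement

namespace Cfsg.Agent.Twisted.F4

open Cfsg.Lie Cfsg.Lie.ChevalleyDatum Cfsg.Agent.Chev Cfsg.Agent.ChevBN
open Cfsg.Agent.CentralLift

variable {K : Type*} [Field K] [CharP K 2] [Fintype K] {m : ℕ} (hK : Fintype.card K = 2 ^ (2 * m + 1))
  (hm : 1 ≤ m) {Γ : Type*} [Group Γ] [Finite Γ] (π : Γ →* GL chevF4.Idx K)
  (hker : π.ker ≤ Subgroup.center Γ) (hrange : (rgdF4' hK (m := m)).G ≤ π.range)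

theorem xF_add {r : ℕ} (hr : r < chevF4.nroots) (t u : K) : xF K r t * xF K r u = xF K r (t + u) :=
  xg_add DataF4.good hr t u

section Basic

include hK

theorem tH_zpow (x : Kˣ × Kˣ) (n : ℤ) : tH m x ^ n = tH m (x ^ n) :=
  (map_zpow (MonoidHom.mk' (tH (K := K) m) (tH_mul hK)) x n).symm

theorem tH_one : tH (K := K) m (1 : Kˣ × Kˣ) = 1 := map_one (MonoidHom.mk' (tH (K := K) m) (tH_mul hK))

theorem H1_pow {h : GL chevF4.Idx K} (hh : h ∈ (σF K m).H1) : h ^ (Nat.card Kˣ) = 1 := by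
  obtain ⟨x, rfl⟩ := (mem_H1_iff hK).1 hh
  rw [← zpow_natCast, tH_zpow hK, zpow_natCast, show x ^ Nat.card Kˣ = 1 from
    Prod.ext pow_card_eq_one' pow_card_eq_one', tH_one hK]

theorem odd_units : Odd (Nat.card Kˣ) := by
  rw [card_units' hK]
  refine Nat.Even.sub_odd (Nat.one_le_iff_ne_zero.2 (by positivity)) ?_ odd_one
  rw [mul_assoc]; exact even_two_mul _

theorem H1_eq_one_of_sq {h : GL chevF4.Idx K} (hh : h ∈ (σF K m).H1) (h2 : h * h = 1) : h = 1 := by
  obtain ⟨k, hk⟩ := odd_units hK (K := K)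
  have := H1_pow hK hh
  rwa [hk, pow_succ, pow_mul, sq, h2, one_pow, one_mul] at this

theorem coprime_units (n : ℕ) : Nat.Coprime (2 ^ n) (Nat.card Kˣ) :=
  ((Nat.coprime_two_left).2 (odd_units hK)).pow_left n

theorem X_pow (j : Fin 16) {x : GL chevF4.Idx K} (hx : x ∈ X K m j) :
    x ^ 2 ^ ((2 * m + 1) * ((cls j.val).length / 2)) = 1 := by
  rw [pow_mul, ← card_X hK]
  have := pow_card_eq_one' (G := ↥(X K m j)) (x := ⟨x, hx⟩)
  exact congrArg Subtype.val this

theorem H1_conj_X {j : Fin 16} : ∀ h ∈ (σF K m).H1, ∀ x ∈ X K m j, h * x * h⁻¹ ∈ X K m j :=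
  fun h hh x hx => (rgdF4' hK (m := m)).H_conj_U h hh j x hx

include hrange

theorem X_le_range (j : Fin 16) : X K m j ≤ π.range := by
  refine le_trans ?_ hrange
  exact twisted_eq hK ▸ X_le_twisted hK j

theorem H1_le_range : (σF K m).H1 ≤ π.range :=
  le_trans ((rgdF4' hK (m := m)).H_le_B.trans (rgdF4' hK (m := m)).B_le_G) hrange

omit hrange in
theorem C7_conj : ∀ h ∈ (σF K m).H1, ∀ x ∈ C7 K m, h * x * h⁻¹ ∈ C7 K m := fun h hh x hx =>
  Subgroup.mem_inf.2 ⟨(RF K).H_conj_span _ hh.1 x (Subgroup.mem_inf.1 hx).1,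
    mul_mem (mul_mem hh.2 (Subgroup.mem_inf.1 hx).2) (inv_mem hh.2)⟩

include hker

theorem torus_comm (a b : Γ) (ha : π a ∈ (σF K m).H1) (hb : π b ∈ (σF K m).H1) : a * b = b * a := by
  obtain ⟨g, hg⟩ := IsCyclic.exists_generator (α := Kˣ)
  obtain ⟨A, hA⟩ := H1_le_range hK π hrange ((mem_H1_iff hK).2 ⟨((g, 1) : Kˣ × Kˣ), rfl⟩)
  obtain ⟨B, hB⟩ := H1_le_range hK π hrange ((mem_H1_iff hK).2 ⟨((1, g) : Kˣ × Kˣ), rfl⟩)
  obtain ⟨N, hN⟩ := hrange ((rgdF4' hK (m := m)).N_le_G ((rgdF4' hK (m := m)).n_mem_N 0))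
  have hz : ∀ {z : Γ}, π z = 1 → ∀ w, w * z = z * w := fun hz w => central hker hz w
  -- the commutator of the two generators
  have hc : π ⁅A, B⁆ = 1 := by
    rw [map_commutatorElement, hA, hB]
    exact commutatorElement_eq_one_iff_mul_comm.2 (H1_comm hK ((mem_H1_iff hK).2 ⟨_, rfl⟩).1
      ((mem_H1_iff hK).2 ⟨_, rfl⟩).1)
  have hNA : π (N * A * N⁻¹) = π A⁻¹ := by
    rw [map_mul, map_mul, map_inv, map_inv, hN, hA]
    show (RF K).nw (W 0) * tH m (g, 1) * ((RF K).nw (W 0))⁻¹ = _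
    rw [conj0 hK, one_mul]
    exact eq_inv_of_mul_eq_one_left (by
      rw [← tH_mul hK, Prod.mk_mul_mk, inv_mul_cancel, one_mul]; exact tH_one hK)
  have hNB : π (N * B * N⁻¹) = π (A * B) := by
    rw [map_mul, map_mul, map_inv, hN, hB, map_mul, hA, hB]
    show (RF K).nw (W 0) * tH m (1, g) * ((RF K).nw (W 0))⁻¹ = _
    rw [conj0 hK, inv_one, mul_one, ← tH_mul hK, Prod.mk_mul_mk, mul_one, one_mul]
  have hsq : ⁅A, B⁆ = ⁅A, B⁆⁻¹ := by
    have h1 : ∀ {x y x' y' : Γ}, π x = π x' → π y = π y' → ⁅x, y⁆ = ⁅x', y'⁆ := fun {x y x' y'} hx hy => by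
      rw [show x = x' * (x'⁻¹ * x) by group, show y = y' * (y'⁻¹ * y) by group]
      exact Cfsg.Agent.CentralExt.commutatorElement_mul_center
        (hker (MonoidHom.mem_ker.2 (by rw [map_mul, map_inv, hx, inv_mul_cancel])))
        (hker (MonoidHom.mem_ker.2 (by rw [map_mul, map_inv, hy, inv_mul_cancel]))) _ _
    calc ⁅A, B⁆ = N * ⁅A, B⁆ * N⁻¹ := by rw [hz hc N, mul_inv_cancel_right]
      _ = ⁅N * A * N⁻¹, N * B * N⁻¹⁆ := by simp only [commutatorElement_def]; group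
      _ = ⁅A⁻¹, A * B⁆ := h1 hNA hNB
      _ = A⁻¹ * (A * ⁅B, A⁆ * A⁻¹) * A := by simp only [commutatorElement_def]; group
      _ = (⁅A, B⁆)⁻¹ := by rw [← commutatorElement_inv A B]; group
  have hpow : ∀ n : ℕ, A * B ^ n * A⁻¹ = ⁅A, B⁆ ^ n * B ^ n := fun n => by
    rw [← conj_pow, show A * B * A⁻¹ = ⁅A, B⁆ * B by rw [commutatorElement_def]; group,
      Commute.mul_pow (hz hc B).symm]
  have hone : ⁅A, B⁆ = 1 := by
    have h2 : ⁅A, B⁆ ^ 2 = 1 := by rw [sq]; nth_rw 2 [hsq]; rw [mul_inv_cancel]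
    have hn : ⁅A, B⁆ ^ Nat.card Kˣ = 1 := by
      have h := hpow (Nat.card Kˣ)
      rw [hz (show π (B ^ Nat.card Kˣ) = 1 by rw [map_pow, hB, H1_pow hK ((mem_H1_iff hK).2 ⟨_, rfl⟩)]) A,
        mul_inv_cancel_right] at h
      exact right_eq_mul.1 h
    obtain ⟨k, hk⟩ := odd_units hK (K := K)
    rwa [hk, pow_succ, pow_mul, h2, one_pow, one_mul] at hn
  have hAB : Commute A B := commutatorElement_eq_one_iff_mul_comm.1 hone
  have hform : ∀ a, π a ∈ (σF K m).H1 → ∃ i j : ℤ, ∃ z, π z = 1 ∧ a = A ^ i * B ^ j * z := by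
    intro a ha
    obtain ⟨x, hx⟩ := (mem_H1_iff hK).1 ha
    obtain ⟨i, hi⟩ := Subgroup.mem_zpowers_iff.1 (hg x.1)
    obtain ⟨j, hj⟩ := Subgroup.mem_zpowers_iff.1 (hg x.2)
    refine ⟨i, j, (A ^ i * B ^ j)⁻¹ * a, ?_, by group⟩
    rw [map_mul, map_inv, map_mul, map_zpow, map_zpow, hA, hB, tH_zpow hK, tH_zpow hK, ← tH_mul hK, hx]
    simp [hi, hj]
  obtain ⟨i, j, z, hz1, rfl⟩ := hform a ha
  obtain ⟨i', j', z', hz2, rfl⟩ := hform b hb
  have hcz : ∀ w, Commute z w := fun w => (hz hz1 w).symm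
  have hcz' : ∀ w, Commute z' w := fun w => (hz hz2 w).symm
  exact ((((Commute.zpow_zpow_self A i i').mul_right (hAB.zpow_zpow i j')).mul_right (hcz' _).symm).mul_left
    ((((hAB.zpow_zpow i' j).symm).mul_right (Commute.zpow_zpow_self B j j')).mul_right (hcz' _).symm)).mul_left
    (hcz _)

/-- The lift of the torus. -/
theorem exists_torusLift : Nonempty (TorusLift π (rgdF4' hK (m := m))) := by
  set R := rgdF4' hK (m := m) with hR
  obtain ⟨w, hw⟩ := hrange (R.N_le_G (R.nw_mem_N w0l))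
  have hab := torus_comm hK π hker hrange
  have hwH : ∀ x, π x ∈ R.H → π ⁅w, x⁆ = (π x * π x)⁻¹ := by
    intro x hx
    rw [map_commutatorElement, commutatorElement_def, hw, inverts hK hx, mul_inv_rev]
  have hwmem : ∀ x, π x ∈ R.H → π ⁅w, x⁆ ∈ R.H := fun x hx => by
    rw [hwH x hx]; exact inv_mem (mul_mem hx hx)
  have hmul : ∀ x y, π x ∈ R.H → π y ∈ R.H → ⁅w, x * y⁆ = ⁅w, x⁆ * ⁅w, y⁆ := by
    intro x y hx hy
    calc ⁅w, x * y⁆ = ⁅w, x⁆ * (x * ⁅w, y⁆ * x⁻¹) := by simp only [commutatorElement_def]; group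
      _ = _ := by rw [hab x _ hx (hwmem y hy), mul_inv_cancel_right]
  refine ⟨{
    T := { carrier := {t | ∃ x, π x ∈ R.H ∧ t = ⁅w, x⁆}
           one_mem' := ⟨1, by simp [one_mem], by simp⟩
           mul_mem' := by
             rintro _ _ ⟨x, hx, rfl⟩ ⟨y, hy, rfl⟩
             exact ⟨x * y, by rw [map_mul]; exact mul_mem hx hy, (hmul x y hx hy).symm⟩
           inv_mem' := by
             rintro _ ⟨x, hx, rfl⟩
             refine ⟨x⁻¹, by rw [map_inv]; exact inv_mem hx, inv_eq_of_mul_eq_one_right ?_⟩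
             rw [← hmul x x⁻¹ hx (by rw [map_inv]; exact inv_mem hx), mul_inv_cancel, commutatorElement_one_right] }
    mem_H := ?_, inj := ?_, surj := ?_, conj := ?_ }⟩
  · rintro _ ⟨x, hx, rfl⟩
    exact hwmem x hx
  · rintro _ ⟨x, hx, rfl⟩ h1
    rw [hwH x hx, inv_eq_one] at h1
    exact commutatorElement_eq_one_iff_mul_comm.2 (central hker (H1_eq_one_of_sq hK hx h1) w)
  · intro h hh
    obtain ⟨k, hk⟩ := odd_units hK (K := K)
    obtain ⟨x, hx⟩ := H1_le_range hK π hrange (inv_mem (pow_mem hh (k + 1)) : (h ^ (k + 1))⁻¹ ∈ (σF K m).H1)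
    have hxH : π x ∈ R.H := hx ▸ inv_mem (pow_mem hh (k + 1))
    refine ⟨_, ⟨x, hxH, rfl⟩, ?_⟩
    rw [hwH x hxH, hx, ← mul_inv_rev, inv_inv, ← pow_add, show k + 1 + (k + 1) = 2 * k + 1 + 1 by ring,
      ← hk, pow_succ, H1_pow hK hh, one_mul]
  · rintro g hg _ ⟨x, hx, rfl⟩
    have hgx : π (g * x * g⁻¹) ∈ R.H := by
      rw [map_mul, map_mul, map_inv]; exact R.conj_H_mem hg hx
    refine ⟨g * x * g⁻¹, hgx, ?_⟩
    -- the longest element is central modulo the torus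
    have hk : π (w⁻¹ * (g * w * g⁻¹)) ∈ R.H := by
      obtain ⟨h, hh, d, e⟩ := (mem_N'_iff hK).1 hg
      have hc : nd hK (m := m) d * π w = π w * nd hK (m := m) d := by
        rw [hw, nw'_eq_nd hK, nd_mul hK, nd_mul hK]
        congr 1
        exact (by decide +kernel : ∀ d : DihedralGroup 8, d * (w0l.map gen).prod = (w0l.map gen).prod * d) d
      rw [map_mul, map_inv, map_mul, map_mul, map_inv, e,
        show h * nd hK (m := m) d * π w * (h * nd hK (m := m) d)⁻¹ =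
          h * (nd hK (m := m) d * π w * (nd hK (m := m) d)⁻¹) * h⁻¹ by group, hc, mul_inv_cancel_right,
        show (π w)⁻¹ * (h * π w * h⁻¹) = (π w)⁻¹ * h * π w * h⁻¹ by group, hw]
      exact mul_mem (R.nw_conj_H' _ hh) (inv_mem hh)
    set k := w⁻¹ * (g * w * g⁻¹) with hk'
    calc g * ⁅w, x⁆ * g⁻¹ = ⁅w * k, g * x * g⁻¹⁆ := by
          rw [hk', mul_inv_cancel_left]; simp only [commutatorElement_def]; group
      _ = ⁅w, g * x * g⁻¹⁆ := by
          rw [commutatorElement_def, commutatorElement_def, mul_assoc w k, hab k _ hk hgx]; group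

end Basic

section Good

include hK hker hrange

theorem ker_mul_comm (x y : π.ker) : x * y = y * x :=
  Subtype.ext (Subgroup.mem_center_iff.1 (hker y.2) x.1)

include hm in
/-- Invariant alternating biadditive pairings with values in the kernel are trivial. -/
theorem pairing_one (f : K → K → Γ) (hf : ∀ a b, π (f a b) = 1)
    (hl : ∀ a a' b, f (a + a') b = f a b * f a' b) (hr : ∀ a b b', f a (b + b') = f a b * f a b')
    (halt : ∀ a, f a a = 1) (hinv : ∀ k : Kˣ, ∀ a b, f ((k : K) * a) (k * b) = f a b) (a b : K) : f a b = 1 := by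
  letI : CommGroup π.ker :=
    { (inferInstance : Group π.ker) with mul_comm := ker_mul_comm hK π hker hrange }
  let γ : K → K → Additive π.ker := fun a b => Additive.ofMul ⟨f a b, hf a b⟩
  have h0 := Suzuki.alternating_zero hK hm γ
    (fun a a' b => Additive.toMul.injective (Subtype.ext (hl a a' b)))
    (fun a b b' => Additive.toMul.injective (Subtype.ext (hr a b b')))
    (fun a => Additive.toMul.injective (Subtype.ext (halt a)))
    (fun k a b => Additive.toMul.injective (Subtype.ext (hinv k a b))) a b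
  exact congrArg (fun w : Additive π.ker => (w.toMul : Γ)) h0

theorem comm_congr {x x' y y' : Γ} (hx : π x = π x') (hy : π y = π y') : ⁅x, y⁆ = ⁅x', y'⁆ := by
  rw [show x = x' * (x'⁻¹ * x) by group, show y = y' * (y'⁻¹ * y) by group]
  exact Cfsg.Agent.CentralExt.commutatorElement_mul_center
    (hker (MonoidHom.mem_ker.2 (by rw [map_mul, map_inv, hx, inv_mul_cancel])))
    (hker (MonoidHom.mem_ker.2 (by rw [map_mul, map_inv, hy, inv_mul_cancel]))) _ _

/-- Surjectivity of the characters used for scaling. -/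
theorem exists_scale (k : Kˣ) : ∃ a b c : Kˣ, a ^ 2 = k ∧ b⁻¹ = k ∧ (c ^ (2 ^ m + 1))⁻¹ = k := by
  have hp := units_zpow hK (K := K) k
  refine ⟨k ^ (2 ^ m * 2 ^ m : ℕ), k⁻¹, k ^ (2 * (2 : ℤ) ^ m - 2), ?_, inv_inv k, ?_⟩
  · rw [← pow_mul, ← zpow_natCast, show ((2 ^ m * 2 ^ m * 2 : ℕ) : ℤ) = (2 * 2 ^ m * 2 ^ m - 1) + 1 by
      push_cast; ring, zpow_add, hp, one_mul, zpow_one]
  · rw [← zpow_natCast, ← zpow_mul, ← zpow_neg, show -((2 * (2 : ℤ) ^ m - 2) * ((2 ^ m + 1 : ℕ) : ℤ)) =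
      -(2 * 2 ^ m * 2 ^ m - 1) + 1 by push_cast; ring, zpow_add, zpow_neg, hp, inv_one, one_mul, zpow_one]

/-- The lift of a fixed-point-free torus element centralising another class. -/
theorem exists_h (b : Bool) : ∃ h : Γ, π h ∈ (σF K m).H1 ∧
    (∀ x ∈ X K m ⟨hcls b, by cases b <;> decide⟩, π h * x = x * π h) ∧
    (∀ j : Fin 16, j.val ≠ hcls b → j.val ≠ hcls b + 8 → 1 ≤ m →
      ∀ x ∈ X K m j, π h * x * (π h)⁻¹ = x → x = 1) := by
  obtain ⟨g, hg⟩ := IsCyclic.exists_generator (α := Kˣ)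
  have hord : orderOf g = Nat.card Kˣ := orderOf_eq_card_of_forall_mem_zpowers hg
  obtain ⟨h, hh⟩ := H1_le_range hK π hrange ((mem_H1_iff hK).2 ⟨hx m g b, rfl⟩)
  refine ⟨h, hh ▸ (mem_H1_iff hK).2 ⟨_, rfl⟩, fun x hx => ?_, fun j h0 h8 hm' x hx hfix => ?_⟩
  · rw [hh]
    have hgen : ∀ {r : ℕ} (t : K), r < chevF4.nroots → r ∈ cls (hcls b) →
        Commute (tH m (F4.hx m g b)) (xF K r t) := fun {r} t hlt hr => by
      show _ * _ = _ * _
      rw [← mul_inv_eq_iff_eq_mul, tH_conj_xF hK _ hlt, cH_hx_fix hK g b hr, Units.val_one, one_mul]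
    have hle : spF K (cls (hcls b)) ≤ Subgroup.centralizer {tH m (F4.hx m g b)} :=
      sp_le DataF4.good rootsF4 fun r hr hlt t => Subgroup.mem_centralizer_iff.2 fun z hz => by
        rw [Set.mem_singleton_iff.1 hz]; exact hgen t hlt hr
    exact Subgroup.mem_centralizer_iff.1 (hle (Subgroup.mem_inf.1 hx).1) _ rfl
  · exact fix_eq_one hK j _ (fun r hr => cH_hx_ne hK hm' hord b j.isLt h0 h8 hr) x hx (hh ▸ hfix)

include hm

theorem good_X0 : Good π (σF K m).H1 (X K m 0) := by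
  set ξ : K → GL chevF4.Idx K := fun t => xF K 33 (t ^ 2 ^ m) * xF K 24 t with hξ
  have hξmem : ∀ t, ξ t ∈ X K m 0 := fun t => (mem_X0_iff hK).2 ⟨t, rfl⟩
  have hξadd : ∀ t u, ξ (t + u) = ξ t * ξ u := by
    intro t u
    have hc : xF K 24 t * xF K 33 (u ^ 2 ^ m) = xF K 33 (u ^ 2 ^ m) * xF K 24 t :=
      comm_free' hK (r := 33) (s := 24) (by decide) (by decide) (by decide) (by decide) (by decide +kernel) _ _
    simp only [hξ]
    rw [show xF K 33 (t ^ 2 ^ m) * xF K 24 t * (xF K 33 (u ^ 2 ^ m) * xF K 24 u) =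
      xF K 33 (t ^ 2 ^ m) * (xF K 24 t * xF K 33 (u ^ 2 ^ m)) * xF K 24 u by group, hc, add_pow_char_pow,
      ← xF_add (r := 33) (by decide), ← xF_add (r := 24) (by decide)]
    group
  have hinj : ∀ t t', ξ t = ξ t' → t = t' := fun t t' e => (pair_unique hK e).2
  choose L hL using fun t => X_le_range hK π hrange 0 (hξmem t)
  have hscale : ∀ k : Kˣ, ∃ d : Γ, ∀ t, π d * ξ t * (π d)⁻¹ = ξ ((k : K) * t) := by
    intro k
    obtain ⟨a, -, -, ha, -, -⟩ := exists_scale hK π hker hrange k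
    obtain ⟨d, hd⟩ := H1_le_range hK π hrange ((mem_H1_iff hK).2 ⟨((a, 1) : Kˣ × Kˣ), rfl⟩)
    refine ⟨d, fun t => ?_⟩
    obtain ⟨t', ht'⟩ := (mem_X0_iff hK).1 (H1_conj_X hK _ ((mem_H1_iff hK).2 ⟨((a, 1) : Kˣ × Kˣ), rfl⟩) _ (hξmem t))
    rw [hd]
    rw [ht']
    have e := ht'
    simp only [hξ] at e
    rw [show tH m ((a, 1) : Kˣ × Kˣ) * (xF K 33 (t ^ 2 ^ m) * xF K 24 t) * (tH m (a, 1))⁻¹ =
      (tH m (a, 1) * xF K 33 (t ^ 2 ^ m) * (tH m (a, 1))⁻¹) * (tH m (a, 1) * xF K 24 t * (tH m (a, 1))⁻¹) by group,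
      tH_conj_xF hK _ (r := 33) (by decide), tH_conj_xF hK _ (r := 24) (by decide)] at e
    have ec := (pair_unique hK e).2
    rw [show cH m ((a, 1) : Kˣ × Kˣ) 24 = a ^ 2 from (chi_tH hK a).1, ha] at ec
    rw [← ec]
  have hcommL : ∀ a b, ⁅L a, L b⁆ = 1 := by
    have hk : ∀ x y, π ⁅L x, L y⁆ = 1 := fun x y => by
      rw [map_commutatorElement, hL, hL, commutatorElement_eq_one_iff_mul_comm, ← hξadd, ← hξadd, add_comm]
    refine pairing_one hK hm π hker hrange (fun a b => ⁅L a, L b⁆) (fun a b => ?_) (fun a a' b => ?_)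
      (fun a b b' => ?_) (fun a => commutatorElement_self _) (fun k a b => ?_)
    · exact hk a b
    · show ⁅L (a + a'), L b⁆ = _
      rw [comm_congr hK π hker hrange (x' := L a * L a') (y' := L b) (by rw [map_mul, hL, hL, hL, hξadd]) rfl,
        show ⁅L a * L a', L b⁆ = L a * ⁅L a', L b⁆ * (L a)⁻¹ * ⁅L a, L b⁆ by
          simp only [commutatorElement_def]; group,
        central hker (hk a' b), mul_inv_cancel_right, central hker (hk a b)]
    · show ⁅L a, L (b + b')⁆ = _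
      rw [comm_congr hK π hker hrange (x' := L a) (y' := L b * L b') rfl (by rw [map_mul, hL, hL, hL, hξadd]),
        show ⁅L a, L b * L b'⁆ = ⁅L a, L b⁆ * (L b * ⁅L a, L b'⁆ * (L b)⁻¹) by
          simp only [commutatorElement_def]; group,
        central hker (hk a b') (L b), mul_inv_cancel_right]
    · obtain ⟨d, hd⟩ := hscale k
      show ⁅L _, L _⁆ = _
      rw [comm_congr hK π hker hrange (x' := d * L a * d⁻¹) (y' := d * L b * d⁻¹)
        (by rw [hL, map_mul, map_mul, map_inv, hL, hd]) (by rw [hL, map_mul, map_mul, map_inv, hL, hd]),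
        show ⁅d * L a * d⁻¹, d * L b * d⁻¹⁆ = d * ⁅L a, L b⁆ * d⁻¹ by simp only [commutatorElement_def]; group,
        central hker (hk a b) d, mul_inv_cancel_right]
  obtain ⟨h, hh, -, hfix⟩ := exists_h hK π hker hrange true
  refine Good.of_quot hker (C := ⊥) bot_le (Good.bot hker) (H1_conj_X hK) (fun _ _ x hx => ?_)
    (fun c hc v _ => ?_) (fun v w hv hw => ?_) (torus_comm hK π hker hrange) (X_le_range hK π hrange 0) hh
    (hfix 0 (by decide) (by decide) hm)
  · rw [Subgroup.mem_bot.1 hx]; simp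
  · have := (Good.bot hker).inj c hc (Subgroup.mem_bot.1 (map_mem_of_lift
      (fun _ _ x hx => by rw [Subgroup.mem_bot.1 hx]; simp) hc))
    rw [this, one_mul, mul_one]
  · obtain ⟨a, ha⟩ := (mem_X0_iff hK).1 hv
    obtain ⟨b, hb⟩ := (mem_X0_iff hK).1 hw
    rw [comm_congr hK π hker hrange (x' := L a) (y' := L b) (by rw [ha, hL]) (by rw [hb, hL]), hcommL]
    exact one_mem _

omit hm in
/-- Transport along the Weyl group. -/
theorem good_step (i : Fin 2) (j : Fin 16) (hg : Good π (σF K m).H1 (X K m j)) :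
    Good π (σF K m).H1 (X K m (wcl i j)) := by
  obtain ⟨n, hn⟩ := hrange ((rgdF4' hK (m := m)).N_le_G ((rgdF4' hK (m := m)).n_mem_N i))
  have hn' : π n = (RF K).nw (W i) := hn
  refine Good.conj hker n (fun h hh => hn' ▸ nW_conj_H1 hK i hh) (fun h hh => ?_)
    (fun x hx => hn' ▸ nW_conj_X i j hx) (fun y hy => ?_) hg
  · have := nW_conj_H1 hK i hh
    rw [nW_inv] at this
    rwa [hn', nW_inv]
  · have := nW_conj_X (K := K) (m := m) i _ hy
    rw [wcl_wcl, nW_inv] at this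
    rwa [hn', nW_inv]

theorem good_even : ∀ j : Fin 16, j.val % 2 = 0 → Good π (σF K m).H1 (X K m j) := by
  refine classInduction (P := fun j => j.val % 2 = 0 → Good π (σF K m).H1 (X K m j))
    (fun _ => good_X0 hK hm π hker hrange) (fun h => absurd h (by decide)) fun i j ih hj => ?_
  exact good_step hK π hker hrange i j
    (ih ((by decide : ∀ (i : Fin 2) (j : Fin 16), (wcl i j).val % 2 = 0 → j.val % 2 = 0) i j hj))

omit hm in
/-- An element commuting with a torus element acting fixed point freely on a good group commutes with its lift. -/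
theorem commute_lift {Y : Subgroup (GL chevF4.Idx K)} (hY : Good π (σF K m).H1 Y) (hYr : Y ≤ π.range)
    (hnY : ∀ h ∈ (σF K m).H1, ∀ x ∈ Y, h * x * h⁻¹ ∈ Y) {n : ℕ} {h a y : Γ} (hh : π h ∈ (σF K m).H1)
    (hfix : ∀ x ∈ Y, π h * x * (π h)⁻¹ = x → x = 1) (hc : π h * π a = π a * π h) (ha : π a ^ 2 ^ n = 1)
    (hY' : ∀ x ∈ Y, π a * x = x * π a) (hy : y ∈ lift π (σF K m).H1 Y) : a * y = y * a := by
  obtain ⟨v, hv, rfl⟩ := Good.exists_comm hker hY hnY hYr hh hfix hy
  have hah : a * h = h * a := commute_of_coprime hker (coprime_units hK n) hc.symm ha (H1_pow hK hh)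
  have e : a * ⁅h, v⁆ * a⁻¹ = ⁅h, v⁆ := by
    rw [show a * ⁅h, v⁆ * a⁻¹ = ⁅a * h * a⁻¹, a * v * a⁻¹⁆ by simp only [commutatorElement_def]; group,
      hah, mul_inv_cancel_right]
    exact comm_congr hK π hker hrange rfl
      (by rw [map_mul, map_mul, map_inv, hY' _ hv, mul_inv_cancel_right])
  exact mul_inv_eq_iff_eq_mul.1 e

theorem good_C7 : Good π (σF K m).H1 (C7 K m) := by
  set ξ : K → GL chevF4.Idx K := fun u => xF K 28 u * xF K 30 (u ^ (2 * 2 ^ m)) with hξ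
  have hξmem : ∀ t, ξ t ∈ C7 K m := fun t => (mem_C7_iff hK).2 ⟨t, rfl⟩
  have hξadd : ∀ t u, ξ (t + u) = ξ t * ξ u := by
    intro t u
    have hc : xF K 30 (t ^ (2 * 2 ^ m)) * xF K 28 u = xF K 28 u * xF K 30 (t ^ (2 * 2 ^ m)) :=
      comm_free' hK (r := 28) (s := 30) (by decide) (by decide) (by decide) (by decide) (by decide +kernel) _ _
    simp only [hξ]
    rw [show xF K 28 t * xF K 30 (t ^ (2 * 2 ^ m)) * (xF K 28 u * xF K 30 (u ^ (2 * 2 ^ m))) =
      xF K 28 t * (xF K 30 (t ^ (2 * 2 ^ m)) * xF K 28 u) * xF K 30 (u ^ (2 * 2 ^ m)) by group, hc,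
      mem_X7_iff.add_pow_char_pow_two,
      ← xF_add (r := 28) (by decide), ← xF_add (r := 30) (by decide)]
    group
  choose L hL using fun t => X_le_range hK π hrange 7 (C7_le (hξmem t))
  have hscale : ∀ k : Kˣ, ∃ d : Γ, ∀ t, π d * ξ t * (π d)⁻¹ = ξ ((k : K) * t) := by
    intro k
    obtain ⟨-, -, c, -, -, hc⟩ := exists_scale hK π hker hrange k
    obtain ⟨d, hd⟩ := H1_le_range hK π hrange ((mem_H1_iff hK).2 ⟨((c, 1) : Kˣ × Kˣ), rfl⟩)
    refine ⟨d, fun t => ?_⟩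
    obtain ⟨t', ht'⟩ := (mem_C7_iff hK).1 (C7_conj hK _ ((mem_H1_iff hK).2 ⟨((c, 1) : Kˣ × Kˣ), rfl⟩) _ (hξmem t))
    rw [hd, ht']
    have e := ht'
    simp only [hξ] at e
    rw [show tH m ((c, 1) : Kˣ × Kˣ) * (xF K 28 t * xF K 30 (t ^ (2 * 2 ^ m))) * (tH m (c, 1))⁻¹ =
      (tH m (c, 1) * xF K 28 t * (tH m (c, 1))⁻¹) * (tH m (c, 1) * xF K 30 (t ^ (2 * 2 ^ m)) * (tH m (c, 1))⁻¹)
        by group, tH_conj_xF hK _ (r := 28) (by decide), tH_conj_xF hK _ (r := 30) (by decide)] at e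
    have e' : xF K 27 0 * xF K 25 0 * xF K 28 ((cH m ((c, 1) : Kˣ × Kˣ) 28 : K) * t) *
        xF K 30 ((cH m ((c, 1) : Kˣ × Kˣ) 30 : K) * t ^ (2 * 2 ^ m)) =
        xF K 27 0 * xF K 25 0 * xF K 28 t' * xF K 30 (t' ^ (2 * 2 ^ m)) := by
      simp only [xF_zero', one_mul]; exact e
    obtain ⟨-, -, ec, -⟩ := b2_unique hK e'
    rw [show cH m ((c, 1) : Kˣ × Kˣ) 28 = (c ^ (2 ^ m + 1))⁻¹ from (chi_tH hK c).2.2, hc] at ec
    rw [← ec]
  have hcommL : ∀ a b, ⁅L a, L b⁆ = 1 := by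
    have hk : ∀ x y, π ⁅L x, L y⁆ = 1 := fun x y => by
      rw [map_commutatorElement, hL, hL, commutatorElement_eq_one_iff_mul_comm, ← hξadd, ← hξadd, add_comm]
    refine pairing_one hK hm π hker hrange (fun a b => ⁅L a, L b⁆) (fun a b => ?_) (fun a a' b => ?_)
      (fun a b b' => ?_) (fun a => commutatorElement_self _) (fun k a b => ?_)
    · exact hk a b
    · show ⁅L (a + a'), L b⁆ = _
      rw [comm_congr hK π hker hrange (x' := L a * L a') (y' := L b) (by rw [map_mul, hL, hL, hL, hξadd]) rfl,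
        show ⁅L a * L a', L b⁆ = L a * ⁅L a', L b⁆ * (L a)⁻¹ * ⁅L a, L b⁆ by
          simp only [commutatorElement_def]; group,
        central hker (hk a' b), mul_inv_cancel_right, central hker (hk a b)]
    · show ⁅L a, L (b + b')⁆ = _
      rw [comm_congr hK π hker hrange (x' := L a) (y' := L b * L b') rfl (by rw [map_mul, hL, hL, hL, hξadd]),
        show ⁅L a, L b * L b'⁆ = ⁅L a, L b⁆ * (L b * ⁅L a, L b'⁆ * (L b)⁻¹) by
          simp only [commutatorElement_def]; group,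
        central hker (hk a b') (L b), mul_inv_cancel_right]
    · obtain ⟨d, hd⟩ := hscale k
      show ⁅L _, L _⁆ = _
      rw [comm_congr hK π hker hrange (x' := d * L a * d⁻¹) (y' := d * L b * d⁻¹)
        (by rw [hL, map_mul, map_mul, map_inv, hL, hd]) (by rw [hL, map_mul, map_mul, map_inv, hL, hd]),
        show ⁅d * L a * d⁻¹, d * L b * d⁻¹⁆ = d * ⁅L a, L b⁆ * d⁻¹ by simp only [commutatorElement_def]; group,
        central hker (hk a b) d, mul_inv_cancel_right]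
  obtain ⟨h, hh, -, hfix⟩ := exists_h hK π hker hrange false
  refine Good.of_quot hker (C := ⊥) bot_le (Good.bot hker) (C7_conj hK) (fun _ _ x hx => ?_)
    (fun c hc v _ => ?_) (fun v w hv hw => ?_) (torus_comm hK π hker hrange)
    (C7_le.trans (X_le_range hK π hrange 7)) hh (fun x hx => hfix 7 (by decide) (by decide) hm x (C7_le hx))
  · rw [Subgroup.mem_bot.1 hx]; simp
  · have := (Good.bot hker).inj c hc (Subgroup.mem_bot.1 (map_mem_of_lift
      (fun _ _ x hx => by rw [Subgroup.mem_bot.1 hx]; simp) hc))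
    rw [this, one_mul, mul_one]
  · obtain ⟨a, ha⟩ := (mem_C7_iff hK).1 hv
    obtain ⟨b, hb⟩ := (mem_C7_iff hK).1 hw
    rw [comm_congr hK π hker hrange (x' := L a) (y' := L b) (by rw [ha, hL]) (by rw [hb, hL]), hcommL]
    exact one_mem _

/-- The lifted centre of a Suzuki root group is central. -/
theorem C7_central {c v : Γ} (hc : c ∈ lift π (σF K m).H1 (C7 K m)) (hv : π v ∈ X K m 7) : c * v = v * c := by
  obtain ⟨G, hG⟩ := hrange ((rgdF4' hK (m := m)).N_le_G ((rgdF4' hK (m := m)).nw_mem_N [0, 1, 0]))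
  have hG' : π G = g3 K := hG.trans (by simp [RGD.RootData.nw, g3, mul_assoc, rgdF4'])
  have hH : ∀ h ∈ (σF K m).H1, g3 K * h * (g3 K)⁻¹ ∈ (σF K m).H1 := fun h hh => by
    have := nW_conj_H1 hK 0 (nW_conj_H1 hK 1 (nW_conj_H1 hK 0 hh))
    simpa [g3, mul_assoc] using this
  have hX : ∀ x ∈ X K m 7, g3 K * x * (g3 K)⁻¹ ∈ X K m 3 := fun x hx => by
    have := nW_conj_X (K := K) (m := m) 0 _ (nW_conj_X 1 _ (nW_conj_X 0 7 hx))
    rw [show wcl 0 (wcl 1 (wcl 0 (7 : Fin 16))) = 3 by decide] at this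
    simpa [g3, mul_assoc] using this
  -- three torus elements centralising classes 3 and 2
  have conjh : ∀ (b : Bool) (l : List (Fin 2)) (j : Fin 16), (rgdF4' hK (m := m)).ww l ⟨hcls b, by
        cases b <;> decide⟩ = j → ∃ h : Γ, π h ∈ (σF K m).H1 ∧ (∀ x ∈ X K m j, π h * x = x * π h) ∧
      ∀ j' : Fin 16, ((rgdF4' hK (m := m)).ww l.reverse j').val ≠ hcls b →
        ((rgdF4' hK (m := m)).ww l.reverse j').val ≠ hcls b + 8 →
        ∀ x ∈ X K m j', π h * x * (π h)⁻¹ = x → x = 1 := by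
    intro b l j hj
    set R := rgdF4' hK (m := m) with hR
    obtain ⟨h, hh, hc, hfix⟩ := exists_h hK π hker hrange b
    obtain ⟨n, hn⟩ := hrange (R.N_le_G (R.nw_mem_N l))
    refine ⟨n * h * n⁻¹, by rw [map_mul, map_mul, map_inv, hn]; exact R.nw_conj_H l hh, fun x hx => ?_,
      fun j' h0 h8 x hx he => ?_⟩
    · rw [map_mul, map_mul, map_inv, hn]
      have hx' : (R.nw l)⁻¹ * x * R.nw l ∈ X K m ⟨hcls b, by cases b <;> decide⟩ :=
        (RGD.RootData.mem_map_conj _).1 ((R.map_conj_U l _).symm ▸ hj ▸ hx)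
      calc R.nw l * π h * (R.nw l)⁻¹ * x = R.nw l * (π h * ((R.nw l)⁻¹ * x * R.nw l)) * (R.nw l)⁻¹ := by group
        _ = R.nw l * (((R.nw l)⁻¹ * x * R.nw l) * π h) * (R.nw l)⁻¹ := by rw [hc _ hx']
        _ = _ := by group
    · rw [map_mul, map_mul, map_inv, hn] at he
      have hx' : (R.nw l)⁻¹ * x * R.nw l ∈ X K m (R.ww l.reverse j') := by
        refine (RGD.RootData.mem_map_conj _).1 ((R.map_conj_U l _).symm ▸ ?_)
        rw [R.ww_ww_reverse]; exact hx
      have := hfix _ h0 h8 hm _ hx' (by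
        calc π h * ((R.nw l)⁻¹ * x * R.nw l) * (π h)⁻¹ =
            (R.nw l)⁻¹ * (R.nw l * π h * (R.nw l)⁻¹ * x * (R.nw l * π h * (R.nw l)⁻¹)⁻¹) * R.nw l := by group
          _ = _ := by rw [he])
      calc x = R.nw l * ((R.nw l)⁻¹ * x * R.nw l) * (R.nw l)⁻¹ := by group
        _ = 1 := by rw [this]; group
  obtain ⟨h3, h3H, h3c, h3f⟩ := conjh true [0, 1, 0] 3
    (by exact (by decide : List.foldr wcl (7 : Fin 16) [0, 1, 0] = 3))
  obtain ⟨h2, h2H, h2c, h2f⟩ := conjh false [0, 1] 2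
    (by exact (by decide : List.foldr wcl (0 : Fin 16) [0, 1] = 2))
  have h3f4 := h3f 4 (by exact (by decide : (List.foldr wcl (4 : Fin 16) [0, 1, 0]).val ≠ 7))
    (by exact (by decide : (List.foldr wcl (4 : Fin 16) [0, 1, 0]).val ≠ 15))
  have h2f4 := h2f 4 (by exact (by decide : (List.foldr wcl (4 : Fin 16) [1, 0]).val ≠ 0))
    (by exact (by decide : (List.foldr wcl (4 : Fin 16) [1, 0]).val ≠ 8))
  have h2f3 := h2f 3 (by exact (by decide : (List.foldr wcl (3 : Fin 16) [1, 0]).val ≠ 0))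
    (by exact (by decide : (List.foldr wcl (3 : Fin 16) [1, 0]).val ≠ 8))
  set c' := G * c * G⁻¹ with hc'
  set v' := G * v * G⁻¹ with hv'
  suffices hcv : c' * v' = v' * c' by
    calc c * v = G⁻¹ * (c' * v') * G := by rw [hc', hv']; group
      _ = G⁻¹ * (v' * c') * G := by rw [hcv]
      _ = v * c := by rw [hc', hv']; group
  have hv3 : π v' ∈ X K m 3 := by rw [hv', map_mul, map_mul, map_inv, hG']; exact hX _ hv
  have hcC : π c ∈ C7 K m := map_mem_of_lift (C7_conj hK) hc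
  obtain ⟨x, hx, y, hy, exy⟩ := C3_commutator hK hcC
  obtain ⟨x', rfl⟩ := X_le_range hK π hrange 1 hx
  obtain ⟨y', hy', rfl⟩ := (good_even hK hm π hker hrange 4 rfl).surj y hy
  have hcx : π c' = π ⁅x', y'⁆ := by
    rw [map_commutatorElement, hc', map_mul, map_mul, map_inv, hG', exy]
  -- v' commutes with y'
  have hva : ∀ {a : Γ}, π a ∈ X K m 3 → a * y' = y' * a := fun {a} ha =>
    commute_lift hK π hker hrange (good_even hK hm π hker hrange 4 rfl) (X_le_range hK π hrange 4)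
      (H1_conj_X hK) h3H h3f4 (h3c _ ha) (X_pow hK 3 ha) (fun z hz => commute_34 ha hz) hy'
  set w := ⁅v', x'⁆ with hw
  have hw2 : π w ∈ X K m 2 := by rw [hw, map_commutatorElement]; exact comm31 hv3 hx
  have hwy : w * y' = y' * w :=
    commute_lift hK π hker hrange (good_even hK hm π hker hrange 4 rfl) (X_le_range hK π hrange 4)
      (H1_conj_X hK) h2H h2f4 (h2c _ hw2) (X_pow hK 2 hw2) (fun z hz => commute_24 hw2 hz) hy'
  -- w commutes with c'
  set C3 : Subgroup (GL chevF4.Idx K) := (C7 K m).map (MulAut.conj (g3 K)).toMonoidHom with hC3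
  have hC3le : C3 ≤ X K m 3 := by rintro _ ⟨z, hz, rfl⟩; exact hX _ (C7_le hz)
  have hH' : ∀ h ∈ (σF K m).H1, (g3 K)⁻¹ * h * g3 K ∈ (σF K m).H1 := fun h hh => by
    rw [← hG', hG]; exact (rgdF4' hK (m := m)).nw_conj_H' _ hh
  have hC3n : ∀ h ∈ (σF K m).H1, ∀ z ∈ C3, h * z * h⁻¹ ∈ C3 := by
    rintro h hh _ ⟨z, hz, rfl⟩
    refine ⟨_, C7_conj hK _ (hH' h hh) z hz, ?_⟩
    show g3 K * ((g3 K)⁻¹ * h * g3 K * z * ((g3 K)⁻¹ * h * g3 K)⁻¹) * (g3 K)⁻¹ = h * (g3 K * z * (g3 K)⁻¹) * h⁻¹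
    group
  have hGc3 : Good π (σF K m).H1 C3 :=
    Good.conj hker G (fun h hh => hG' ▸ hH h hh) (fun h hh => hG' ▸ hH' h hh)
      (fun z hz => hG' ▸ ⟨z, hz, rfl⟩) (fun z hz => hG' ▸ (RGD.RootData.mem_map_conj _).1 hz)
      (good_C7 hK hm π hker hrange)
  have hwc : w * c' = c' * w :=
    commute_lift hK π hker hrange hGc3 (hC3le.trans (X_le_range hK π hrange 3)) hC3n h2H
      (fun z hz => h2f3 z (hC3le hz)) (h2c _ hw2) (X_pow hK 2 hw2) (fun z hz => commute_23 hw2 (hC3le hz))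
      (lift_conj (fun h hh => hG' ▸ hH h hh) (fun z hz => hG' ▸ ⟨z, hz, rfl⟩) hc)
  have hcd : c'⁻¹ * ⁅x', y'⁆ ∈ Subgroup.center Γ :=
    hker (MonoidHom.mem_ker.2 (by rw [map_mul, map_inv, hcx, inv_mul_cancel]))
  have hwd : w * ⁅x', y'⁆ = ⁅x', y'⁆ * w := by
    calc w * ⁅x', y'⁆ = (w * c') * (c'⁻¹ * ⁅x', y'⁆) := by group
      _ = c' * (w * (c'⁻¹ * ⁅x', y'⁆)) := by rw [hwc, mul_assoc]
      _ = c' * ((c'⁻¹ * ⁅x', y'⁆) * w) := by rw [Subgroup.mem_center_iff.1 hcd w]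
      _ = _ := by group
  have e : v' * ⁅x', y'⁆ * v'⁻¹ = ⁅x', y'⁆ := by
    calc v' * ⁅x', y'⁆ * v'⁻¹ = ⁅w * x', v' * y' * v'⁻¹⁆ := by
          rw [hw]; simp only [commutatorElement_def]; group
      _ = ⁅w * x', y'⁆ := by rw [hva hv3, mul_inv_cancel_right]
      _ = w * ⁅x', y'⁆ * w⁻¹ * ⁅w, y'⁆ := by simp only [commutatorElement_def]; group
      _ = ⁅x', y'⁆ := by
          rw [commutatorElement_eq_one_iff_mul_comm.2 hwy, hwd, mul_inv_cancel_right, mul_one]
  have hdv : ⁅x', y'⁆ * v' = v' * ⁅x', y'⁆ := (mul_inv_eq_iff_eq_mul.1 e).symm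
  calc c' * v' = ⁅x', y'⁆ * ((c'⁻¹ * ⁅x', y'⁆)⁻¹ * v') := by group
    _ = ⁅x', y'⁆ * (v' * (c'⁻¹ * ⁅x', y'⁆)⁻¹) := by rw [Subgroup.mem_center_iff.1 (inv_mem hcd) v']
    _ = v' * c' := by rw [← mul_assoc, hdv]; group

theorem good_X7 : Good π (σF K m).H1 (X K m 7) := by
  set Lc := lift π (σF K m).H1 (C7 K m)
  have hC := good_C7 hK hm π hker hrange
  have hcc : ∀ c ∈ Lc, ∀ v, π v ∈ X K m 7 → c * v = v * c := fun c hc v hv =>
    C7_central hK hm π hker hrange hc hv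
  set τ : K → GL chevF4.Idx K := fun t => xF K 27 (t ^ 2 ^ m) * xF K 25 t * xF K 28 (t ^ (2 ^ m + 1) + 0) *
      xF K 30 ((0 : K) ^ (2 * 2 ^ m)) with hτ
  have hτmem : ∀ t, τ t ∈ X K m 7 := fun t => (mem_X7_iff hK).2 ⟨t, 0, rfl⟩
  -- the top coordinate
  have hco : ∀ g ∈ X K m 7, ∃! t, ∃ c ∈ C7 K m, g = τ t * c := by
    intro g hg
    obtain ⟨t, u, rfl⟩ := (mem_X7_iff hK).1 hg
    refine ⟨t, ⟨_, (mem_C7_iff hK).2 ⟨u, rfl⟩, ?_⟩, ?_⟩
    · simp only [hτ, zero_pow (show 2 * 2 ^ m ≠ 0 by positivity), xF_zero', mul_one, add_zero, ← mul_assoc]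
      rw [mul_assoc (xF K 27 (t ^ 2 ^ m) * xF K 25 t) (xF K 28 _) (xF K 28 u), xF_add (by decide)]
    · rintro t' ⟨_, hc, e⟩
      obtain ⟨u', rfl⟩ := (mem_C7_iff hK).1 hc
      simp only [hτ, zero_pow (show 2 * 2 ^ m ≠ 0 by positivity), xF_zero', mul_one, add_zero, ← mul_assoc] at e
      rw [mul_assoc (xF K 27 (t' ^ 2 ^ m) * xF K 25 t') (xF K 28 _) (xF K 28 u'),
        xF_add (by decide)] at e
      exact (b2_unique hK e).2.1.symm
  have hτmul : ∀ t t', ∃ c ∈ C7 K m, τ t * τ t' = τ (t + t') * c := by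
    intro t t'
    obtain ⟨s, ⟨c, hc, e⟩, -⟩ := hco _ (mul_mem (hτmem t) (hτmem t'))
    refine ⟨c, hc, ?_⟩
    obtain ⟨u, rfl⟩ := (mem_C7_iff hK).1 hc
    suffices s = t + t' by rw [← this]; exact e
    simp only [hτ] at e
    rw [b2_mul hK, show ∀ a b c e u v : K, xF K 27 a * xF K 25 b * xF K 28 c * xF K 30 e * (xF K 28 u * xF K 30 v) =
      xF K 27 a * xF K 25 b * xF K 28 c * xF K 30 e * (xF K 27 0 * xF K 25 0 * xF K 28 u * xF K 30 v) from
        fun a b c e u v => by simp [xF_zero'], b2_mul hK, add_zero] at e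
    obtain ⟨-, h2, -⟩ := b2_unique hK e
    simpa using h2.symm
  choose L hL using fun t => X_le_range hK π hrange 7 (hτmem t)
  have hscale : ∀ k : Kˣ, ∃ d : Γ, π d ∈ (σF K m).H1 ∧
      ∀ t, ∃ c ∈ C7 K m, π d * τ t * (π d)⁻¹ = τ ((k : K) * t) * c := by
    intro k
    obtain ⟨-, b, -, -, hb, -⟩ := exists_scale hK π hker hrange k
    have hbH : tH m ((b, 1) : Kˣ × Kˣ) ∈ (σF K m).H1 := (mem_H1_iff hK).2 ⟨_, rfl⟩
    obtain ⟨d, hd⟩ := H1_le_range hK π hrange hbH
    refine ⟨d, hd ▸ hbH, fun t => ?_⟩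
    obtain ⟨s, ⟨c, hc, e⟩, -⟩ := hco _ (H1_conj_X hK _ hbH _ (hτmem t))
    refine ⟨c, hc, ?_⟩
    rw [hd, e]
    congr 2
    obtain ⟨u, rfl⟩ := (mem_C7_iff hK).1 hc
    simp only [hτ] at e
    rw [show ∀ A B C E : GL chevF4.Idx K, tH m (b, 1) * (A * B * C * E) * (tH m (b, 1))⁻¹ =
      (tH m (b, 1) * A * (tH m (b, 1))⁻¹) * (tH m (b, 1) * B * (tH m (b, 1))⁻¹) *
      (tH m (b, 1) * C * (tH m (b, 1))⁻¹) * (tH m (b, 1) * E * (tH m (b, 1))⁻¹) from fun A B C E => by group,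
      tH_conj_xF hK _ (r := 27) (by decide), tH_conj_xF hK _ (r := 25) (by decide),
      tH_conj_xF hK _ (r := 28) (by decide), tH_conj_xF hK _ (r := 30) (by decide),
      show ∀ a b c e u v : K, xF K 27 a * xF K 25 b * xF K 28 c * xF K 30 e * (xF K 28 u * xF K 30 v) =
      xF K 27 a * xF K 25 b * xF K 28 c * xF K 30 e * (xF K 27 0 * xF K 25 0 * xF K 28 u * xF K 30 v) from
        fun a b c e u v => by simp [xF_zero'], b2_mul hK] at e
    obtain ⟨-, h2, -⟩ := b2_unique hK e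
    rw [show cH m ((b, 1) : Kˣ × Kˣ) 25 = b⁻¹ from (chi_tH hK b).2.1, hb, add_zero] at h2
    exact h2.symm
  -- commutators modulo the lift of the centre
  have hcm7 : ∀ v w : Γ, π v ∈ X K m 7 → π w ∈ X K m 7 → π ⁅v, w⁆ ∈ C7 K m := by
    intro v w hv hw
    obtain ⟨t, ⟨c, hc, ev⟩, -⟩ := hco _ hv
    obtain ⟨t', ⟨c', hc', ew⟩, -⟩ := hco _ hw
    obtain ⟨d, hd, ed⟩ := hτmul t t'
    obtain ⟨d', hd', ed'⟩ := hτmul t' t
    have hcomm : ∀ z ∈ C7 K m, ∀ g ∈ X K m 7, z * g = g * z := by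
      intro z hz g hg
      obtain ⟨z', hz', rfl⟩ := hC.surj z hz
      obtain ⟨g', rfl⟩ := X_le_range hK π hrange 7 hg
      rw [← map_mul, ← map_mul, hcc z' hz' g' hg]
    have h1 : π v * π w = τ (t + t') * (d * c * c') := by
      rw [ev, ew, show τ t * c * (τ t' * c') = τ t * (c * τ t') * c' by group, hcomm c hc _ (hτmem t'),
        show τ t * (τ t' * c) * c' = τ t * τ t' * c * c' by group, ed]
      group
    have h2 : π w * π v = τ (t + t') * (d' * c' * c) := by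
      rw [ev, ew, show τ t' * c' * (τ t * c) = τ t' * (c' * τ t) * c by group, hcomm c' hc' _ (hτmem t)]
      rw [show τ t' * (τ t * c') * c = (τ t' * τ t) * c' * c by group, ed', add_comm t' t]
      group
    rw [map_commutatorElement, commutatorElement_def, show π v * π w * (π v)⁻¹ * (π w)⁻¹ =
      (π v * π w) * (π w * π v)⁻¹ by group, h1, h2]
    have hd2 : d * c * c' * (d' * c' * c)⁻¹ ∈ C7 K m :=
      mul_mem (mul_mem (mul_mem hd hc) hc') (inv_mem (mul_mem (mul_mem hd' hc') hc))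
    rw [show τ (t + t') * (d * c * c') * (τ (t + t') * (d' * c' * c))⁻¹ =
      τ (t + t') * (d * c * c' * (d' * c' * c)⁻¹) * (τ (t + t'))⁻¹ by group, ← hcomm _ hd2 _ (hτmem _),
      mul_inv_cancel_right]
    exact hd2
  choose M hM1 hM2 using fun a b => hC.surj _ (hcm7 (L a) (L b) (by rw [hL]; exact hτmem a) (by rw [hL]; exact hτmem b))
  set f : K → K → Γ := fun a b => (M a b)⁻¹ * ⁅L a, L b⁆ with hf
  have hfker : ∀ a b, π (f a b) = 1 := fun a b => by rw [hf, map_mul, map_inv, hM2, inv_mul_cancel]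
  have hP : ∀ a b, π ⁅L a, L b⁆ ∈ C7 K m := fun a b =>
    hcm7 _ _ (by rw [hL]; exact hτmem a) (by rw [hL]; exact hτmem b)
  have huniq : ∀ {m1 m2 z1 z2 : Γ}, m1 ∈ Lc → m2 ∈ Lc → π z1 = 1 → π z2 = 1 → m1 * z1 = m2 * z2 → z1 = z2 := by
    intro m1 m2 z1 z2 h1 h2 hz1 hz2 e
    have : m1 = m2 := inv_mul_eq_one.1 (hC.inj _ (mul_mem (inv_mem h1) h2) (by
      have := congrArg π e
      rw [map_mul, map_mul, hz1, hz2, mul_one, mul_one] at this
      rw [map_mul, map_inv, this, inv_mul_cancel]))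
    rw [this] at e
    exact mul_left_cancel e
  have hval : ∀ a b, ⁅L a, L b⁆ = M a b * f a b := fun a b => (mul_inv_cancel_left _ _).symm
  have hcomL : ∀ a b, ∀ g, π g ∈ X K m 7 → ⁅L a, L b⁆ * g = g * ⁅L a, L b⁆ := fun a b g hg => by
    rw [hval, mul_assoc, ← central hker (hfker a b) g, ← mul_assoc, hcc _ (hM1 a b) g hg, mul_assoc]
  -- products of lifts
  have hLadd : ∀ a a', ∃ z, π z ∈ X K m 7 ∧ (∀ g, π g ∈ X K m 7 → z * g = g * z) ∧
      π (L a * L a') = π (L (a + a') * z) := by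
    intro a a'
    obtain ⟨c, hc, e⟩ := hτmul a a'
    obtain ⟨z, hz, rfl⟩ := hC.surj c hc
    exact ⟨z, C7_le hc, fun g hg => hcc z hz g hg, by rw [map_mul, map_mul, hL, hL, hL, e]⟩
  have hbil : ∀ a a' b, f (a + a') b = f a b * f a' b := by
    intro a a' b
    obtain ⟨z, hz7, hzc, e⟩ := hLadd a a'
    have h1 : ⁅L a * L a', L b⁆ = ⁅L (a + a'), L b⁆ := by
      rw [comm_congr hK π hker hrange (x' := L (a + a') * z) (y' := L b) e rfl,
        show ⁅L (a + a') * z, L b⁆ = L (a + a') * ⁅z, L b⁆ * (L (a + a'))⁻¹ * ⁅L (a + a'), L b⁆ by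
          simp only [commutatorElement_def]; group,
        commutatorElement_eq_one_iff_mul_comm.2 (hzc _ (by rw [hL]; exact hτmem b))]
      group
    have h2 : ⁅L a * L a', L b⁆ = ⁅L a', L b⁆ * ⁅L a, L b⁆ := by
      rw [show ⁅L a * L a', L b⁆ = L a * ⁅L a', L b⁆ * (L a)⁻¹ * ⁅L a, L b⁆ by
          simp only [commutatorElement_def]; group,
        ← hcomL a' b (L a) (by rw [hL]; exact hτmem a), mul_inv_cancel_right]
    have h3 := h1.symm.trans h2
    rw [hval, hval a' b, hval a b] at h3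
    refine huniq (hM1 _ _) (mul_mem (hM1 a' b) (hM1 a b)) (hfker _ _)
      (by rw [map_mul, hfker, hfker, mul_one]) (h3.trans ?_)
    calc M a' b * f a' b * (M a b * f a b) = M a' b * (f a' b * M a b) * f a b := by group
      _ = M a' b * (M a b * f a' b) * f a b := by rw [← central hker (hfker a' b) (M a b)]
      _ = M a' b * M a b * (f a' b * f a b) := by group
      _ = _ := by rw [← central hker (hfker a b) (f a' b)]
  have hskew : ∀ a b, f a b = (f b a)⁻¹ := by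
    intro a b
    have h := (commutatorElement_inv (L b) (L a)).symm
    rw [hval, hval b a, mul_inv_rev, ← central hker (by rw [map_inv, hfker, inv_one]) (M b a)⁻¹] at h
    exact huniq (hM1 a b) (inv_mem (hM1 b a)) (hfker a b) (by rw [map_inv, hfker, inv_one]) h
  have hf1 : ∀ a b, f a b = 1 := by
    refine pairing_one hK hm π hker hrange f hfker hbil (fun a b b' => ?_) (fun a => ?_) (fun k a b => ?_)
    · rw [hskew a (b + b'), hbil, hskew a b, hskew a b', mul_inv_rev]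
      exact central hker (by rw [map_inv, hfker, inv_one]) _
    · have h := hval a a
      rw [commutatorElement_self] at h
      exact (huniq (one_mem Lc) (hM1 a a) (map_one π) (hfker a a) (by rw [one_mul]; exact h)).symm
    · obtain ⟨d, hdH, hd⟩ := hscale k
      obtain ⟨c, hc, ec⟩ := hd a
      obtain ⟨c₂, hc₂, ec₂⟩ := hd b
      obtain ⟨z, hz, rfl⟩ := hC.surj c hc
      obtain ⟨z₂, hz₂, rfl⟩ := hC.surj c₂ hc₂
      have h1 : d * ⁅L a, L b⁆ * d⁻¹ = ⁅L ((k : K) * a), L ((k : K) * b)⁆ := by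
        rw [show d * ⁅L a, L b⁆ * d⁻¹ = ⁅d * L a * d⁻¹, d * L b * d⁻¹⁆ by
            simp only [commutatorElement_def]; group,
          comm_congr hK π hker hrange (x' := L ((k : K) * a) * z) (y' := L ((k : K) * b) * z₂)
            (by rw [map_mul, map_mul, map_inv, hL, ec, map_mul, hL]) (by rw [map_mul, map_mul, map_inv, hL, ec₂, map_mul, hL])]
        have hzA := hcc z hz
        have hzB := hcc z₂ hz₂
        have hB : π (L ((k : K) * b) * z₂) ∈ X K m 7 := by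
          rw [map_mul, hL]; exact mul_mem (hτmem _) (C7_le hc₂)
        rw [show ⁅L ((k : K) * a) * z, L ((k : K) * b) * z₂⁆ = L ((k : K) * a) * ⁅z, L ((k : K) * b) * z₂⁆ *
            (L ((k : K) * a))⁻¹ * ⁅L ((k : K) * a), L ((k : K) * b) * z₂⁆ by simp only [commutatorElement_def]; group,
          commutatorElement_eq_one_iff_mul_comm.2 (hzA _ hB), mul_one, mul_inv_cancel, one_mul,
          show ⁅L ((k : K) * a), L ((k : K) * b) * z₂⁆ = ⁅L ((k : K) * a), L ((k : K) * b)⁆ *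
            (L ((k : K) * b) * ⁅L ((k : K) * a), z₂⁆ * (L ((k : K) * b))⁻¹) by simp only [commutatorElement_def]; group,
          commutatorElement_eq_one_iff_mul_comm.2 (hzB _ (by rw [hL]; exact hτmem _)).symm, mul_one,
          mul_inv_cancel, mul_one]
      rw [hval, hval, show d * (M a b * f a b) * d⁻¹ = d * M a b * (f a b * d⁻¹) by group,
        ← central hker (hfker a b) d⁻¹, ← mul_assoc] at h1
      exact (huniq (lift_conj (fun q hq => mul_mem (mul_mem hdH hq) (inv_mem hdH)) (C7_conj hK _ hdH) (hM1 a b))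
        (hM1 _ _) (hfker a b) (hfker _ _) h1).symm
  obtain ⟨h, hh, -, hfix⟩ := exists_h hK π hker hrange false
  refine Good.of_quot hker (C := C7 K m) C7_le hC (H1_conj_X hK) (C7_conj hK) hcc (fun v w hv hw => ?_)
    (torus_comm hK π hker hrange) (X_le_range hK π hrange 7) hh (hfix 7 (by decide) (by decide) hm)
  obtain ⟨t, ⟨c, hc, ev⟩, -⟩ := hco _ hv
  obtain ⟨t', ⟨c', hc', ew⟩, -⟩ := hco _ hw
  obtain ⟨z, hz, rfl⟩ := hC.surj c hc
  obtain ⟨z', hz', rfl⟩ := hC.surj c' hc'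
  have hB : π (L t' * z') ∈ X K m 7 := by rw [map_mul, hL]; exact mul_mem (hτmem _) (C7_le hc')
  rw [comm_congr hK π hker hrange (x' := L t * z) (y' := L t' * z') (by rw [map_mul, hL, ev]) (by rw [map_mul, hL, ew]),
    show ⁅L t * z, L t' * z'⁆ = L t * ⁅z, L t' * z'⁆ * (L t)⁻¹ * ⁅L t, L t' * z'⁆ by
      simp only [commutatorElement_def]; group,
    commutatorElement_eq_one_iff_mul_comm.2 (hcc z hz _ hB), mul_one, mul_inv_cancel, one_mul,
    show ⁅L t, L t' * z'⁆ = ⁅L t, L t'⁆ * (L t' * ⁅L t, z'⁆ * (L t')⁻¹) by simp only [commutatorElement_def]; group,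
    commutatorElement_eq_one_iff_mul_comm.2 (hcc z' hz' _ (by rw [hL]; exact hτmem _)).symm, mul_one,
    mul_inv_cancel, mul_one, hval, hf1, mul_one]
  exact hM1 t t'

theorem good_all : ∀ j : Fin 16, Good π (σF K m).H1 (X K m j) :=
  classInduction (P := fun j => Good π (σF K m).H1 (X K m j)) (good_X0 hK hm π hker hrange)
    (good_X7 hK hm π hker hrange) fun i j h => good_step hK π hker hrange i j h

omit hm in
theorem segX_conj (a b : ℕ) : ∀ h ∈ (σF K m).H1, ∀ x ∈ segX K m a b, h * x * h⁻¹ ∈ segX K m a b :=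
  fun h hh x hx => Subgroup.mem_inf.2 ⟨(RF K).H_conj_span _ hh.1 x (Subgroup.mem_inf.1 hx).1,
    mul_mem (mul_mem hh.2 (Subgroup.mem_inf.1 hx).2) (inv_mem hh.2)⟩

omit hm in
theorem segX_le_range {a b : ℕ} (hb : b ≤ 8) (hab : a ≤ b) : segX K m a b ≤ π.range :=
  seg_fix_le hK b a hb hab fun j _ _ => X_le_range hK π hrange j

theorem good_segX : ∀ a, a ≤ 8 → Good π (σF K m).H1 (segX K m a 8) := by
  set R := rgdF4' hK (m := m) with hR
  intro a ha
  induction hn : 8 - a generalizing a with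
  | zero =>
    obtain rfl : a = 8 := by omega
    rw [segX, seg_self, show spF K [] = ⊥ from sp_nil DataF4.good rootsF4, bot_inf_eq]
    exact Good.bot hker
  | succ n ih =>
    have hlt : a < 8 := by omega
    have hY := ih (a + 1) hlt (by omega)
    refine Good.prod hker (good_all hK hm π hker hrange ⟨a, by omega⟩) hY (H1_conj_X hK)
      (segX_conj hK π hker hrange _ _) (X_le_segX le_rfl hlt)
      (fun x hx => Subgroup.mem_inf.2 ⟨sp_mono DataF4.good rootsF4 (fun r hr => by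
        rw [seg_cons 8 le_rfl a hlt]; exact List.mem_append_right _ hr) (Subgroup.mem_inf.1 hx).1,
        (Subgroup.mem_inf.1 hx).2⟩)
      (fun w hw => segX_split hK le_rfl hlt hw) (fun x h1 h2 => segX_disj hK le_rfl hlt h1 h2)
      (segX_le_range hK π hker hrange le_rfl hlt.le) fun x hx y hy => ?_
    have hxa : π x ∈ X K m ⟨a, by omega⟩ := map_mem_of_lift (H1_conj_X hK) hx
    -- reduce to the generators of the lift
    set S : Subgroup Γ := ⨆ j ∈ {j : Fin 16 | a + 1 ≤ j.val ∧ j.val < 8}, lift π (σF K m).H1 (X K m j) with hS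
    have hSle : lift π (σF K m).H1 (segX K m (a + 1) 8) ≤ S := by
      refine Good.le_of_cover hker hY (segX_conj hK π hker hrange _ _)
        (iSup₂_le fun j hj => lift_mono (X_le_segX hj.1 hj.2)) ?_
      refine seg_fix_le hK 8 (a + 1) le_rfl hlt fun j h1 h2 z hz => ?_
      obtain ⟨u, hu, rfl⟩ := (good_all hK hm π hker hrange j).surj z hz
      exact ⟨u, le_biSup (fun j => lift π (σF K m).H1 (X K m j)) (show j ∈ {j : Fin 16 |
        a + 1 ≤ j.val ∧ j.val < 8} from ⟨h1, h2⟩) hu, rfl⟩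
    refine (?_ : S ≤ (lift π (σF K m).H1 (segX K m (a + 1) 8)).comap (MulAut.conj x).toMonoidHom) (hSle hy)
    refine iSup₂_le fun j ⟨h1, h2⟩ z hz => ?_
    -- a torus element centralising the class a, fixed point free on the class j
    obtain ⟨b, l, hl⟩ : ∃ (b : Bool) (l : List (Fin 2)), R.ww l ⟨hcls b, by cases b <;> decide⟩ = ⟨a, by omega⟩ := by
      have key : ∀ a : Fin 8, ∃ b ∈ [true, false], ∃ l ∈ ([[], [1], [1, 0], [1, 0, 1], [0], [0, 1], [0, 1, 0],
          [0, 1, 0, 1]] : List (List (Fin 2))),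
          (List.foldr wcl ⟨hcls b, by cases b <;> decide⟩ l : Fin 16).val = a.val := by decide +kernel
      obtain ⟨b, -, l, -, hl⟩ := key ⟨a, hlt⟩
      exact ⟨b, l, Fin.ext hl⟩
    obtain ⟨h, hh, hc, hfix⟩ := exists_h hK π hker hrange b
    obtain ⟨n, hn'⟩ := hrange (R.N_le_G (R.nw_mem_N l))
    have hH : π (n * h * n⁻¹) ∈ (σF K m).H1 := by
      rw [map_mul, map_mul, map_inv, hn']; exact R.nw_conj_H l hh
    have hcx : π x * π (n * h * n⁻¹) = π (n * h * n⁻¹) * π x := by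
      have hx' : (R.nw l)⁻¹ * π x * R.nw l ∈ X K m ⟨hcls b, by cases b <;> decide⟩ :=
        (RGD.RootData.mem_map_conj _).1 ((SetLike.ext_iff.1 (R.map_conj_U l _) _).2 (by rw [hl]; exact hxa))
      rw [map_mul, map_mul, map_inv, hn']
      calc π x * (R.nw l * π h * (R.nw l)⁻¹) = R.nw l * ((R.nw l)⁻¹ * π x * R.nw l * π h) * (R.nw l)⁻¹ := by group
        _ = R.nw l * (π h * ((R.nw l)⁻¹ * π x * R.nw l)) * (R.nw l)⁻¹ := by rw [hc _ hx']
        _ = _ := by group
    have hne : (R.ww l.reverse j).val ≠ hcls b ∧ (R.ww l.reverse j).val ≠ hcls b + 8 := by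
      constructor <;> intro e
      · have e' : R.ww l.reverse j = ⟨hcls b, by cases b <;> decide⟩ := Fin.ext e
        have := congrArg (R.ww l) e'
        rw [R.ww_ww_reverse, hl] at this
        rw [this] at h1
        simp at h1
      · have hn8 : ∀ b : Bool, hcls b + 8 = ((⟨hcls b, by cases b <;> decide⟩ : Fin 16) + 8).val := by
          intro b; cases b <;> rfl
        have e' : R.ww l.reverse j = R.neg ⟨hcls b, by cases b <;> decide⟩ := Fin.ext (e.trans (hn8 b))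
        have := congrArg (R.ww l) e'
        rw [R.ww_ww_reverse, R.ww_neg, hl] at this
        have hp : ¬ R.pos (R.neg ⟨a, by omega⟩) := fun hp => (R.pos_neg _).1 hp hlt
        rw [← this] at hp
        exact hp h2
    have hfix' : ∀ u ∈ X K m j, π (n * h * n⁻¹) * u * (π (n * h * n⁻¹))⁻¹ = u → u = 1 := by
      intro u hu he
      rw [map_mul, map_mul, map_inv, hn'] at he
      have hu' : (R.nw l)⁻¹ * u * R.nw l ∈ X K m (R.ww l.reverse j) := by
        refine (RGD.RootData.mem_map_conj _).1 ((R.map_conj_U l _).symm ▸ ?_)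
        rw [R.ww_ww_reverse]; exact hu
      have := hfix _ hne.1 hne.2 hm _ hu' (by
        calc π h * ((R.nw l)⁻¹ * u * R.nw l) * (π h)⁻¹ =
            (R.nw l)⁻¹ * (R.nw l * π h * (R.nw l)⁻¹ * u * (R.nw l * π h * (R.nw l)⁻¹)⁻¹) * R.nw l := by group
          _ = _ := by rw [he])
      calc u = R.nw l * ((R.nw l)⁻¹ * u * R.nw l) * (R.nw l)⁻¹ := by group
        _ = 1 := by rw [this]; group
    obtain ⟨v, hv, rfl⟩ := Good.exists_comm hker (good_all hK hm π hker hrange j) (H1_conj_X hK)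
      (X_le_range hK π hrange j) hH hfix' hz
    exact conj_comm_mem (commute_of_coprime hker (coprime_units hK _) hcx (X_pow hK _ hxa) (H1_pow hK hH)) hH
      (X_conj_segX hK le_rfl hlt hxa (X_le_segX h1 h2 hv))

theorem good_Upos : Good π (σF K m).H1 (rgdF4' hK (m := m)).Upos :=
  Upos_eq_segX hK ▸ good_segX hK hm π hker hrange 0 (Nat.zero_le _)

/-- Rank one data of class 0. -/
theorem rankOne0 (Tl : TorusLift π (rgdF4' hK (m := m))) : Nonempty (RankOneLift Tl 0) := by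
  have hneg : (rgdF4' hK (m := m)).neg ((rgdF4' hK (m := m)).simple 0) = 8 := rfl
  have hy0 : xF K 14 ((1 : K) ^ 2 ^ m) * xF K 23 1 ∈ X K m 8 := (mem_X8_iff hK).2 ⟨1, rfl⟩
  refine RankOneLift.of_orbit hker Tl (good_all hK hm π hker hrange) 0 (y0 := xF K 14 ((1 : K) ^ 2 ^ m) * xF K 23 1)
    (hneg ▸ hy0) ?_ ?_ ?_
  · intro e
    have h := congrArg (fun g => (RF K).nw (W 0) * g * ((RF K).nw (W 0))⁻¹) e
    simp only [mul_one, mul_inv_cancel] at h
    rw [show ∀ A B n : GL chevF4.Idx K, n * (A * B) * n⁻¹ = n * A * n⁻¹ * (n * B * n⁻¹) from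
      fun A B n => by group, nw_conj_xg DataF4.good rootsF4 (W 0) (s := 14) (by decide),
      nw_conj_xg DataF4.good rootsF4 (W 0) (s := 23) (by decide),
      show wwN chevF4 (W 0) 14 = 33 by decide +kernel, show wwN chevF4 (W 0) 23 = 24 by decide +kernel] at h
    have h' : xF K 33 ((1 : K) ^ 2 ^ m) * xF K 24 1 = xF K 33 0 * xF K 24 0 := by
      rw [xF_zero', xF_zero', one_mul]; exact h
    exact one_ne_zero (pair_unique hK h').2
  · have hc : xF K 23 1 * xF K 14 ((1 : K) ^ 2 ^ m) = xF K 14 ((1 : K) ^ 2 ^ m) * xF K 23 1 :=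
      comm_free' hK (r := 14) (s := 23) (by decide) (by decide) (by decide) (by decide) (by decide +kernel) _ _
    rw [show xF K 14 ((1 : K) ^ 2 ^ m) * xF K 23 1 * (xF K 14 ((1 : K) ^ 2 ^ m) * xF K 23 1) =
      xF K 14 ((1 : K) ^ 2 ^ m) * (xF K 23 1 * xF K 14 ((1 : K) ^ 2 ^ m)) * xF K 23 1 by group, hc,
      show ∀ A B : GL chevF4.Idx K, A * (A * B) * B = (A * A) * (B * B) from fun A B => by group,
      xF_add (by decide), xF_add (by decide), CharTwo.add_self_eq_zero,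
      CharTwo.add_self_eq_zero, xF_zero', xF_zero', one_mul]
  · intro y hy hne
    obtain ⟨t, rfl⟩ := (mem_X8_iff hK).1 (hneg ▸ hy)
    have ht : t ≠ 0 := by
      rintro rfl
      exact hne (by simp [xF_zero'])
    obtain ⟨a, -, -, ha, -, -⟩ := exists_scale hK π hker hrange (Units.mk0 t ht)⁻¹
    refine ⟨tH m ((a, 1) : Kˣ × Kˣ), (mem_H1_iff hK).2 ⟨_, rfl⟩, ?_⟩
    have h23 : cH m ((a, 1) : Kˣ × Kˣ) 23 = Units.mk0 t ht := by
      have : cH m ((a, 1) : Kˣ × Kˣ) (chevF4.neg 24) = (a ^ 2)⁻¹ := by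
        show ChevOrder.chi (D := chevF4) _ _ = _
        rw [tF_conj.chi_neg _ 24 (by decide)]
        exact congrArg _ (chi_tH hK a).1
      rw [show chevF4.neg 24 = 23 by decide +kernel] at this
      rw [this, ha, inv_inv]
    obtain ⟨t', ht'⟩ := (mem_X8_iff hK).1 (H1_conj_X hK _ ((mem_H1_iff hK).2 ⟨((a, 1) : Kˣ × Kˣ), rfl⟩) _ hy0)
    have e := ht'
    rw [show ∀ A B n : GL chevF4.Idx K, n * (A * B) * n⁻¹ = n * A * n⁻¹ * (n * B * n⁻¹) from
      fun A B n => by group, tH_conj_xF hK _ (r := 14) (by decide), tH_conj_xF hK _ (r := 23) (by decide), h23] at e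
    have h' := congrArg (fun g => (RF K).nw (W 0) * g * ((RF K).nw (W 0))⁻¹) e
    simp only [show ∀ A B n : GL chevF4.Idx K, n * (A * B) * n⁻¹ = n * A * n⁻¹ * (n * B * n⁻¹) from
      fun A B n => by group, nw_conj_xg DataF4.good rootsF4 (W 0) (s := 14) (by decide),
      nw_conj_xg DataF4.good rootsF4 (W 0) (s := 23) (by decide),
      show wwN chevF4 (W 0) 14 = 33 by decide +kernel, show wwN chevF4 (W 0) 23 = 24 by decide +kernel] at h'
    have := (pair_unique hK h').2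
    rw [Units.val_mk0, mul_one] at this
    rw [ht', ← this]

end Good

end Cfsg.Agent.Twisted.F4
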