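/-
Twisted groups, part 25: the Suzuki subgroup of ²F₄ and its rank one data.

* `phi` : the representation on four root vectors;
* `phi_X7`, `phi_X15`, `phi_H` : its values;
* `Lv_form`, `phi_inj` : it is faithful on the Levi subgroup;
* `exists_szHom` : the subgroup `S7` generated by classes 7 and 15 is `Sz(q)`;
* `rankOne1` : rank one data of class 7.
-/
import Cfsg.Agent.Lib.Twisted.F4Lift
import Cfsg.Agent.Lib.Twisted.Chain
import Cfsg.Agent.Lib.Suzuki.Partition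
import Cfsg.Agent.Lib.Suzuki.LieModel
import Cfsg.Agent.Lib.Suzuki.Borel
import Cfsg.Agent.Lib.Suzuki.Multiplier

set_option autoImplicit false
set_option maxRecDepth 10000
set_option linter.unusedSectionVars false
set_option linter.style.haveILetI false

open scoped commutatorElement

namespace Cfsg.Agent.Twisted.F4

open Cfsg.Lie Cfsg.Lie.ChevalleyDatum Cfsg.Agent.Chev Cfsg.Agent.ChevBN Matrix
open Cfsg.Agent.CentralLift

/-- The roots of a four dimensional string over the B₂ subsystem of class 7. -/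
def J (i : Fin 4) : chevF4.Idx :=
  Sum.inr (if i = 0 then ⟨11, by decide⟩ else if i = 1 then ⟨9, by decide⟩ else if i = 2 then ⟨8, by decide⟩
    else ⟨7, by decide⟩)

theorem J_inj : Function.Injective J := by
  intro i j h
  fin_cases i <;> fin_cases j <;> first | rfl | exact absurd h (by decide)

/-- The off-diagonal positions of a root element on the string. -/
def off (r : ℕ) : List (Fin 4 × Fin 4) :=
  if r = 27 then [(2, 3), (0, 1)] else if r = 25 then [(1, 2)] else if r = 28 then [(1, 3), (0, 2)]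
  else if r = 30 then [(0, 3)] else if r = 20 then [(1, 0), (3, 2)] else if r = 22 then [(2, 1)]
  else if r = 19 then [(3, 1), (2, 0)] else if r = 17 then [(3, 0)] else []

theorem colT_J : ∀ r ∈ [27, 25, 28, 30, 20, 22, 19, 17], ∀ k : Fin 4,
    (colT chevF4 r (J k)).map (fun x => (x.1, x.2 % 2)) =
      ((Twisted.key chevF4 (J k), 0), 1) ::
        ((off r).filter fun p => p.2 = k).map fun p => ((Twisted.key chevF4 (J p.1), 1), 1) := by
  decide +kernel

variable {K : Type*} [Field K] [CharP K 2]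

theorem bv_key (a : chevF4.Idx) : bv chevF4 K (Twisted.key chevF4 a) = Pi.single a 1 := by
  ext b
  simp [bv, Pi.single_apply, (Twisted.key_injective chevF4).eq_iff]

theorem x_col {r : ℕ} (hr : r ∈ [27, 25, 28, 30, 20, 22, 19, 17]) (t : K) (k : Fin 4) (a : chevF4.Idx) :
    (xF K r t : Matrix chevF4.Idx chevF4.Idx K) a (J k) =
      (Pi.single (J k) (1 : K) : chevF4.Idx → K) a +
        ((((off r).filter fun p => p.2 = k).map fun p => t • (Pi.single (J p.1) (1 : K) : chevF4.Idx → K)).sum) a := by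
  have hlt : r < chevF4.nroots := by fin_cases hr <;> decide
  have h := congrFun (colT_spec DataF4.good hlt t (J k) (R := K)) a
  rw [← x_eq_xR chevF4 hlt, Matrix.mulVec_single_one, Matrix.col_apply] at h
  rw [coe_xg, h]
  have hc : ∀ c : ℤ, (c : K) = ((c % 2 : ℤ) : K) := fun c => by
    conv_lhs => rw [← Int.emod_add_mul_ediv c 2, Int.cast_add, Int.cast_mul,
      show ((2 : ℤ) : K) = 0 by rw [Int.cast_ofNat]; exact CharTwo.two_eq_zero]
    rw [zero_mul, add_zero]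
  have e : ((colT chevF4 r (J k)).map fun x : (Key chevF4 × ℕ) × ℤ => ((x.2 : K) * t ^ x.1.2) • bv chevF4 K x.1.1) =
      ((colT chevF4 r (J k)).map (fun x => (x.1, x.2 % 2))).map fun x : (Key chevF4 × ℕ) × ℤ => ((x.2 : K) * t ^ x.1.2) • bv chevF4 K x.1.1 := by
    rw [List.map_map]
    exact List.map_congr_left fun x _ => by simp only [Function.comp_apply]; rw [hc x.2]
  rw [e, colT_J r hr k, List.map_cons, List.sum_cons, List.map_map, Pi.add_apply]
  congr 1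
  · simp [bv_key]
  · refine congrFun (congrArg List.sum (List.map_congr_left fun p _ => ?_)) a
    simp [bv_key]

variable [Fintype K]

/-- The stabiliser of the span of the four root vectors. -/
noncomputable def Stab (K : Type*) [Field K] [Fintype K] : Subgroup (GL chevF4.Idx K) :=
  let M : Submonoid (GL chevF4.Idx K) :=
    { carrier := {g | ∀ k a, (∀ i, J i ≠ a) → (g : Matrix chevF4.Idx chevF4.Idx K) a (J k) = 0}
      one_mem' := fun k a ha => by simp [Matrix.one_apply, Ne.symm (ha k)]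
      mul_mem' := fun {g h} hg hh k a ha => by
        rw [Units.val_mul, Matrix.mul_apply]
        refine Finset.sum_eq_zero fun b _ => ?_
        by_cases hb : ∀ i, J i ≠ b
        · rw [hh k b hb, mul_zero]
        · push Not at hb
          obtain ⟨i, rfl⟩ := hb
          rw [hg i a ha, zero_mul] }
  { M with
    inv_mem' := fun {g} hg => by
      have h1 : 1 ≤ Nat.card (GL chevF4.Idx K) := Nat.card_pos
      rw [show g⁻¹ = g ^ (Nat.card (GL chevF4.Idx K) - 1) from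
        inv_eq_of_mul_eq_one_right (by rw [← pow_succ', Nat.sub_add_cancel h1, pow_card_eq_one'])]
      exact M.pow_mem hg _ }

/-- The representation on the four root vectors. -/
noncomputable def phi (K : Type*) [Field K] [Fintype K] : ↥(Stab K) →* Matrix (Fin 4) (Fin 4) K where
  toFun g := (g.1 : Matrix chevF4.Idx chevF4.Idx K).submatrix J J
  map_one' := by simp [Matrix.submatrix_one J J_inj]
  map_mul' g h := by
    ext i k
    rw [Matrix.submatrix_apply, Subgroup.coe_mul, Units.val_mul, Matrix.mul_apply, Matrix.mul_apply]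
    refine (Finset.sum_of_injOn J J_inj.injOn (fun _ _ => Finset.mem_univ _) (fun b _ hb => ?_)
      (fun _ _ => rfl)).symm
    rw [h.2 k b (fun j e => hb ⟨j, Finset.mem_univ _, e⟩), mul_zero]

theorem x_mem_Stab {r : ℕ} (hr : r ∈ [27, 25, 28, 30, 20, 22, 19, 17]) (t : K) : xF K r t ∈ Stab K := by
  intro k a ha
  rw [x_col hr, Pi.single_eq_of_ne (Ne.symm (ha k)), zero_add]
  generalize (off r).filter (fun p => p.2 = k) = l
  induction l with
  | nil => simp
  | cons p l ih =>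
    rw [List.map_cons, List.sum_cons, Pi.add_apply, ih, Pi.smul_apply, Pi.single_eq_of_ne (Ne.symm (ha p.1))]
    simp

theorem phi_x {r : ℕ} (hr : r ∈ [27, 25, 28, 30, 20, 22, 19, 17]) (t : K) :
    phi K ⟨xF K r t, x_mem_Stab hr t⟩ = 1 + ((off r).map fun p => Matrix.single p.1 p.2 t).sum := by
  ext i k
  show (xF K r t : Matrix chevF4.Idx chevF4.Idx K) (J i) (J k) = _
  rw [x_col hr, Matrix.add_apply]
  congr 1
  · simp [Matrix.one_apply, Pi.single_apply, J_inj.eq_iff]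
  · generalize off r = l
    induction l with
    | nil => simp
    | cons p l ih =>
      rw [List.map_cons, List.sum_cons, Matrix.add_apply, ← ih, List.filter_cons]
      by_cases hp : p.2 = k
      · subst hp
        simp [Matrix.single_apply, Pi.single_apply, J_inj.eq_iff, eq_comm]
      · simp [Matrix.single_apply, hp]

variable {m : ℕ} (hK : Fintype.card K = 2 ^ (2 * m + 1))
include hK

theorem phi_X7 (t u : K) :
    ∃ h, phi K ⟨xF K 27 (t ^ 2 ^ m) * xF K 25 t * xF K 28 (t ^ (2 ^ m + 1) + u) * xF K 30 (u ^ (2 * 2 ^ m)), h⟩ =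
      Suzuki.tMat m (t ^ 2 ^ m) (t ^ (2 ^ m + 1) + u) := by
  refine ⟨mul_mem (mul_mem (mul_mem (x_mem_Stab (by simp) _) (x_mem_Stab (by simp) _)) (x_mem_Stab (by simp) _))
    (x_mem_Stab (by simp) _), ?_⟩
  rw [show (⟨xF K 27 (t ^ 2 ^ m) * xF K 25 t * xF K 28 (t ^ (2 ^ m + 1) + u) * xF K 30 (u ^ (2 * 2 ^ m)), _⟩ :
      ↥(Stab K)) = ⟨_, x_mem_Stab (r := 27) (by simp) (t ^ 2 ^ m)⟩ * ⟨_, x_mem_Stab (r := 25) (by simp) t⟩ *
      ⟨_, x_mem_Stab (r := 28) (by simp) (t ^ (2 ^ m + 1) + u)⟩ *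
      ⟨_, x_mem_Stab (r := 30) (by simp) (u ^ (2 * 2 ^ m))⟩ from rfl, map_mul, map_mul, map_mul, phi_x (by simp),
    phi_x (by simp), phi_x (by simp), phi_x (by simp)]
  have hth : Suzuki.th m (t ^ 2 ^ m) = t := by
    rw [Suzuki.th, pow_succ', pow_e_e hK]
  have hth2 : Suzuki.th m (t ^ (2 ^ m + 1) + u) = t * t ^ (2 * 2 ^ m) + u ^ (2 * 2 ^ m) := by
    rw [Suzuki.th, pow_succ' 2 m, mem_X7_iff.add_pow_char_pow_two, pow_succ t, mul_pow, pow_e_e hK]
  have h22 : (t ^ 2 ^ m) ^ 2 = t ^ (2 * 2 ^ m) := by rw [← pow_mul, mul_comm]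
  have h3 : (3 : K) = 1 := by linear_combination (CharTwo.two_eq_zero : (2 : K) = 0)
  ext i k
  fin_cases i <;> fin_cases k <;>
    simp [off, Suzuki.tMat, Suzuki.fz, hth, hth2, h22, Matrix.mul_apply, Fin.sum_univ_four, Matrix.single_apply,
      Matrix.one_apply] <;> (ring_nf; try simp [h3, CharTwo.two_eq_zero])

theorem phi_X15 (t u : K) :
    ∃ h, phi K ⟨xF K 20 (t ^ 2 ^ m) * xF K 22 t * xF K 19 (t ^ (2 ^ m + 1) + u) * xF K 17 (u ^ (2 * 2 ^ m)), h⟩ =
      (Suzuki.tMat m (t ^ 2 ^ m) (t ^ (2 ^ m + 1) + u)).submatrix Fin.rev Fin.rev := by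
  refine ⟨mul_mem (mul_mem (mul_mem (x_mem_Stab (by simp) _) (x_mem_Stab (by simp) _)) (x_mem_Stab (by simp) _))
    (x_mem_Stab (by simp) _), ?_⟩
  rw [show (⟨xF K 20 (t ^ 2 ^ m) * xF K 22 t * xF K 19 (t ^ (2 ^ m + 1) + u) * xF K 17 (u ^ (2 * 2 ^ m)), _⟩ :
      ↥(Stab K)) = ⟨_, x_mem_Stab (r := 20) (by simp) (t ^ 2 ^ m)⟩ * ⟨_, x_mem_Stab (r := 22) (by simp) t⟩ *
      ⟨_, x_mem_Stab (r := 19) (by simp) (t ^ (2 ^ m + 1) + u)⟩ *
      ⟨_, x_mem_Stab (r := 17) (by simp) (u ^ (2 * 2 ^ m))⟩ from rfl, map_mul, map_mul, map_mul, phi_x (by simp),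
    phi_x (by simp), phi_x (by simp), phi_x (by simp)]
  have hth : Suzuki.th m (t ^ 2 ^ m) = t := by
    rw [Suzuki.th, pow_succ', pow_e_e hK]
  have hth2 : Suzuki.th m (t ^ (2 ^ m + 1) + u) = t * t ^ (2 * 2 ^ m) + u ^ (2 * 2 ^ m) := by
    rw [Suzuki.th, pow_succ' 2 m, mem_X7_iff.add_pow_char_pow_two, pow_succ t, mul_pow, pow_e_e hK]
  have h22 : (t ^ 2 ^ m) ^ 2 = t ^ (2 * 2 ^ m) := by rw [← pow_mul, mul_comm]
  have h3 : (3 : K) = 1 := by linear_combination (CharTwo.two_eq_zero : (2 : K) = 0)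
  ext i k
  fin_cases i <;> fin_cases k <;>
    simp [off, Suzuki.tMat, Suzuki.fz, hth, hth2, h22, Matrix.mul_apply, Fin.sum_univ_four, Matrix.single_apply,
      Matrix.one_apply] <;> (ring_nf; try simp [h3, CharTwo.two_eq_zero])

theorem phi_H (x : Kˣ × Kˣ) :
    ∃ h, phi K ⟨tH m x, h⟩ = Matrix.diagonal (fun i : Fin 4 => (cH m x (![11, 9, 8, 7] i) : K)) := by
  have hJ : ∀ i : Fin 4, J i = Sum.inr ⟨(![11, 9, 8, 7] i : ℕ), by fin_cases i <;> decide⟩ := by
    intro i; fin_cases i <;> rfl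
  have hco : (tH m x : Matrix chevF4.Idx chevF4.Idx K) = ChevBN.dg (cH m x) := ChevOrder.coe_torusHom _
  have hd : ∀ a b, a ≠ b → (tH m x : Matrix chevF4.Idx chevF4.Idx K) a b = 0 := by
    intro a b hab
    rw [hco, ChevBN.dg, Matrix.diagonal_apply_ne _ hab]
  refine ⟨fun k a ha => hd a (J k) (Ne.symm (ha k)), ?_⟩
  ext i k
  show (tH m x : Matrix chevF4.Idx chevF4.Idx K) (J i) (J k) = _
  rcases eq_or_ne i k with rfl | hne
  · rw [Matrix.diagonal_apply_eq, hco, ChevBN.dg, Matrix.diagonal_apply_eq,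
      hJ i]
    rfl
  · rw [Matrix.diagonal_apply_ne _ hne, hd _ _ (fun e => hne (J_inj e))]

/-- The subgroup generated by classes 7 and 15. -/
noncomputable def S7 (K : Type*) [Field K] [CharP K 2] (m : ℕ) : Subgroup (GL chevF4.Idx K) := X K m 7 ⊔ X K m 15

theorem S7_le_Stab : S7 K m ≤ Stab K := by
  refine sup_le (fun g hg => ?_) (fun g hg => ?_)
  · obtain ⟨t, u, rfl⟩ := (mem_X7_iff hK).1 hg
    exact (phi_X7 hK t u).1
  · obtain ⟨t, u, rfl⟩ := (mem_X15_iff hK).1 hg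
    exact (phi_X15 hK t u).1

/-- Normal form in the Levi subgroup. -/
theorem Lv_form {g : GL chevF4.Idx K} (hg : g ∈ S7 K m ⊔ (σF K m).H1) :
    ∃ a ∈ X K m 7, ∃ h ∈ (σF K m).H1, g = a * h ∨ ∃ c ∈ X K m 7, g = a * h * (RF K).nw (W 1) * c := by
  set n := (RF K).nw (W 1) with hn
  set R := rgdF4' hK (m := m) with hR
  let P : GL chevF4.Idx K → Prop := fun g =>
    ∃ a ∈ X K m 7, ∃ h ∈ (σF K m).H1, g = a * h ∨ ∃ c ∈ X K m 7, g = a * h * n * c
  have hnn : n * n = 1 := nW_sq 1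
  have hHX : ∀ h ∈ (σF K m).H1, ∀ a ∈ X K m 7, h * a * h⁻¹ ∈ X K m 7 := H1_conj_X hK
  have hHX' : ∀ h ∈ (σF K m).H1, ∀ a ∈ X K m 7, h⁻¹ * a * h ∈ X K m 7 := fun h hh a ha => by
    simpa using H1_conj_X hK h⁻¹ (inv_mem hh) a ha
  have hnH : ∀ h ∈ (σF K m).H1, n * h * n ∈ (σF K m).H1 := fun h hh => by
    have := nW_conj_H1 hK 1 hh
    rwa [nW_inv] at this
  have hX15 : ∀ a ∈ X K m 7, n * a * n ∈ X K m 15 := fun a ha => by
    have := nW_conj_X (K := K) (m := m) 1 7 ha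
    rwa [nW_inv, show wcl 1 (7 : Fin 16) = 15 by decide] at this
  have leftX : ∀ b ∈ X K m 7, ∀ g, P g → P (b * g) := by
    rintro b hb g ⟨a, ha, h, hh, rfl | ⟨c, hc, rfl⟩⟩
    · exact ⟨b * a, mul_mem hb ha, h, hh, Or.inl (mul_assoc _ _ _).symm⟩
    · exact ⟨b * a, mul_mem hb ha, h, hh, Or.inr ⟨c, hc, by group⟩⟩
  have leftH : ∀ k ∈ (σF K m).H1, ∀ g, P g → P (k * g) := by
    rintro k hk g ⟨a, ha, h, hh, rfl | ⟨c, hc, rfl⟩⟩
    · exact ⟨k * a * k⁻¹, hHX k hk a ha, k * h, mul_mem hk hh, Or.inl (by group)⟩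
    · exact ⟨k * a * k⁻¹, hHX k hk a ha, k * h, mul_mem hk hh, Or.inr ⟨c, hc, by group⟩⟩
  have leftn : ∀ g, P g → P (n * g) := by
    rintro g ⟨a, ha, h, hh, rfl | ⟨c, hc, rfl⟩⟩
    · refine ⟨1, one_mem _, n * h * n, hnH h hh, Or.inr ⟨h⁻¹ * a * h, hHX' h hh a ha, ?_⟩⟩
      calc n * (a * h) = n * h * (n * n) * (h⁻¹ * a * h) := by rw [hnn]; group
        _ = _ := by group
    · set h2 := n * h * n with hh2
      have e : n * (a * h * n * c) = n * a * n * h2 * c := by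
        calc n * (a * h * n * c) = n * a * (n * n) * h * n * c := by rw [hnn]; group
          _ = _ := by rw [hh2]; group
      rw [e]
      by_cases hy : n * a * n = 1
      · refine ⟨h2 * c * h2⁻¹, hHX _ (hnH h hh) c hc, h2, hnH h hh, Or.inl ?_⟩
        rw [hy]; group
      · obtain ⟨a', ha', h', hh', c', hc', e'⟩ := R.rank_one 1 (n * a * n) (hX15 a ha) hy
        refine ⟨a', ha', h' * (n * h2 * n), mul_mem hh' (hnH _ (hnH h hh)),
          Or.inr ⟨h2⁻¹ * c' * h2 * c, mul_mem (hHX' _ (hnH h hh) c' hc') hc, ?_⟩⟩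
        rw [e']
        calc a' * h' * n * c' * h2 * c = a' * h' * n * h2 * (h2⁻¹ * c' * h2 * c) := by group
          _ = a' * h' * n * h2 * (n * n) * (h2⁻¹ * c' * h2 * c) := by rw [hnn]; group
          _ = _ := by group
  let Q : Subgroup (GL chevF4.Idx K) :=
    { carrier := {g | (∀ x, P x → P (g * x)) ∧ ∀ x, P x → P (g⁻¹ * x)}
      one_mem' := ⟨fun x hx => by simpa using hx, fun x hx => by simpa using hx⟩
      mul_mem' := fun {g k} hg hk => ⟨fun x hx => by rw [mul_assoc]; exact hg.1 _ (hk.1 x hx),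
        fun x hx => by rw [_root_.mul_inv_rev, mul_assoc]; exact hk.2 _ (hg.2 x hx)⟩
      inv_mem' := fun {g} hg => ⟨hg.2, fun x hx => by rw [inv_inv]; exact hg.1 x hx⟩ }
  have h7 : X K m 7 ≤ Q := fun b hb => ⟨leftX b hb, leftX _ (inv_mem hb)⟩
  have hle : S7 K m ⊔ (σF K m).H1 ≤ Q := by
    refine sup_le (sup_le h7 ?_) fun k hk => ⟨leftH k hk, leftH _ (inv_mem hk)⟩
    intro y hy
    have hnQ : n ∈ Q := ⟨leftn, by rw [inv_eq_of_mul_eq_one_right hnn]; exact leftn⟩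
    have hy' := nW_conj_X (K := K) (m := m) 1 15 hy
    rw [show wcl 1 (15 : Fin 16) = 7 by decide] at hy'
    rw [show y = n⁻¹ * (n * y * n⁻¹) * n by group]
    exact mul_mem (mul_mem (inv_mem hnQ) (h7 hy')) hnQ
  have := (hle hg).1 1 ⟨1, one_mem _, 1, one_mem _, Or.inl (mul_one 1).symm⟩
  rwa [mul_one] at this

theorem Lv_le_Stab : S7 K m ⊔ (σF K m).H1 ≤ Stab K :=
  sup_le (S7_le_Stab hK) fun g hg => by
    obtain ⟨x, rfl⟩ := (mem_H1_iff hK).1 hg
    exact (phi_H hK x).1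

/-- The representation on the Levi subgroup. -/
noncomputable def phiL : ↥(S7 K m ⊔ (σF K m).H1) →* Matrix (Fin 4) (Fin 4) K :=
  (phi K).comp (Subgroup.inclusion (Lv_le_Stab hK))

theorem phi_inj {g : ↥(S7 K m ⊔ (σF K m).H1)} (hg1 : phiL hK g = 1) : g = 1 := by
  obtain ⟨g, hg⟩ := g
  set Lv := S7 K m ⊔ (σF K m).H1 with hLv
  have mX : ∀ {a}, a ∈ X K m 7 → a ∈ Lv := fun ha => Subgroup.mem_sup_left (Subgroup.mem_sup_left ha)
  have mY : ∀ {a}, a ∈ X K m 15 → a ∈ Lv := fun ha => Subgroup.mem_sup_left (Subgroup.mem_sup_right ha)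
  have mH : ∀ {a}, a ∈ (σF K m).H1 → a ∈ Lv := fun ha => Subgroup.mem_sup_right ha
  have upX : ∀ a (ha : a ∈ X K m 7), (∀ i j : Fin 4, j < i → phiL hK ⟨a, mX ha⟩ i j = 0) ∧
      (∀ i, phiL hK ⟨a, mX ha⟩ i i = 1) ∧ (phiL hK ⟨a, mX ha⟩ = 1 → a = 1) := by
    intro a ha
    obtain ⟨t, u, rfl⟩ := (mem_X7_iff hK).1 ha
    obtain ⟨h, e⟩ := phi_X7 hK t u
    rw [show phiL hK ⟨_, mX ha⟩ = Suzuki.tMat m (t ^ 2 ^ m) (t ^ (2 ^ m + 1) + u) from e]
    refine ⟨fun i j hij => ?_, fun i => ?_, fun h1 => ?_⟩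
    · fin_cases i <;> fin_cases j <;> simp [Suzuki.tMat] at hij ⊢
    · fin_cases i <;> simp [Suzuki.tMat]
    · have ht : t = 0 := by
        have := congrFun (congrFun h1 0) 1
        simpa [Suzuki.tMat] using this
      have hu : u = 0 := by
        have := congrFun (congrFun h1 1) 3
        simpa [Suzuki.tMat, ht] using this
      simp [ht, hu, xF_zero']
  have dgH : ∀ k (hk : k ∈ (σF K m).H1), (∀ i j : Fin 4, i ≠ j → phiL hK ⟨k, mH hk⟩ i j = 0) ∧
      ((∀ i, phiL hK ⟨k, mH hk⟩ i i = 1) → k = 1) := by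
    intro k hk
    obtain ⟨x, rfl⟩ := (mem_H1_iff hK).1 hk
    obtain ⟨h, e⟩ := phi_H hK x
    rw [show phiL hK ⟨_, mH hk⟩ = Matrix.diagonal (fun i : Fin 4 => (cH m x (![11, 9, 8, 7] i) : K)) from e]
    refine ⟨fun i j hij => Matrix.diagonal_apply_ne _ hij, fun h1 => ?_⟩
    have h7 : cH m x 7 = 1 := Units.ext (by simpa using h1 3)
    have h8 : cH m x 8 = 1 := Units.ext (by simpa using h1 2)
    have hc : ∀ i < 4, chevF4.cartan i 7 = ([1, -1, 0, 0] : List ℤ).getD i 0 ∧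
        chevF4.cartan i 8 = ([0, 1, -1, 0] : List ℤ).getD i 0 := by decide +kernel
    obtain ⟨a0, b0⟩ := hc 0 (by norm_num)
    obtain ⟨a1, b1⟩ := hc 1 (by norm_num)
    obtain ⟨a2, b2⟩ := hc 2 (by norm_num)
    obtain ⟨a3, b3⟩ := hc 3 (by norm_num)
    have hb : x.2 ^ ((2 : ℤ) ^ m - 1) = 1 := by
      rw [cH_eq, b0, b1, b2, b3] at h8
      simpa [sub_eq_add_neg] using h8
    have hb1 : x.2 = 1 := by
      have hp := units_zpow hK (K := K) x.2
      have h2 : x.2 ^ (((2 : ℤ) ^ m - 1) * (2 * 2 ^ m + 2)) = 1 := by rw [_root_.zpow_mul, hb, _root_.one_zpow]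
      rw [show (2 * (2 : ℤ) ^ m * 2 ^ m - 1) = ((2 : ℤ) ^ m - 1) * (2 * 2 ^ m + 2) + 1 by ring, _root_.zpow_add, h2,
        one_mul, zpow_one] at hp
      exact hp
    have ha1 : x.1 = 1 := by
      rw [cH_eq, a0, a1, a2, a3, hb1] at h7
      have h7' : x.1 ^ 2 ^ m = 1 := by simpa [← zpow_natCast] using h7
      rw [← pow_e_e' hK x.1, h7', one_pow]
    rw [show x = (1 : Kˣ × Kˣ) from Prod.ext ha1 hb1, tH_one hK]
  -- an upper triangular value on the opposite root group forces triviality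
  have lowY : ∀ y (hy : y ∈ X K m 15), (∀ i j : Fin 4, j < i → phiL hK ⟨y, mY hy⟩ i j = 0) → y = 1 := by
    intro y hy hup
    obtain ⟨t, u, rfl⟩ := (mem_X15_iff hK).1 hy
    obtain ⟨h, e⟩ := phi_X15 hK t u
    rw [show phiL hK ⟨_, mY hy⟩ = (Suzuki.tMat m (t ^ 2 ^ m) (t ^ (2 ^ m + 1) + u)).submatrix Fin.rev Fin.rev
      from e] at hup
    have ht : t = 0 := by
      have := hup 3 2 (by decide)
      simpa [Suzuki.tMat] using this
    have hu : u = 0 := by
      have := hup 2 0 (by decide)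
      simpa [Suzuki.tMat, ht] using this
    simp [ht, hu, xF_zero']
  -- upper triangular values
  have upmul : ∀ A B : Matrix (Fin 4) (Fin 4) K, (∀ i j, j < i → A i j = 0) → (∀ i j, j < i → B i j = 0) →
      ∀ i j, j < i → (A * B) i j = 0 := by
    intro A B hA hB i j hij
    rw [Matrix.mul_apply]
    refine Finset.sum_eq_zero fun l _ => ?_
    rcases lt_or_ge l i with hl | hl
    · rw [hA i l hl, zero_mul]
    · rw [hB l j (lt_of_lt_of_le hij hl), mul_zero]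
  have upAH : ∀ a (ha : a ∈ X K m 7) k (hk : k ∈ (σF K m).H1),
      ∀ i j : Fin 4, j < i → phiL hK (⟨a, mX ha⟩ * ⟨k, mH hk⟩) i j = 0 := by
    intro a ha k hk i j hij
    rw [map_mul]
    exact upmul _ _ (upX a ha).1 (fun i j hij => (dgH k hk).1 i j (ne_of_gt hij)) i j hij
  obtain ⟨a, ha, h, hh, e | ⟨c, hc, e⟩⟩ := Lv_form hK hg
  · subst e
    have e2 : phiL hK ⟨a, mX ha⟩ * phiL hK ⟨h, mH hh⟩ = 1 := by rw [← map_mul]; exact hg1
    have hdiag : ∀ i, phiL hK ⟨h, mH hh⟩ i i = 1 := by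
      intro i
      have := congrFun (congrFun e2 i) i
      rw [Matrix.mul_apply, Finset.sum_eq_single i (fun l _ hl => by rw [(dgH h hh).1 l i hl, mul_zero])
        (fun hi => absurd (Finset.mem_univ i) hi), (upX a ha).2.1 i, one_mul, Matrix.one_apply_eq] at this
      exact this
    have h1 := (dgH h hh).2 hdiag
    subst h1
    rw [show (⟨(1 : GL chevF4.Idx K), mH hh⟩ : ↥Lv) = 1 from rfl, map_one, mul_one] at e2
    have ha1 := (upX a ha).2.2 e2
    subst ha1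
    exact Subtype.ext (one_mul _)
  · exfalso
    obtain ⟨y, hy, hne⟩ : ∃ y ∈ X K m 15, y ≠ 1 := by
      obtain ⟨⟨y, hy⟩, h⟩ := Subgroup.ne_bot_iff_exists_ne_one.1 (X_ne_bot hK (m := m) 15)
      exact ⟨y, hy, fun e => h (Subtype.ext e)⟩
    obtain ⟨a0, ha0, h0, hh0, c0, hc0, e0⟩ := (rgdF4' hK (m := m)).rank_one 1 y hy hne
    -- y = (a₀ h₀) (a h)⁻¹ g c⁻¹ c₀
    have hyg : (⟨y, mY hy⟩ : ↥Lv) = ⟨a0, mX ha0⟩ * ⟨h0, mH hh0⟩ * (⟨a, mX ha⟩ * ⟨h, mH hh⟩)⁻¹ * ⟨g, hg⟩ *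
        (⟨c, mX hc⟩⁻¹ * ⟨c0, mX hc0⟩) := by
      refine Subtype.ext ?_
      show y = a0 * h0 * (a * h)⁻¹ * g * (c⁻¹ * c0)
      rw [e, e0]
      show a0 * h0 * (RF K).nw (W 1) * c0 = _
      group
    have hinv : (⟨a, mX ha⟩ * ⟨h, mH hh⟩ : ↥Lv)⁻¹ =
        ⟨h⁻¹, mH (inv_mem hh)⟩ * ⟨a⁻¹, mX (inv_mem ha)⟩ := _root_.mul_inv_rev _ _
    refine hne (lowY y hy fun i j hij => ?_)
    rw [hyg, map_mul, map_mul, hg1, mul_one]
    refine upmul _ _ (fun i j hij => ?_) (fun i j hij => ?_) i j hij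
    · rw [hinv, map_mul]
      refine upmul _ _ (upAH a0 ha0 h0 hh0) (fun i j hij => ?_) i j hij
      rw [map_mul]
      exact upmul _ _ (fun i j hij => (dgH _ (inv_mem hh)).1 i j (ne_of_gt hij)) (upX _ (inv_mem ha)).1 i j hij
    · rw [map_mul]
      exact upmul _ _ (upX _ (inv_mem hc)).1 (upX c0 hc0).1 i j hij

theorem form_conj (M : Matrix (Fin 4) (Fin 4) K) :
    suzukiForm K * M * suzukiForm K = M.submatrix Fin.rev Fin.rev := by
  ext i k
  fin_cases i <;> fin_cases k <;>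
    simp [suzukiForm, Matrix.vecMul, dotProduct, Fin.sum_univ_four, Matrix.mul_apply]

/-- The isomorphism with the Suzuki group. -/
theorem exists_szHom (hm : 1 ≤ m) :
    ∃ ψ : ↥(S7 K m) →* Cfsg.Sz K m, Function.Injective ψ ∧ Function.Surjective ψ ∧
      (∀ g : ↥(S7 K m), (g : GL chevF4.Idx K) ∈ X K m 7 ↔ ψ g ∈ Suzuki.uSub hK) := by
  set f : ↥(S7 K m) →* GL (Fin 4) K :=
    MonoidHom.toHomUnits ((phiL hK).comp (Subgroup.inclusion le_sup_left)) with hf
  have hfv : ∀ g, (f g : Matrix (Fin 4) (Fin 4) K) =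
      phiL hK (Subgroup.inclusion le_sup_left g) := fun g => rfl
  set F := Suzuki.lieHom K m with hF
  have hFinj : Function.Injective F := Suzuki.lieHom_injective
  have h7 : ∀ g : ↥(S7 K m), (g : GL chevF4.Idx K) ∈ X K m 7 → ∃ s ∈ Suzuki.uSub hK, F s = f g := by
    rintro ⟨g, hg⟩ hg7
    obtain ⟨t, u, rfl⟩ := (mem_X7_iff hK).1 hg7
    obtain ⟨h, e⟩ := phi_X7 hK t u
    exact ⟨_, Suzuki.tSz_mem_uSub hK (t ^ 2 ^ m) (t ^ (2 ^ m + 1) + u), Units.ext (by rw [hfv]; exact e.symm)⟩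
  have h15 : ∀ g : ↥(S7 K m), (g : GL chevF4.Idx K) ∈ X K m 15 → ∃ t u : K,
      F (Suzuki.wSz hK * Suzuki.tSz hK t u * Suzuki.wSz hK) = f g ∧
      (g : GL chevF4.Idx K) = xF K 20 ((t ^ (2 * 2 ^ m)) ^ 2 ^ m) * xF K 22 (t ^ (2 * 2 ^ m)) *
        xF K 19 (u) * xF K 17 ((u + (t ^ (2 * 2 ^ m)) ^ (2 ^ m + 1)) ^ (2 * 2 ^ m)) := by
    rintro ⟨g, hg⟩ hg15
    obtain ⟨t, u, rfl⟩ := (mem_X15_iff hK).1 hg15
    obtain ⟨h, e⟩ := phi_X15 hK t u
    refine ⟨t ^ 2 ^ m, t ^ (2 ^ m + 1) + u, Units.ext ?_, ?_⟩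
    · rw [hfv, map_mul, map_mul, Units.val_mul, Units.val_mul, hF, Suzuki.coe_lieHom, Suzuki.coe_lieHom]
      show suzukiForm K * Suzuki.tMat m _ _ * suzukiForm K = _
      refine Eq.trans ?_ e.symm
      exact form_conj hK _
    · simp only [pow_e_e hK]
      rw [show t ^ (2 ^ m + 1) + u + t ^ (2 ^ m + 1) = u by
        rw [add_comm (t ^ (2 ^ m + 1)) u, add_assoc, CharTwo.add_self_eq_zero, add_zero]]
  have hle : ∀ g : ↥(S7 K m), f g ∈ F.range := by
    have : (S7 K m) ≤ (F.range.comap f).map (S7 K m).subtype := by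
      refine sup_le (fun g hg => ?_) (fun g hg => ?_)
      · obtain ⟨s, -, e⟩ := h7 ⟨g, Subgroup.mem_sup_left hg⟩ hg
        exact ⟨⟨g, Subgroup.mem_sup_left hg⟩, ⟨s, e⟩, rfl⟩
      · obtain ⟨t, u, e, -⟩ := h15 ⟨g, Subgroup.mem_sup_right hg⟩ hg
        exact ⟨⟨g, Subgroup.mem_sup_right hg⟩, ⟨_, e⟩, rfl⟩
    intro g
    obtain ⟨g', hg', e⟩ := this g.2
    exact (Subtype.ext e : g' = g) ▸ hg'
  let ψ : ↥(S7 K m) →* Cfsg.Sz K m :=
    (MonoidHom.ofInjective hFinj).symm.toMonoidHom.comp (f.codRestrict F.range hle)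
  have hψ : ∀ g, F (ψ g) = f g := fun g =>
    congrArg Subtype.val ((MonoidHom.ofInjective hFinj).apply_symm_apply ⟨f g, hle g⟩)
  have hinj : Function.Injective ψ := by
    refine (injective_iff_map_eq_one ψ).2 fun g hg => ?_
    have e := congrArg (fun x : GL (Fin 4) K => (x : Matrix (Fin 4) (Fin 4) K)) (hψ g)
    simp only [hg, map_one, Units.val_one, hfv] at e
    exact Subgroup.inclusion_injective _ ((phi_inj hK e.symm).trans (map_one _).symm)
  have hu : ∀ a b : K, ∃ g : ↥(S7 K m), (g : GL chevF4.Idx K) ∈ X K m 7 ∧ ψ g = Suzuki.tSz hK a b := by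
    intro a b
    have hg7 := (mem_X7_iff hK).2 ⟨a ^ (2 * 2 ^ m), b + (a ^ (2 * 2 ^ m)) ^ (2 ^ m + 1), rfl⟩
    refine ⟨⟨_, Subgroup.mem_sup_left hg7⟩, hg7, hFinj ?_⟩
    rw [hψ]
    obtain ⟨h, e⟩ := phi_X7 hK (a ^ (2 * 2 ^ m)) (b + (a ^ (2 * 2 ^ m)) ^ (2 ^ m + 1))
    refine Units.ext ?_
    rw [hfv, Suzuki.coe_lieHom]
    refine e.trans ?_
    show _ = Suzuki.tMat m a b
    have ea : (a ^ (2 * 2 ^ m)) ^ 2 ^ m = a := by rw [← pow_mul, mul_comm, pow_mul, pow_e_e hK]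
    rw [ea, add_comm b, ← add_assoc, CharTwo.add_self_eq_zero, zero_add]
  refine ⟨ψ, hinj, ?_, fun g => ⟨fun hg => ?_, fun hg => ?_⟩⟩
  · rw [← MonoidHom.range_eq_top]
    obtain ⟨gw, hgw, ew⟩ : ∃ g : ↥(S7 K m), ψ g = Suzuki.wSz hK * Suzuki.tSz hK 1 0 * Suzuki.wSz hK ∧
        (g : GL chevF4.Idx K) ∈ X K m 15 := by
      have hg15 := (mem_X15_iff hK).2 ⟨(1 : K), 1, rfl⟩
      refine ⟨⟨_, Subgroup.mem_sup_right hg15⟩, hFinj ?_, hg15⟩
      rw [hψ]
      obtain ⟨h, e⟩ := phi_X15 hK (1 : K) 1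
      refine Units.ext ?_
      rw [hfv, map_mul, map_mul, Units.val_mul, Units.val_mul, hF, Suzuki.coe_lieHom, Suzuki.coe_lieHom]
      refine e.trans ?_
      show _ = suzukiForm K * Suzuki.tMat m 1 0 * suzukiForm K
      rw [one_pow, one_pow, CharTwo.add_self_eq_zero]
      exact (form_conj hK _).symm
    refine Suzuki.eq_top_of_uSub_le hm hK (M := ψ.range) ?_ (g := ψ gw) ⟨gw, rfl⟩ ?_
    · intro s hs
      obtain ⟨a, b, rfl⟩ := (Suzuki.mem_uSub hK).1 hs
      obtain ⟨g, -, e⟩ := hu a b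
      exact ⟨g, e⟩
    · rw [hgw, mul_smul, mul_smul, Suzuki.wSz_smul_infinity, Suzuki.tSz_smul_zero]
      intro hfix
      have := congrArg (fun p => Suzuki.wSz hK • p) hfix
      simp only [← mul_smul, Suzuki.wSz_mul_self, one_smul, Suzuki.wSz_smul_infinity] at this
      rw [← Suzuki.pt_zero_zero (m := m)] at this
      exact one_ne_zero (Suzuki.pt_inj this).1
  · obtain ⟨s, hs, e⟩ := h7 g hg
    rw [hFinj (e.trans (hψ g).symm) ] at hs
    exact hs
  · obtain ⟨a, b, e⟩ := (Suzuki.mem_uSub hK).1 hg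
    obtain ⟨g', hg', e'⟩ := hu a b
    rwa [hinj (e'.trans e.symm)] at hg'

variable (hm : 1 ≤ m) {Γ : Type*} [Group Γ] [Finite Γ] (π : Γ →* GL chevF4.Idx K)
  (hker : π.ker ≤ Subgroup.center Γ) (hrange : (rgdF4' hK (m := m)).G ≤ π.range)
include hm hker hrange

/-- The lift of the Suzuki subgroup meets the kernel trivially. -/
theorem S7_lift_inj {x : Γ}
    (hx : x ∈ lift π (σF K m).H1 (X K m 7) ⊔ lift π (σF K m).H1 (X K m 15)) (h1 : π x = 1) : x = 1 := by
  obtain ⟨ψ, hψi, hψs, hψU⟩ := exists_szHom hK hm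
  set P : Subgroup Γ := (S7 K m).comap π with hP
  set E : Subgroup Γ := ⁅P, P⁆ with hE
  have hSr : S7 K m ≤ π.range := sup_le (X_le_range hK π hrange 7) (X_le_range hK π hrange 15)
  have hEP : E ≤ P := Subgroup.commutator_le_self P
  -- the Suzuki group is perfect
  have hperf : S7 K m ≤ E.map π := by
    intro y hy
    have hc : commutator ↥(S7 K m) = ⊤ := by
      rw [eq_top_iff]
      intro g _
      have : ψ g ∈ (commutator ↥(S7 K m)).map ψ := by
        rw [commutator_def, Subgroup.map_commutator, Subgroup.map_top_of_surjective ψ hψs, ← commutator_def,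
          Suzuki.commutator_eq_top hm hK]
        trivial
      obtain ⟨g', hg', e⟩ := this
      exact hψi e ▸ hg'
    have h2 : (⟨y, hy⟩ : ↥(S7 K m)) ∈ commutator ↥(S7 K m) := hc ▸ Subgroup.mem_top _
    have h3 : y ∈ ⁅S7 K m, S7 K m⁆ := by
      rw [← Subgroup.map_subtype_commutator]; exact ⟨_, h2, rfl⟩
    rwa [← Subgroup.map_comap_eq_self hSr, ← Subgroup.map_commutator] at h3
  have hcovE : ∀ v, π v ∈ S7 K m → ∃ e ∈ E, π (e⁻¹ * v) = 1 := fun v hv => by
    obtain ⟨e, he, ee⟩ := hperf hv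
    exact ⟨e, he, by rw [map_mul, map_inv, ee, inv_mul_cancel]⟩
  have hHS : ∀ h ∈ (σF K m).H1, ∀ y ∈ S7 K m, h * y * h⁻¹ ∈ S7 K m := by
    intro h hh y hy
    have hle : S7 K m ≤ (S7 K m).comap (MulAut.conj h).toMonoidHom :=
      sup_le (fun z hz => Subgroup.mem_comap.2 (Subgroup.mem_sup_left (H1_conj_X hK h hh z hz)))
        (fun z hz => Subgroup.mem_comap.2 (Subgroup.mem_sup_right (H1_conj_X hK h hh z hz)))
    exact hle hy
  have hliftE : ∀ j : Fin 16, X K m j ≤ S7 K m → lift π (σF K m).H1 (X K m j) ≤ E := by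
    intro j hj
    refine Subgroup.commutator_le.2 fun h hh v hv => ?_
    obtain ⟨e, he, ez⟩ := hcovE v (hj hv)
    have h2 : ⁅h, v⁆ = ⁅h, e⁆ :=
      comm_congr hK π hker hrange rfl (by rw [map_mul, map_inv, inv_mul_eq_one] at ez; exact ez.symm)
    rw [h2, commutatorElement_def]
    refine mul_mem ?_ (inv_mem he)
    have hle : E ≤ E.comap (MulAut.conj h).toMonoidHom := by
      refine Subgroup.commutator_le.2 fun a ha b hb => ?_
      show h * ⁅a, b⁆ * h⁻¹ ∈ E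
      rw [show h * ⁅a, b⁆ * h⁻¹ = ⁅h * a * h⁻¹, h * b * h⁻¹⁆ by simp only [commutatorElement_def]; group]
      refine Subgroup.commutator_mem_commutator ?_ ?_ <;> rw [hP, Subgroup.mem_comap, map_mul, map_mul, map_inv]
      · exact hHS _ hh _ ha
      · exact hHS _ hh _ hb
    exact hle he
  have hxE : x ∈ E :=
    (sup_le (hliftE 7 le_sup_left) (hliftE 15 le_sup_right)) hx
  -- the stem extension of the Suzuki group
  let σE : ↥E →* Cfsg.Sz K m := ψ.comp ((π.comp E.subtype).codRestrict (S7 K m) fun e => hEP e.2)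
  have hσker : ∀ e : ↥E, e ∈ σE.ker ↔ π e = 1 := fun e => by
    rw [MonoidHom.mem_ker]
    refine ⟨fun h => congrArg Subtype.val (hψi (h.trans (map_one ψ).symm)), fun h => ?_⟩
    exact (congrArg ψ (Subtype.ext h : _ = (1 : ↥(S7 K m)))).trans (map_one ψ)
  have hstem : Cfsg.IsStemExtension σE := by
    refine ⟨fun s => ?_, fun e he => Subgroup.mem_center_iff.2 fun g =>
      Subtype.ext (central hker ((hσker e).1 he) g), fun e he => ?_⟩
    · obtain ⟨g, rfl⟩ := hψs s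
      obtain ⟨e, he, ee⟩ := hperf g.2
      exact ⟨⟨e, he⟩, congrArg ψ (Subtype.ext ee)⟩
    · have hle : E ≤ ⁅E, E⁆ := by
        refine Subgroup.commutator_le.2 fun a ha b hb => ?_
        obtain ⟨a', ha', za⟩ := hcovE a ha
        obtain ⟨b', hb', zb⟩ := hcovE b hb
        rw [comm_congr hK π hker hrange (x' := a') (y' := b')
          (by rw [map_mul, map_inv, inv_mul_eq_one] at za; exact za.symm)
          (by rw [map_mul, map_inv, inv_mul_eq_one] at zb; exact zb.symm)]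
        exact Subgroup.commutator_mem_commutator ha' hb'
      have h3 := hle e.2
      rw [← Subgroup.map_subtype_commutator] at h3
      obtain ⟨e', he', ee⟩ := h3
      exact (Subtype.ext ee : e' = e) ▸ he'
  have hG7 := good_X7 hK hm π hker hrange
  have hprime : ∀ r : ℕ, r.Prime → ∀ z ∈ σE.ker, z ^ r = 1 → z = 1 := by
    intro r hr z hz hzr
    haveI := Fact.mk hr
    rcases eq_or_ne r 2 with rfl | hr2
    · have hidx : ¬ 2 ∣ (Suzuki.uSub hK).index := by
        rw [← Suzuki.coe_uSylow hm hK]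
        exact (Suzuki.uSylow hm hK).not_dvd_index
      obtain ⟨hzU, hzc⟩ := Schur.mem_commutator_comap hstem Nat.prime_two (Suzuki.uSub hK) hidx hz (k := 1)
        (by rw [pow_one]; exact hzr)
      have hle : (commutator ↥((Suzuki.uSub hK).comap σE)).map ((Suzuki.uSub hK).comap σE).subtype ≤
          (lift π (σF K m).H1 (X K m 7)).comap E.subtype := by
        rw [Subgroup.map_subtype_commutator, Subgroup.commutator_le]
        intro a ha b hb
        have ha7 : π a ∈ X K m 7 := (hψU ⟨π a, hEP a.2⟩).2 ha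
        have hb7 : π b ∈ X K m 7 := (hψU ⟨π b, hEP b.2⟩).2 hb
        obtain ⟨a', ha', ea⟩ := hG7.surj _ ha7
        obtain ⟨b', hb', eb⟩ := hG7.surj _ hb7
        rw [Subgroup.mem_comap, Subgroup.coe_subtype]
        show ⁅(a : Γ), (b : Γ)⁆ ∈ _
        rw [comm_congr hK π hker hrange ea.symm eb.symm, commutatorElement_def]
        exact mul_mem (mul_mem (mul_mem ha' hb') (inv_mem ha')) (inv_mem hb')
      have hzL : (z : Γ) ∈ lift π (σF K m).H1 (X K m 7) := hle ⟨_, hzc, rfl⟩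
      exact Subtype.ext (hG7.inj _ hzL ((hσker z).1 hz))
    · obtain ⟨Q⟩ : Nonempty (Sylow r (Cfsg.Sz K m)) := inferInstance
      haveI := Suzuki.sylow_odd_cyclic (m := m) hm hK hr2 Q
      obtain ⟨g, hg⟩ := (Subgroup.isCyclic_iff_exists_zpowers_eq_top (Q : Subgroup (Cfsg.Sz K m))).mp inferInstance
      exact Schur.eq_one_of_cyclic hstem hr g (hg ▸ Q.not_dvd_index) hz (k := 1) (by rw [pow_one]; exact hzr)
  by_contra hne
  have hz : (⟨x, hxE⟩ : ↥E) ∈ σE.ker := (hσker _).2 h1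
  have ho : orderOf (⟨x, hxE⟩ : ↥E) ≠ 1 := fun h => hne (congrArg Subtype.val (orderOf_eq_one_iff.1 h))
  obtain ⟨r, hr, hd⟩ := Nat.exists_prime_and_dvd ho
  obtain ⟨k, hk⟩ := hd
  have hpos : 0 < orderOf (⟨x, hxE⟩ : ↥E) := orderOf_pos _
  have hone := hprime r hr ((⟨x, hxE⟩ : ↥E) ^ k) (pow_mem hz k) (by
    rw [← pow_mul, mul_comm, ← hk]; exact pow_orderOf_eq_one _)
  have hdvd := orderOf_dvd_of_pow_eq_one hone
  rw [hk] at hdvd
  have hk0 : 0 < k := Nat.pos_of_ne_zero fun h => by rw [hk, h, mul_zero] at hpos; exact absurd hpos (lt_irrefl 0)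
  have := Nat.le_of_dvd hk0 hdvd
  nlinarith [hr.two_le]

theorem rankOne1 (Tl : TorusLift π (rgdF4' hK (m := m))) : Nonempty (RankOneLift Tl 1) := by
  refine RankOneLift.of_inj hker Tl (good_all hK hm π hker hrange) 1 fun x hx h1 => ?_
  set A := lift π (σF K m).H1 (X K m 7)
  set B := lift π (σF K m).H1 (X K m 15)
  set Q := A ⊔ B with hQ
  replace hx : x ∈ Q ⊔ Tl.T := hx
  have hinj : ∀ y ∈ Q, π y = 1 → y = 1 := fun y hy => S7_lift_inj hK hm π hker hrange hy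
  have hTQ : ∀ t ∈ Tl.T, ∀ y ∈ Q, t * y * t⁻¹ ∈ Q := by
    intro t ht y hy
    have htH := Tl.mem_H t ht
    have hH : ∀ k ∈ (σF K m).H1, π t * k * (π t)⁻¹ ∈ (σF K m).H1 := fun k hk =>
      mul_mem (mul_mem htH hk) (inv_mem htH)
    have hle : Q ≤ Q.comap (MulAut.conj t).toMonoidHom :=
      sup_le (fun z hz => Subgroup.mem_comap.2 (Subgroup.mem_sup_left (lift_conj hH (H1_conj_X hK _ htH) hz)))
        (fun z hz => Subgroup.mem_comap.2 (Subgroup.mem_sup_right (lift_conj hH (H1_conj_X hK _ htH) hz)))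
    exact hle hy
  obtain ⟨t, ht, y, hy, rfl⟩ : ∃ t ∈ Tl.T, ∃ y ∈ Q, x = t * y := by
    obtain ⟨y, hy, t, ht, e⟩ := RGD.exists_mul_of_mem_sup (fun t ht y hy => hTQ t ht y hy) hx
    exact ⟨t, ht, t⁻¹ * y * t, by simpa using hTQ t⁻¹ (inv_mem ht) y hy, by rw [e]; group⟩
  -- the torus part of y lies in the torus lift
  have hyH : π y ∈ (σF K m).H1 := by
    rw [map_mul] at h1
    rw [eq_inv_of_mul_eq_one_right h1]
    exact inv_mem (Tl.mem_H t ht)
  obtain ⟨w, hw⟩ := hrange ((rgdF4' hK (m := m)).N_le_G ((rgdF4' hK (m := m)).nw_mem_N w0l))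
  have hwN : π w ∈ (rgdF4' hK (m := m)).N := hw ▸ (rgdF4' hK (m := m)).nw_mem_N w0l
  have hwQ : ∀ z ∈ Q, w * z * w⁻¹ ∈ Q := by
    have hH : ∀ k ∈ (σF K m).H1, π w * k * (π w)⁻¹ ∈ (σF K m).H1 := fun k hk =>
      (rgdF4' hK (m := m)).conj_H_mem hwN hk
    have hX : ∀ a b : Fin 16, List.foldr wcl a w0l = b → ∀ z ∈ X K m a, π w * z * (π w)⁻¹ ∈ X K m b :=
      fun a b e z hz => by
        rw [hw]
        have := (rgdF4' hK (m := m)).conj_U_mem ((rgdF4' hK (m := m)).map_conj_U w0l a) hz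
        exact e ▸ this
    have hle : Q ≤ Q.comap (MulAut.conj w).toMonoidHom :=
      sup_le (fun z hz => Subgroup.mem_comap.2 (Subgroup.mem_sup_right (lift_conj hH (hX 7 15 (by decide)) hz)))
        (fun z hz => Subgroup.mem_comap.2 (Subgroup.mem_sup_left (lift_conj hH (hX 15 7 (by decide)) hz)))
    exact fun z hz => hle hz
  obtain ⟨s, hs, es⟩ := Tl.surj (π y) hyH
  -- w inverts the torus
  have key : w * y * w⁻¹ * y⁻¹ = (y * y)⁻¹ := by
    refine inv_mul_eq_one.1 ?_ |>.symm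
    refine hinj _ (mul_mem (inv_mem (inv_mem (mul_mem hy hy))) (mul_mem (hwQ y hy) (inv_mem hy))) ?_
    simp only [map_mul, map_inv, hw, inverts hK hyH]
    group
  have key2 : w * s * w⁻¹ * s⁻¹ = (s * s)⁻¹ := by
    refine inv_mul_eq_one.1 ?_ |>.symm
    refine Tl.inj _ (mul_mem (inv_mem (inv_mem (mul_mem hs hs))) (mul_mem (Tl.conj w hwN s hs) (inv_mem hs))) ?_
    simp only [map_mul, map_inv, hw, inverts hK (Tl.mem_H s hs)]
    group
  have hsame : w * y * w⁻¹ * y⁻¹ = w * s * w⁻¹ * s⁻¹ := by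
    rw [← commutatorElement_def, ← commutatorElement_def]
    exact comm_congr hK π hker hrange rfl es.symm
  rw [key, key2, _root_.inv_inj] at hsame
  -- square roots
  obtain ⟨k, hk⟩ := odd_units hK (K := K)
  have hy2 : y ^ Nat.card Kˣ = 1 := hinj _ (pow_mem hy _) (by rw [map_pow, H1_pow hK hyH])
  have hs2 : s ^ Nat.card Kˣ = 1 := Tl.inj _ (pow_mem hs _) (by rw [map_pow, H1_pow hK (Tl.mem_H s hs)])
  have hroot : ∀ v : Γ, v ^ Nat.card Kˣ = 1 → v = (v * v) ^ (k + 1) := fun v hv => by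
    rw [← sq, ← pow_mul, show 2 * (k + 1) = Nat.card Kˣ + 1 by rw [hk]; ring, pow_succ, hv, one_mul]
  have hys : y = s := by rw [hroot y hy2, hroot s hs2, hsame]
  exact Tl.inj _ (mul_mem ht (hys ▸ hs)) h1

/-- The kernel of a stem extension of ²F₄(q) is trivial. -/
theorem ker_trivial (hstem : π.ker ≤ commutator Γ) (hr : π.range ≤ (rgdF4' hK (m := m)).G) : π.ker = ⊥ := by
  obtain ⟨Tl⟩ := exists_torusLift hK π hker hrange
  have h : ∀ i : Fin 2, Nonempty (RankOneLift Tl i) := by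
    intro i
    fin_cases i
    exacts [rankOne0 hK hm π hker hrange Tl, rankOne1 hK hm π hker hrange Tl]
  exact ker_eq_bot hker (good_all hK hm π hker hrange) (good_Upos hK hm π hker hrange) Tl (fun i => (h i).some)
    hstem hr

end Cfsg.Agent.Twisted.F4
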