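import Cfsg.Agent.Lib.Twisted.G2More

/-
The small Ree group is generated by a torus generator and u·m₀.
* `ree_two_generated`
-/

set_option autoImplicit false
set_option linter.style.haveILetI false

namespace Cfsg.Agent.Twisted

open Cfsg

variable {K : Type*} [Field K] [Fintype K] {m : ℕ}

open Cfsg.Lie in
theorem ree_two_generated [CharP K 3] (hm : 1 ≤ m) (hK : Fintype.card K = 3 ^ (2 * m + 1)) :
    ∃ a b : ↥(twistedG2 K (3 ^ m)), Subgroup.closure ({a, b} : Set ↥(twistedG2 K (3 ^ m))) = ⊤ := by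
  classical
  obtain ⟨s, hs⟩ := IsCyclic.exists_generator (α := Kˣ)
  have hord : orderOf s = 3 ^ (2 * m + 1) - 1 := by
    rw [orderOf_eq_card_of_forall_mem_zpowers hs, Nat.card_units, Nat.card_eq_fintype_card, hK]
  have hpw : 3 ^ (2 * m + 1) = 3 * (3 ^ m * 3 ^ m) := by ring
  have h3 : 3 ≤ 3 ^ m := le_self_pow₀ (by norm_num) (by omega)
  have hne : ∀ k, 0 < k → k ≤ 3 * 3 ^ m + 2 → (s : K) ^ k - 1 ≠ 0 := by
    intro k hk hk' e
    rw [sub_eq_zero] at e
    have e' : s ^ k = 1 := Units.ext (by simpa using e)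
    refine pow_ne_one_of_lt_orderOf hk.ne' ?_ e'
    rw [hord, hpw]
    nlinarith [Nat.sub_add_cancel (show 1 ≤ 3 * (3 ^ m * 3 ^ m) by nlinarith)]
  have hall : ∀ x : K, x ≠ 0 → ∃ n : ℕ, x = (s : K) ^ n := by
    intro x hx
    obtain ⟨n, hn⟩ := (isOfFinOrder_of_finite s).mem_powers_iff_mem_zpowers.2 (hs (Units.mk0 x hx))
    exact ⟨n, by simpa using (congrArg Units.val hn).symm⟩
  obtain ⟨h₀, hh₀, hf, hm0⟩ := exists_m0 (m := m) hK
  set n₀ := h₀ * (rgdG2 K).nw w0G2 with hn₀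
  have ha : tor m s ∈ twistedG2 K (3 ^ m) := H1_le_twisted hK ((mem_H1_iff hK).2 ⟨s, rfl⟩)
  have hu : reeG m (1 : K) 0 0 ∈ twistedG2 K (3 ^ m) := U1_le_twisted hK (ree_mem_U1 hK 1 0 0)
  refine ⟨⟨_, ha⟩, ⟨_, mul_mem hu hm0⟩, ?_⟩
  set D := (Subgroup.closure ({⟨_, ha⟩, ⟨_, mul_mem hu hm0⟩} : Set ↥(twistedG2 K (3 ^ m)))).map
    (twistedG2 K (3 ^ m)).subtype with hD
  suffices hle : twistedG2 K (3 ^ m) ≤ D by
    refine eq_top_iff.2 fun x _ => ?_
    obtain ⟨y, hy, e⟩ := hle x.2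
    rwa [← Subtype.ext (a1 := y) (a2 := x) e]
  have haD : tor m s ∈ D := ⟨_, Subgroup.subset_closure (Set.mem_insert _ _), rfl⟩
  have hbD : reeG m (1 : K) 0 0 * n₀ ∈ D :=
    ⟨_, Subgroup.subset_closure (Set.mem_insert_of_mem _ rfl), rfl⟩
  have hdiag : tor m s ∈ chevG2.diagonalSubgroup K := ((mem_H1_iff hK).2 ⟨s, rfl⟩).1
  have hconj : ∀ t u v : K, reeG m t u v ∈ D →
      reeG m ((s : K) * t) ((s : K) ^ (3 * 3 ^ m + 1) * u) ((s : K) ^ (3 * 3 ^ m + 2) * v) ∈ D :=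
    fun t u v h => by
      rw [← tor_conj hK]
      exact mul_mem (mul_mem haD h) (inv_mem haD)
  have hdiv : ∀ t u v u' v' : K, reeG m t u v ∈ D → reeG m t u' v' ∈ D → reeG m 0 (u' - u) (v' - v) ∈ D := by
    intro t u v u' v' h h'
    have e : reeG m t u v * reeG m 0 (u' - u) (v' - v) = reeG m t u' v' := by
      rw [ree_mul_zero hK, add_sub_cancel, add_sub_cancel]
    rw [← inv_mul_cancel_left (reeG m t u v) (reeG m 0 (u' - u) (v' - v)), e]
    exact mul_mem (inv_mem h) h'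
  -- the first layer
  let S : AddSubmonoid K :=
    { carrier := {t | ∃ u v, reeG m t u v ∈ D}
      zero_mem' := ⟨0, 0, by rw [ree_zero]; exact one_mem _⟩
      add_mem' := by
        rintro a b ⟨u, v, h⟩ ⟨u', v', h'⟩
        exact ⟨_, _, by simpa only [ree_mul hK] using mul_mem h h'⟩ }
  have hS1 : ((s : K) - 1) ∈ S := by
    have h1 : reeG m (1 : K) 0 0 * n₀ * tor m s * (reeG m (1 : K) 0 0 * n₀)⁻¹ ∈ D :=
      mul_mem (mul_mem hbD haD) (inv_mem hbD)
    have h2 := mul_mem haD h1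
    have e : tor m s * (reeG m (1 : K) 0 0 * n₀ * tor m s * (reeG m (1 : K) 0 0 * n₀)⁻¹) =
        tor m s * reeG m (1 : K) 0 0 * (tor m s)⁻¹ * (reeG m (1 : K) 0 0)⁻¹ := by
      have := inv_conj hh₀ hdiag
      rw [← hn₀] at this
      rw [show reeG m (1 : K) 0 0 * n₀ * tor m s * (reeG m (1 : K) 0 0 * n₀)⁻¹ =
        reeG m (1 : K) 0 0 * (n₀ * tor m s * n₀⁻¹) * (reeG m (1 : K) 0 0)⁻¹ by group, this]
      group
    rw [e, tor_conj hK] at h2
    obtain ⟨t', u', v', e'⟩ := (mem_U1_iff hK).1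
      (mul_mem (ree_mem_U1 hK ((s : K) * 1) ((s : K) ^ (3 * 3 ^ m + 1) * 0) ((s : K) ^ (3 * 3 ^ m + 2) * 0))
        (inv_mem (ree_mem_U1 hK (1 : K) 0 0)))
    rw [e'] at h2
    rw [mul_inv_eq_iff_eq_mul, ree_mul hK] at e'
    obtain ⟨et, -⟩ := ree_inj e'
    exact ⟨u', v', by rwa [show (s : K) - 1 = t' by linear_combination et]⟩
  have hs1 : (s : K) - 1 ≠ 0 := by simpa using hne 1 one_pos (by omega)
  have hSall : ∀ t : K, t ∈ S := by
    have hpow : ∀ n : ℕ, (s : K) ^ n * ((s : K) - 1) ∈ S := by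
      intro n
      induction n with
      | zero => simpa using hS1
      | succ n ih =>
        obtain ⟨u, v, h⟩ := ih
        exact ⟨_, _, by simpa only [pow_succ', mul_assoc] using hconj _ _ _ h⟩
    intro t
    rcases eq_or_ne t 0 with rfl | ht
    · exact S.zero_mem
    · obtain ⟨n, hn⟩ := hall (t / ((s : K) - 1)) (div_ne_zero ht hs1)
      have := hpow n
      rwa [← hn, div_mul_cancel₀ _ hs1] at this
  -- the second layer
  let S2 : AddSubgroup K :=
    { carrier := {u | ∃ v, reeG m 0 u v ∈ D}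
      zero_mem' := ⟨0, by rw [ree_zero]; exact one_mem _⟩
      add_mem' := by
        rintro a b ⟨v, h⟩ ⟨v', h'⟩
        exact ⟨_, by simpa only [ree_mul_zero hK] using mul_mem h h'⟩
      neg_mem' := by
        rintro a ⟨v, h⟩
        exact ⟨0 - v, by simpa using hdiv 0 a v 0 0 h (by rw [ree_zero]; exact one_mem _)⟩ }
  have hS2 : (((s : K) ^ 3 ^ m) ^ 3 - (s : K)) ∈ S2 := by
    obtain ⟨u, v, h⟩ := hSall (s : K)
    obtain ⟨u', v', h'⟩ := hSall 1
    have h1 := mul_mem h h'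
    have h2 := mul_mem h' h
    rw [ree_mul hK] at h1 h2
    rw [add_comm (1 : K) (s : K)] at h2
    have h3 := hdiv _ _ _ _ _ h2 h1
    have key : ∀ a b : K, reeG m 0 a b ∈ D → a ∈ S2 := fun a b h => ⟨b, h⟩
    convert key _ _ h3 using 1
    simp only [one_pow]
    ring
  have hd0 : ((s : K) ^ 3 ^ m) ^ 3 - (s : K) ≠ 0 := by
    rw [← pow_mul, mul_comm (3 ^ m) 3, show 3 * 3 ^ m = (3 * 3 ^ m - 1) + 1 by omega, pow_succ,
      show (s : K) ^ (3 * 3 ^ m - 1) * (s : K) - (s : K) = ((s : K) ^ (3 * 3 ^ m - 1) - 1) * (s : K) by ring]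
    exact mul_ne_zero (hne _ (by omega) (by omega)) s.ne_zero
  have hS2all : ∀ u : K, u ∈ S2 := by
    have hk : ∀ x ∈ S2, (s : K) ^ (3 * 3 ^ m + 1) * x ∈ S2 := by
      rintro x ⟨v, h⟩
      exact ⟨_, by simpa using hconj _ _ _ h⟩
    have hiter : ∀ j : ℕ, ∀ x ∈ S2, ((s : K) ^ (3 * 3 ^ m + 1)) ^ j * x ∈ S2 := by
      intro j
      induction j with
      | zero => simp
      | succ j ih => exact fun x hx => by simpa [pow_succ', mul_assoc] using hk _ (ih x hx)
    have hq : (s : K) ^ (3 ^ (2 * m + 1) - 1) = 1 := by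
      rw [← Units.val_pow_eq_pow_val, ← hord, pow_orderOf_eq_one, Units.val_one]
    have hsq : ∀ x ∈ S2, (s : K) ^ 2 * x ∈ S2 := by
      intro x hx
      have h := hiter (3 * 3 ^ m - 1) x hx
      have e : (3 * 3 ^ m + 1) * (3 * 3 ^ m - 1) = 3 * (3 ^ (2 * m + 1) - 1) + 2 := by
        rw [hpw]
        obtain ⟨c, hc⟩ : ∃ c, 3 * 3 ^ m = c + 1 := ⟨3 * 3 ^ m - 1, by omega⟩
        have : 3 * (3 * (3 ^ m * 3 ^ m)) = (c + 1) * (c + 1) := by rw [← hc]; ring
        rw [hc, Nat.add_sub_cancel, Nat.mul_sub, this]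
        have h9 : 3 ≤ (c + 1) * (c + 1) := by nlinarith
        have : (c + 1 + 1) * c + 1 = (c + 1) * (c + 1) := by ring
        omega
      rwa [← pow_mul, e, pow_add, mul_comm 3 (3 ^ (2 * m + 1) - 1), pow_mul, hq, one_pow, one_mul] at h
    have heven : ∀ j : ℕ, ((s : K) ^ 2) ^ j * (((s : K) ^ 3 ^ m) ^ 3 - (s : K)) ∈ S2 := by
      intro j
      induction j with
      | zero => simpa using hS2
      | succ j ih => simpa [pow_succ', mul_assoc] using hsq _ ih
    obtain ⟨h, hh, hodd⟩ := odd_half (m := m) hK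
    have hneg : (s : K) ^ h = -1 := by
      rcases mul_self_eq_one_iff.1 (show (s : K) ^ h * (s : K) ^ h = 1 by rw [← pow_add, ← two_mul, ← hh, hq])
        with e | e
      · exfalso
        have : s ^ h = 1 := Units.ext (by simpa using e)
        obtain ⟨i, hi⟩ := hodd
        exact pow_ne_one_of_lt_orderOf (by omega) (by omega) this
      · exact e
    intro u
    rcases eq_or_ne u 0 with rfl | hu0
    · exact S2.zero_mem
    · obtain ⟨n, hn⟩ := hall _ (div_ne_zero hu0 hd0)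
      rw [← div_mul_cancel₀ u hd0, hn]
      rcases Nat.even_or_odd' n with ⟨j, rfl | rfl⟩
      · rw [pow_mul]; exact heven j
      · obtain ⟨i, rfl⟩ := hodd
        have e2 : (s : K) ^ (2 * j + 1) = -(((s : K) ^ 2) ^ (j + i + 1)) := by
          rw [← pow_mul, show 2 * (j + i + 1) = 2 * j + 1 + (2 * i + 1) by ring, pow_add ((s : K)) (2 * j + 1),
            hneg]
          ring
        rw [e2, neg_mul]
        exact S2.neg_mem (heven _)
  -- the third layer
  have hZ : ∀ v : K, reeG m 0 0 v ∈ D := by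
    intro t
    obtain ⟨u, v, h⟩ := hSall t
    obtain ⟨v', h'⟩ := hS2all 1
    have h1 := mul_mem h h'
    have h2 := mul_mem h' h
    rw [ree_mul_zero hK] at h1
    rw [ree_mul hK, zero_add] at h2
    convert hdiv _ _ _ _ _ h2 h1 using 2 <;> ring
  have hU : (foldK K m).U1 ≤ D := by
    intro g hg
    obtain ⟨t, u, v, rfl⟩ := (mem_U1_iff hK).1 hg
    show reeG m t u v ∈ D
    obtain ⟨u', v', h⟩ := hSall t
    obtain ⟨v'', h'⟩ := hS2all (u - u')
    have := mul_mem (mul_mem h h') (hZ (v - v' - v''))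
    rwa [ree_mul_zero hK, ree_mul_zero hK, add_zero, add_sub_cancel,
      show v' + v'' + (v - v' - v'') = v by ring] at this
  have hn : n₀ ∈ D := by
    have := mul_mem (inv_mem (hU (ree_mem_U1 hK 1 0 0))) hbD
    rwa [inv_mul_cancel_left] at this
  have hH : (foldK K m).H1 ≤ D := by
    intro k hk
    obtain ⟨z, rfl⟩ := (mem_H1_iff hK).1 hk
    obtain ⟨n, rfl⟩ := (isOfFinOrder_of_finite s).mem_powers_iff_mem_zpowers.2 (hs z)
    induction n with
    | zero => simpa [tor_one] using one_mem D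
    | succ n ih =>
      simp only [pow_succ, tor_mul]
      exact mul_mem (ih ((mem_H1_iff hK).2 ⟨_, rfl⟩)) haD
  intro g hg
  rcases (rankOneK (m := m)).form' hh₀ hf (twisted_le hK hg) with ⟨u, hu', h, hh, rfl⟩ | ⟨u, hu', h, hh, c, hc, rfl⟩
  · exact mul_mem (hU hu') (hH hh)
  · exact mul_mem (mul_mem (mul_mem (hU hu') (hH hh)) hn) (hU hc)

end Cfsg.Agent.Twisted
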