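import Cfsg.Agent.Lib.Twisted.G2More
import Cfsg.Agent.Lib.Schur.Basic
import Cfsg.Agent.Lib.Multiplier.Basic

/-
The 3-part of the Schur multiplier of the small Ree groups.
* `pair_zero`        : a biadditive map invariant under multiplication by `(c, d)` vanishes unless `d⁻¹` is conjugate to `c`
* `threePart_trivial`: stem kernels over ²G₂(q), q ≥ 27, have no elements of order 3
-/

set_option autoImplicit false
set_option linter.style.haveILetI false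

open scoped commutatorElement

namespace Cfsg.Agent.Twisted

open Cfsg Cfsg.Lie

open Polynomial in
theorem pair_zero {K : Type*} [Field K] [Fintype K] {p : ℕ} [Fact p.Prime] [CharP K p] {n : ℕ}
    (hK : Fintype.card K = p ^ n) {A : Type*} [AddCommGroup A] (β : K → K → A)
    (hl : ∀ a a' b, β (a + a') b = β a b + β a' b) (hr : ∀ a b b', β a (b + b') = β a b + β a b')
    {c d : K} (hd : d ≠ 0) (hinv : ∀ a b, β (c * a) (d * b) = β a b)
    (hcd : ∀ i < n, c ^ p ^ i * d ≠ 1) (a b : K) : β a b = 0 := by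
  classical
  letI := ZMod.algebra K p
  have hl0 : ∀ y, β 0 y = 0 := fun y => by
    have := hl 0 0 y; rw [add_zero] at this; exact left_eq_add.mp this
  have hr0 : ∀ x, β x 0 = 0 := fun x => by
    have := hr x 0 0; rw [add_zero] at this; exact left_eq_add.mp this
  have hnat : ∀ (k : ℕ) x y, β ((k : K) * x) y = β x ((k : K) * y) := by
    intro k x y
    induction k with
    | zero => simp [hl0, hr0]
    | succ k ih => simp only [Nat.cast_succ, add_mul, one_mul, hl, hr, ih]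
  have key : ∀ P : (ZMod p)[X], ∀ x y, β (aeval c P * x) y = β x (aeval d⁻¹ P * y) := by
    intro P
    induction P using Polynomial.induction_on with
    | C w =>
      intro x y
      rw [aeval_C, aeval_C, show algebraMap (ZMod p) K w = ((w.val : ℕ) : K) by
        rw [← map_natCast (algebraMap (ZMod p) K), ZMod.natCast_zmod_val]]
      exact hnat _ x y
    | add P Q hP hQ => intro x y; simp only [map_add, add_mul, hl, hr, hP, hQ]
    | monomial k w ih =>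
      intro x y
      have e : ∀ z : K, aeval z (C w * X ^ (k + 1)) = aeval z (C w * X ^ k) * z := fun z => by
        simp [pow_succ, mul_assoc]
      rw [e, e, mul_assoc, ih, mul_comm (aeval d⁻¹ (C w * X ^ k)) d⁻¹, mul_assoc]
      have h := hinv x (d⁻¹ * (aeval d⁻¹ (C w * X ^ k) * y))
      rwa [← mul_assoc d, mul_inv_cancel₀ hd, one_mul] at h
  have hint : IsIntegral (ZMod p) c := Algebra.IsIntegral.isIntegral c
  by_cases he : aeval d⁻¹ (minpoly (ZMod p) c) = 0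
  · exfalso
    obtain ⟨g, hg⟩ := (isConjRoot_of_aeval_eq_zero hint he).symm.exists_algEquiv
    obtain ⟨⟨i, hi⟩, rfl⟩ := (FiniteField.bijective_frobeniusAlgEquivOfAlgebraic_pow (ZMod p) K).2 g
    have hfr : Module.finrank (ZMod p) K = n := by
      have h := Module.card_eq_pow_finrank (K := ZMod p) (V := K)
      rw [ZMod.card, hK] at h
      exact (Nat.pow_right_injective (Fact.out : p.Prime).two_le h).symm
    simp only [AlgEquiv.coe_pow, FiniteField.coe_frobeniusAlgEquivOfAlgebraic_iterate, ZMod.card] at hg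
    refine hcd i (hfr ▸ hi) ?_
    rw [hg, inv_mul_cancel₀ hd]
  · have h := key (minpoly (ZMod p) c) a (b / aeval d⁻¹ (minpoly (ZMod p) c))
    rw [minpoly.aeval, zero_mul, hl0, mul_div_cancel₀ b he] at h
    exact h.symm

variable {K : Type*} [Field K] [Fintype K] [CharP K 3] {m : ℕ}

/-- The arithmetic of the torus weights 1, k + 1, k + 2 with k = 3^(m+1). -/
theorem weight_ne (hK : Fintype.card K = 3 ^ (2 * m + 1)) (hm : 1 ≤ m) {s : Kˣ}
    (hord : orderOf s = 3 ^ (2 * m + 1) - 1) (i : ℕ) (hi : i < 2 * m + 1) :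
    ((s : K) ^ (3 * 3 ^ m + 1)) ^ 3 ^ i * (s : K) ^ (3 * 3 ^ m + 1) ≠ 1 ∧
    ((s : K) ^ (3 * 3 ^ m + 2)) ^ 3 ^ i * (s : K) ^ (3 * 3 ^ m + 2) ≠ 1 ∧
    ((s : K) ^ (3 * 3 ^ m + 1)) ^ 3 ^ i * (s : K) ^ (3 * 3 ^ m + 2) ≠ 1 ∧
    (s : K) ^ 3 ^ i * (s : K) ^ (3 * 3 ^ m + 2) ≠ 1 ∧
    (s : K) ^ 3 ^ i * (s : K) ^ (3 * 3 ^ m + 1) ≠ 1 ∧
    (s : K) ^ 3 ^ i * (s : K) ≠ 1 := by
  have h3 : 3 ≤ 3 ^ m := le_self_pow₀ (by norm_num) (by omega)
  have hpw : 3 ^ (2 * m + 1) = 3 * (3 ^ m * 3 ^ m) := by ring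
  have hib : 3 ^ i ≤ 3 ^ m * 3 ^ m := by
    rw [← pow_add]; exact Nat.pow_le_pow_right (by norm_num) (by omega)
  have hi1 : 1 ≤ 3 ^ i := Nat.one_le_pow _ _ (by norm_num)
  have hmul : 3 * 3 ^ m ≤ 3 ^ m * 3 ^ m := Nat.mul_le_mul_right _ h3
  have hdvd : ∀ k : ℕ, (s : K) ^ k = 1 → 3 ^ (2 * m + 1) - 1 ∣ k := fun k h =>
    hord ▸ orderOf_dvd_of_pow_eq_one (Units.ext (by simpa using h))
  have hne : ∀ k : ℕ, 0 < k → k < 3 ^ (2 * m + 1) - 1 → (s : K) ^ k ≠ 1 := fun k hk hk' h =>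
    absurd (Nat.le_of_dvd hk (hdvd k h)) (by omega)
  have hq : (s : K) ^ (3 ^ (2 * m + 1) - 1) = 1 := by
    rw [← Units.val_pow_eq_pow_val, ← hord, pow_orderOf_eq_one, Units.val_one]
  -- multiplication of the exponents k + 1, k + 2 by k - 1
  have e1 : ∀ x : K, x ^ (3 ^ (2 * m + 1) - 1) = 1 →
      (x ^ (3 * 3 ^ m + 1)) ^ (3 * 3 ^ m - 1) = x ^ 2 ∧
      (x ^ (3 * 3 ^ m + 2)) ^ (3 * 3 ^ m - 1) = x ^ (3 * 3 ^ m + 1) := by
    intro x hx
    obtain ⟨c, hc⟩ : ∃ c, 3 * 3 ^ m = c + 1 := ⟨3 * 3 ^ m - 1, by omega⟩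
    obtain ⟨Q, hQ⟩ : ∃ Q, 3 ^ (2 * m + 1) = Q + 1 := ⟨3 ^ (2 * m + 1) - 1, by omega⟩
    have h9 : (c + 1) * (c + 1) = 3 * (Q + 1) := by rw [← hc, ← hQ, hpw]; ring
    rw [hc, Nat.add_sub_cancel, ← pow_mul, ← pow_mul]
    rw [hQ, Nat.add_sub_cancel] at hx
    constructor
    · rw [show (c + 1 + 1) * c = Q * 3 + 2 by linarith [h9, show (c + 1 + 1) * c + 1 = (c + 1) * (c + 1) by ring],
        pow_add, pow_mul, hx, one_pow, one_mul]
    · rw [show (c + 1 + 2) * c = Q * 3 + (c + 1 + 1) by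
          linarith [h9, show (c + 1 + 2) * c + 1 = (c + 1) * (c + 1) + c by ring],
        pow_add _ (Q * 3), pow_mul, hx, one_pow, one_mul]
  have hqpow : ∀ k : ℕ, ((s : K) ^ k) ^ (3 ^ (2 * m + 1) - 1) = 1 := fun k => by
    rw [← pow_mul, mul_comm, pow_mul, hq, one_pow]
  refine ⟨fun h => ?_, fun h => ?_, fun h => ?_, fun h => ?_, fun h => ?_, fun h => ?_⟩
  · rw [← pow_succ, ← pow_mul, mul_comm, pow_mul] at h
    have h' := congrArg (fun x : K => x ^ (3 * 3 ^ m - 1)) h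
    simp only [one_pow] at h'
    rw [(e1 _ (hqpow _)).1, ← pow_mul] at h'
    exact hne _ (by omega) (by omega) h'
  · rw [← pow_succ, ← pow_mul, mul_comm, pow_mul] at h
    have h' := congrArg (fun x : K => x ^ (3 * 3 ^ m - 1)) h
    simp only [one_pow] at h'
    rw [(e1 _ (hqpow _)).2] at h'
    rw [pow_succ _ (3 * 3 ^ m + 1), h', one_mul] at h
    exact hne _ (by omega) (by omega) h
  · have h' := congrArg (fun x : K => x ^ (3 * 3 ^ m - 1)) h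
    simp only [one_pow, mul_pow] at h'
    rw [← pow_mul _ (3 ^ i), mul_comm (3 ^ i), pow_mul, (e1 _ hq).1, (e1 _ hq).2, ← pow_mul, ← pow_add] at h'
    have hd' := hdvd _ h'
    obtain ⟨c, hc⟩ := hd'
    have hc1 : c = 1 := by
      rcases Nat.lt_or_ge c 2 with h2 | h2
      · rcases c with _ | _ | c
        · omega
        · rfl
        · omega
      · have := Nat.mul_le_mul_left (3 ^ (2 * m + 1) - 1) h2
        omega
    rw [hc1, mul_one] at hc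
    rcases Nat.eq_zero_or_pos i with rfl | hi0
    · omega
    · obtain ⟨j, hj⟩ : ∃ j, 3 ^ i = 3 * j := ⟨3 ^ (i - 1), by rw [← pow_succ', Nat.sub_add_cancel hi0]⟩
      omega
  · rw [← pow_add] at h
    exact hne _ (by omega) (by omega) h
  · rw [← pow_add] at h
    exact hne _ (by omega) (by omega) h
  · rw [← pow_succ] at h
    exact hne _ (by omega) (by omega) h

/-- A stem kernel over the small Ree group has no element of order 3. -/
theorem threePart_trivial (hm : 1 ≤ m) (hK : Fintype.card K = 3 ^ (2 * m + 1)) {Γ : Type*} [Group Γ] [Finite Γ]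
    {σ : Γ →* ↥(twistedG2 K (3 ^ m))} (hσ : Cfsg.IsStemExtension σ) {z : Γ} (hz : z ∈ σ.ker)
    (hz3 : z ^ 3 = 1) : z = 1 := by
  classical
  haveI : Fact (Nat.Prime 3) := ⟨Nat.prime_three⟩
  obtain ⟨hsur, hker, hcom⟩ := hσ
  obtain ⟨s, hs⟩ := IsCyclic.exists_generator (α := Kˣ)
  have hord : orderOf s = 3 ^ (2 * m + 1) - 1 := by
    rw [orderOf_eq_card_of_forall_mem_zpowers hs, Nat.card_units, Nat.card_eq_fintype_card, hK]
  have hs0 : ∀ k : ℕ, (s : K) ^ k ≠ 0 := fun k => pow_ne_zero _ s.ne_zero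
  have hw := weight_ne hK hm hord
  let R : K → K → K → ↥(twistedG2 K (3 ^ m)) := fun t u v =>
    ⟨reeG m t u v, U1_le_twisted hK (ree_mem_U1 hK t u v)⟩
  let T : Kˣ → ↥(twistedG2 K (3 ^ m)) := fun k => ⟨tor m k, H1_le_twisted hK ((mem_H1_iff hK).2 ⟨k, rfl⟩)⟩
  choose L hL using fun p : K × K × K => hsur (R p.1 p.2.1 p.2.2)
  choose D hD using fun k : Kˣ => hsur (T k)
  have hR0 : ∀ t u v u' v', R t u v * R 0 u' v' = R t (u + u') (v + v') := fun t u v u' v' =>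
    Subtype.ext (ree_mul_zero hK t u v u' v')
  have hR0' : ∀ u v t' u' v', R 0 u v * R t' u' v' = R t' (u + u') (v - t' * u + v') := fun u v t' u' v' =>
    Subtype.ext ((ree_mul hK _ _ _ _ _ _).trans (by simp [R]))
  have hR1 : R 0 0 0 = 1 := Subtype.ext ree_zero
  have hRinv : ∀ u v, (R 0 u v)⁻¹ = R 0 (-u) (-v) := fun u v => inv_eq_of_mul_eq_one_right (by
    rw [hR0, add_neg_cancel, add_neg_cancel, hR1])
  have hRconj : ∀ t u v a b, R t u v * R 0 a b * (R t u v)⁻¹ = R 0 a (b + t * a) := fun t u v a b => by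
    rw [mul_inv_eq_iff_eq_mul, hR0, hR0']
    congr 1 <;> ring
  have hRmul : ∀ t u v t' u' v', ∃ p q, R t u v * R t' u' v' = R (t + t') p q := fun t u v t' u' v' =>
    ⟨_, _, Subtype.ext (ree_mul hK _ _ _ _ _ _)⟩
  let W : Subgroup ↥(twistedG2 K (3 ^ m)) :=
    { carrier := {g | ∃ u v, g = R 0 u v}
      one_mem' := ⟨0, 0, hR1.symm⟩
      mul_mem' := by
        rintro _ _ ⟨u, v, rfl⟩ ⟨u', v', rfl⟩
        exact ⟨_, _, hR0 0 u v u' v'⟩
      inv_mem' := by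
        rintro _ ⟨u, v, rfl⟩
        exact ⟨_, _, hRinv u v⟩ }
  set U : Subgroup ↥(twistedG2 K (3 ^ m)) := (foldK K m).U1.subgroupOf (twistedG2 K (3 ^ m)) with hUdef
  have hUm : ∀ {g}, g ∈ U ↔ ∃ t u v, g = R t u v := fun {g} => by
    rw [hUdef, Subgroup.mem_subgroupOf, mem_U1_iff hK]
    exact ⟨fun ⟨t, u, v, e⟩ => ⟨t, u, v, Subtype.ext e⟩, fun ⟨t, u, v, e⟩ => ⟨t, u, v, congrArg Subtype.val e⟩⟩
  set Wt : Subgroup Γ := W.comap σ with hWt
  have hcen : ∀ {c : Γ}, σ c = 1 → ∀ g, g * c = c * g := fun hc g => Subgroup.mem_center_iff.mp (hker hc) g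
  have hcenk : ∀ {c : Γ}, c ∈ σ.ker → ∀ g, g * c = c * g := fun hc g => Subgroup.mem_center_iff.mp (hker hc) g
  have ccongr : ∀ {x x' y y' : Γ}, σ x = σ x' → σ y = σ y' → ⁅x, y⁆ = ⁅x', y'⁆ := fun hx hy =>
    Multiplier.commutator_congr hker hx hy
  have hbil1 : ∀ {x x' y : Γ}, Commute ⁅x', y⁆ x → ⁅x * x', y⁆ = ⁅x', y⁆ * ⁅x, y⁆ := by
    intro x x' y h
    calc ⁅x * x', y⁆ = x * ⁅x', y⁆ * x⁻¹ * ⁅x, y⁆ := by simp only [commutatorElement_def]; group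
      _ = _ := by rw [← h.eq, mul_inv_cancel_right]
  have hbil2 : ∀ {x y y' : Γ}, Commute ⁅x, y'⁆ y → ⁅x, y * y'⁆ = ⁅x, y⁆ * ⁅x, y'⁆ := by
    intro x y y' h
    calc ⁅x, y * y'⁆ = ⁅x, y⁆ * (y * ⁅x, y'⁆ * y⁻¹) := by simp only [commutatorElement_def]; group
      _ = _ := by rw [← h.eq, mul_inv_cancel_right]
  have hkc : ∀ {c : Γ}, c ∈ σ.ker → ∀ g, Commute c g := fun hc g => (hcenk hc g).symm
  have hconjL : ∀ (k : Kˣ) (t u v : K), σ (D k * L (t, u, v) * (D k)⁻¹) =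
      σ (L ((k : K) * t, (k : K) ^ (3 * 3 ^ m + 1) * u, (k : K) ^ (3 * 3 ^ m + 2) * v)) := fun k t u v => by
    rw [map_mul, map_mul, map_inv, hL, hL, hD]
    exact Subtype.ext (tor_conj hK k t u v)
  have hconjc : ∀ (k : Kˣ) (x y : Γ), D k * ⁅x, y⁆ * (D k)⁻¹ =
      ⁅D k * x * (D k)⁻¹, D k * y * (D k)⁻¹⁆ := fun k x y => Multiplier.conj_commutator (D k) x y
  letI : CommGroup ↥σ.ker :=
    { (inferInstance : Group ↥σ.ker) with mul_comm := fun a b => Subtype.ext (hcenk b.2 a.1) }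
  -- additive families with commuting images
  have hpair : ∀ (X Y : K → Γ) (c d : K), (∀ a b, σ (X (a + b)) = σ (X a * X b)) →
      (∀ a b, σ (Y (a + b)) = σ (Y a * Y b)) → (∀ a b, Commute (σ (X a)) (σ (Y b))) →
      (∀ a, σ (D s * X a * (D s)⁻¹) = σ (X (c * a))) → (∀ a, σ (D s * Y a * (D s)⁻¹) = σ (Y (d * a))) →
      d ≠ 0 → (∀ i < 2 * m + 1, c ^ 3 ^ i * d ≠ 1) → ∀ a b, ⁅X a, Y b⁆ = 1 := by
    intro X Y c d hX hY hXY hXc hYd hd hcd a b
    have hk : ∀ a b, ⁅X a, Y b⁆ ∈ σ.ker := fun a b => by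
      rw [MonoidHom.mem_ker, map_commutatorElement, commutatorElement_eq_one_iff_commute]; exact hXY a b
    let γ : K → K → Additive ↥σ.ker := fun a b => Additive.ofMul ⟨⁅X a, Y b⁆, hk a b⟩
    refine congrArg (fun w : Additive ↥σ.ker => (w.toMul : Γ))
      (pair_zero hK γ (fun a a' b => ?_) (fun a b b' => ?_) hd (fun a b => ?_) hcd a b)
    · refine Additive.toMul.injective (Subtype.ext ?_)
      show ⁅X (a + a'), Y b⁆ = ⁅X a, Y b⁆ * ⁅X a', Y b⁆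
      rw [ccongr (hX a a') rfl, hbil1 (hkc (hk a' b) _), (hkc (hk a' b) _).eq]
    · refine Additive.toMul.injective (Subtype.ext ?_)
      show ⁅X a, Y (b + b')⁆ = ⁅X a, Y b⁆ * ⁅X a, Y b'⁆
      rw [ccongr rfl (hY b b'), hbil2 (hkc (hk a b') _)]
    · refine Additive.toMul.injective (Subtype.ext ?_)
      show ⁅X (c * a), Y (d * b)⁆ = ⁅X a, Y b⁆
      rw [ccongr (hXc a).symm (hYd b).symm, ← hconjc, hcenk (hk a b), mul_inv_cancel_right]
  -- step 1: the middle layer is abelian upstairs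
  have hzero : (0 : K) * 1 = 0 := zero_mul 1
  have haddu : ∀ a b : K, σ (L (0, a + b, 0)) = σ (L (0, a, 0) * L (0, b, 0)) := fun a b => by
    rw [map_mul, hL, hL, hL, hR0, add_zero]
  have haddv : ∀ a b : K, σ (L (0, 0, a + b)) = σ (L (0, 0, a) * L (0, 0, b)) := fun a b => by
    rw [map_mul, hL, hL, hL, hR0, add_zero]
  have hcW : ∀ u v u' v', Commute (σ (L (0, u, v))) (σ (L (0, u', v'))) := fun u v u' v' => by
    rw [commute_iff_eq, hL, hL, hR0, hR0, add_comm u, add_comm v]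
  have hcu : ∀ a : K, σ (D s * L (0, a, 0) * (D s)⁻¹) = σ (L (0, (s : K) ^ (3 * 3 ^ m + 1) * a, 0)) := fun a => by
    rw [hconjL]; simp
  have hcv : ∀ a : K, σ (D s * L (0, 0, a) * (D s)⁻¹) = σ (L (0, 0, (s : K) ^ (3 * 3 ^ m + 2) * a)) := fun a => by
    rw [hconjL]; simp
  have huu := hpair _ _ _ _ haddu haddu (fun a b => hcW _ _ _ _) hcu hcu (hs0 _) fun i hi => (hw i hi).1
  have hvv := hpair _ _ _ _ haddv haddv (fun a b => hcW _ _ _ _) hcv hcv (hs0 _) fun i hi => (hw i hi).2.1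
  have huv := hpair _ _ _ _ haddu haddv (fun a b => hcW _ _ _ _) hcu hcv (hs0 _) fun i hi => (hw i hi).2.2.1
  have hsplit : ∀ u v, σ (L (0, u, v)) = σ (L (0, u, 0) * L (0, 0, v)) := fun u v => by
    rw [map_mul, hL, hL, hL, hR0, add_zero, zero_add]
  have hA : ∀ x ∈ Wt, ∀ y ∈ Wt, x * y = y * x := by
    rintro x ⟨u, v, hx⟩ y ⟨u', v', hy⟩
    rw [← commutatorElement_eq_one_iff_mul_comm,
      ccongr (hx.trans ((hL (0, u, v)).symm.trans (hsplit u v))) (hy.trans ((hL (0, u', v')).symm.trans (hsplit u' v')))]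
    have c1 : Commute (L (0, u, 0)) (L (0, u', 0)) := commutatorElement_eq_one_iff_commute.1 (huu u u')
    have c2 : Commute (L (0, u, 0)) (L (0, 0, v')) := commutatorElement_eq_one_iff_commute.1 (huv u v')
    have c3 : Commute (L (0, 0, v)) (L (0, u', 0)) := (commutatorElement_eq_one_iff_commute.1 (huv u' v)).symm
    have c4 : Commute (L (0, 0, v)) (L (0, 0, v')) := commutatorElement_eq_one_iff_commute.1 (hvv v v')
    exact commutatorElement_eq_one_iff_commute.2 ((c1.mul_right c2).mul_left (c3.mul_right c4))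
  -- step 2: the centre commutes with the root group
  have hWmem : ∀ u v, L (0, u, v) ∈ Wt := fun u v => ⟨u, v, hL _⟩
  have hdec : ∀ t u v, σ (L (t, u, v)) = σ (L (t, 0, 0) * L (0, u, v)) := fun t u v => by
    rw [map_mul, hL, hL, hL, hR0, zero_add, zero_add]
  have hZkerc : ∀ v t u w, ⁅L (0, 0, v), L (t, u, w)⁆ ∈ σ.ker := fun v t u w => by
    rw [MonoidHom.mem_ker, map_commutatorElement, hL, hL, commutatorElement_eq_one_iff_mul_comm]
    show R 0 0 v * R t u w = R t u w * R 0 0 v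
    rw [hR0, hR0']
    congr 1 <;> ring
  have hZp : ∀ v t u w, ⁅L (0, 0, v), L (t, u, w)⁆ = ⁅L (0, 0, v), L (t, 0, 0)⁆ := fun v t u w => by
    have h1 : ⁅L (0, 0, v), L (0, u, w)⁆ = 1 :=
      commutatorElement_eq_one_iff_mul_comm.2 (hA _ (hWmem _ _) _ (hWmem _ _))
    rw [ccongr rfl (hdec t u w), hbil2 (by rw [h1]; exact Commute.one_left _), h1, mul_one]
  have hB0 : ∀ t v, ⁅L (0, 0, v), L (t, 0, 0)⁆ = 1 := by
    let γ : K → K → Additive ↥σ.ker := fun t v => Additive.ofMul ⟨⁅L (0, 0, v), L (t, 0, 0)⁆, hZkerc v t 0 0⟩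
    intro t v
    refine congrArg (fun w : Additive ↥σ.ker => (w.toMul : Γ))
      (pair_zero hK γ (fun t t' v => ?_) (fun t v v' => ?_) (hs0 (3 * 3 ^ m + 2)) (fun t v => ?_)
        (fun i hi => (hw i hi).2.2.2.1) t v)
    · refine Additive.toMul.injective (Subtype.ext ?_)
      show ⁅L (0, 0, v), L (t + t', 0, 0)⁆ = ⁅L (0, 0, v), L (t, 0, 0)⁆ * ⁅L (0, 0, v), L (t', 0, 0)⁆
      obtain ⟨p, q, e⟩ := hRmul t 0 0 t' 0 0
      rw [← hbil2 (hkc (hZkerc v t' 0 0) _),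
        ccongr (y := L (t, 0, 0) * L (t', 0, 0)) (y' := L (t + t', p, q)) rfl (by rw [map_mul, hL, hL, hL]; exact e),
        hZp v (t + t') p q]
    · refine Additive.toMul.injective (Subtype.ext ?_)
      show ⁅L (0, 0, v + v'), L (t, 0, 0)⁆ = ⁅L (0, 0, v), L (t, 0, 0)⁆ * ⁅L (0, 0, v'), L (t, 0, 0)⁆
      rw [ccongr (haddv v v') rfl, hbil1 (hkc (hZkerc v' t 0 0) _), (hkc (hZkerc v' t 0 0) _).eq]
    · refine Additive.toMul.injective (Subtype.ext ?_)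
      show ⁅L (0, 0, (s : K) ^ (3 * 3 ^ m + 2) * v), L ((s : K) * t, 0, 0)⁆ = ⁅L (0, 0, v), L (t, 0, 0)⁆
      rw [ccongr (hcv v).symm (show σ (L ((s : K) * t, 0, 0)) = σ (D s * L (t, 0, 0) * (D s)⁻¹) by
        rw [hconjL]; simp), ← hconjc, hcenk (hZkerc v t 0 0), mul_inv_cancel_right]
  set Ut : Subgroup Γ := U.comap σ with hUt
  have hUtm : ∀ {x : Γ}, x ∈ Ut ↔ ∃ t u v, σ x = R t u v := fun {x} => hUm
  have hZc : ∀ {c : Γ} (v : K), σ c = R 0 0 v → ∀ y ∈ Ut, Commute c y := by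
    intro c v hc y hy
    obtain ⟨t, u, w, hy⟩ := hUtm.1 hy
    rw [← commutatorElement_eq_one_iff_commute, ccongr (hc.trans (hL (0, 0, v)).symm) (hy.trans (hL (t, u, w)).symm),
      hZp, hB0]
  -- step 3: the averaging endomorphism of the middle layer
  letI : CommGroup ↥Wt :=
    { (inferInstance : Group ↥Wt) with mul_comm := fun a b => Subtype.ext (hA a a.2 b b.2) }
  have hDW : ∀ (k : Kˣ) (w : Wt), D k * (w : Γ) * (D k)⁻¹ ∈ Wt := by
    rintro k ⟨w, u, v, hw'⟩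
    refine ⟨(k : K) ^ (3 * 3 ^ m + 1) * u, (k : K) ^ (3 * 3 ^ m + 2) * v, ?_⟩
    rw [map_mul, map_mul, map_inv, hw', hD]
    exact Subtype.ext ((tor_conj hK k 0 u v).trans (by rw [mul_zero]))
  let τ : ↥Wt →* ↥Wt :=
    { toFun := fun w => ∏ k : Kˣ, ⟨D k * (w : Γ) * (D k)⁻¹, hDW k w⟩
      map_one' := Finset.prod_eq_one fun k _ => Subtype.ext (by simp)
      map_mul' := fun a b => by
        rw [← Finset.prod_mul_distrib]
        refine Finset.prod_congr rfl fun k _ => Subtype.ext ?_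
        show D k * ((a : Γ) * b) * (D k)⁻¹ = D k * a * (D k)⁻¹ * (D k * b * (D k)⁻¹)
        group }
  have hτD : ∀ (w : Wt), τ ⟨D s * (w : Γ) * (D s)⁻¹, hDW s w⟩ = τ w := by
    intro w
    refine (Finset.prod_bij' (fun k _ => k * s) (fun k _ => k * s⁻¹) (by simp) (by simp) (by simp) (by simp) ?_)
    intro k _
    refine Subtype.ext ?_
    show D k * (D s * (w : Γ) * (D s)⁻¹) * (D k)⁻¹ = D (k * s) * (w : Γ) * (D (k * s))⁻¹
    have hσk : σ (D (k * s))⁻¹ * σ (D k * D s) = 1 := by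
      rw [map_inv, map_mul, hD, hD, hD, inv_mul_eq_one]
      exact Subtype.ext (tor_mul k s)
    obtain ⟨c, hc, e⟩ : ∃ c, σ c = 1 ∧ D k * D s = D (k * s) * c :=
      ⟨(D (k * s))⁻¹ * (D k * D s), by rw [map_mul]; exact hσk, (mul_inv_cancel_left _ _).symm⟩
    rw [show D k * (D s * (w : Γ) * (D s)⁻¹) * (D k)⁻¹ = (D k * D s) * w * (D k * D s)⁻¹ by group, e, mul_inv_rev,
      mul_assoc (D (k * s)) c, ← hcen hc (w : Γ)]
    group
  have hWn : ∀ {w y : Γ}, w ∈ Wt → y ∈ Ut → ∃ a b b', σ w = R 0 a b ∧ σ (y * w * y⁻¹) = R 0 a b' := by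
    rintro w y ⟨a, b, hw'⟩ hy
    obtain ⟨t, u, v, hy⟩ := hUtm.1 hy
    exact ⟨a, b, _, hw', by rw [map_mul, map_mul, map_inv, hw', hy, hRconj]⟩
  have hWUW : ∀ {w y : Γ}, w ∈ Wt → y ∈ Ut → ∃ v, σ ⁅w, y⁆ = R 0 0 v := by
    intro w y hw' hy
    obtain ⟨t, u, v, hy⟩ := hUtm.1 hy
    obtain ⟨a, b, hw'⟩ := hw'
    refine ⟨b + -(b + t * a), ?_⟩
    rw [map_commutatorElement, hw', hy, commutatorElement_def,
      show R 0 a b * R t u v * (R 0 a b)⁻¹ * (R t u v)⁻¹ = R 0 a b * (R t u v * (R 0 a b)⁻¹ * (R t u v)⁻¹) by group,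
      hRinv, hRconj, hR0, add_neg_cancel]
    congr 1
    ring
  have hUUW : ∀ {x y : Γ}, x ∈ Ut → y ∈ Ut → ⁅x, y⁆ ∈ Wt := by
    intro x y hx hy
    obtain ⟨t, u, v, hx⟩ := hUtm.1 hx
    obtain ⟨t', u', v', hy⟩ := hUtm.1 hy
    have h1 : R t u v * R t' u' v' = R (t + t') _ _ := Subtype.ext (ree_mul hK t u v t' u' v')
    have h2 : R t' u' v' * R t u v = R (t' + t) _ _ := Subtype.ext (ree_mul hK t' u' v' t u v)
    rw [add_comm t' t] at h2
    show ∃ a b, σ ⁅x, y⁆ = R 0 a b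
    rw [map_commutatorElement, hx, hy, show ⁅R t u v, R t' u' v'⁆ = (R t u v * R t' u' v') * (R t' u' v' * R t u v)⁻¹ by
      rw [commutatorElement_def, mul_inv_rev]; group, h1, h2]
    have key : ∀ T A B A' B', R T A B * (R T A' B')⁻¹ = R 0 (A - A') (B - B' + T * (A - A')) := by
      intro T A B A' B'
      rw [← hRconj T A' B', hR0, add_sub_cancel, add_sub_cancel]
    exact ⟨_, _, key _ _ _ _ _⟩
  let τc : ∀ x y : Γ, x ∈ Ut → y ∈ Ut → ↥Wt := fun x y hx hy => τ ⟨⁅x, y⁆, hUUW hx hy⟩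
  have hLU : ∀ p, L p ∈ Ut := fun p => hUtm.2 ⟨p.1, p.2.1, p.2.2, hL p⟩
  have hWU' : ∀ {w : Γ}, w ∈ Wt → w ∈ Ut := by
    rintro w ⟨a, b, h⟩
    exact hUtm.2 ⟨0, a, b, h⟩
  have hcm : ∀ {w y : Γ}, w ∈ Wt → y ∈ Ut → ∀ g ∈ Ut, Commute ⁅w, y⁆ g := fun hw' hy g hg => by
    obtain ⟨v, hv⟩ := hWUW hw' hy
    exact hZc v hv g hg
  have τeq : ∀ {x y x' y' : Γ} (hx : x ∈ Ut) (hy : y ∈ Ut) (hx' : x' ∈ Ut) (hy' : y' ∈ Ut),
      ⁅x, y⁆ = ⁅x', y'⁆ → τc x y hx hy = τc x' y' hx' hy' := fun hx hy hx' hy' h =>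
    congrArg τ (Subtype.ext h)
  have τmul : ∀ {x y x' y' x'' y'' : Γ} (hx : x ∈ Ut) (hy : y ∈ Ut) (hx' : x' ∈ Ut) (hy' : y' ∈ Ut)
      (hx'' : x'' ∈ Ut) (hy'' : y'' ∈ Ut), ⁅x, y⁆ = ⁅x', y'⁆ * ⁅x'', y''⁆ →
      τc x y hx hy = τc x' y' hx' hy' * τc x'' y'' hx'' hy'' := fun hx hy hx' hy' hx'' hy'' h => by
    show τ _ = τ _ * τ _
    rw [← map_mul]
    exact congrArg τ (Subtype.ext h)
  have τinv : ∀ (x y : Γ) (hx : x ∈ Ut) (hy : y ∈ Ut) (hx' : D s * x * (D s)⁻¹ ∈ Ut) (hy' : D s * y * (D s)⁻¹ ∈ Ut),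
      τc _ _ hx' hy' = τc x y hx hy := fun x y hx hy hx' hy' => by
    show τ _ = τ _
    rw [← hτD ⟨⁅x, y⁆, hUUW hx hy⟩]
    exact congrArg τ (Subtype.ext (hconjc s x y).symm)
  have hDU : ∀ p, D s * L p * (D s)⁻¹ ∈ Ut := fun p => hUtm.2 ⟨_, _, _, (hconjL s p.1 p.2.1 p.2.2).trans (hL _)⟩
  have hWUl : ∀ a b t u v, ⁅L (0, a, b), L (t, u, v)⁆ = ⁅L (0, a, 0), L (t, 0, 0)⁆ := by
    intro a b t u v
    have hb : ⁅L (0, 0, b), L (t, u, v)⁆ = 1 := by rw [hZp, hB0]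
    rw [ccongr (hsplit a b) rfl, hbil1 (by rw [hb]; exact Commute.one_left _), hb, one_mul,
      ccongr rfl (hdec t u v)]
    have hw1 : ⁅L (0, a, 0), L (0, u, v)⁆ = 1 :=
      commutatorElement_eq_one_iff_mul_comm.2 (hA _ (hWmem _ _) _ (hWmem _ _))
    rw [hbil2 (by rw [hw1]; exact Commute.one_left _), hw1, mul_one]
  have hC0 : ∀ t a, τc (L (0, a, 0)) (L (t, 0, 0)) (hLU _) (hLU _) = 1 := by
    let γ : K → K → Additive ↥Wt := fun t a => Additive.ofMul (τc (L (0, a, 0)) (L (t, 0, 0)) (hLU _) (hLU _))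
    intro t a
    refine congrArg Additive.toMul
      (pair_zero hK γ (fun t t' a => ?_) (fun t a a' => ?_) (hs0 (3 * 3 ^ m + 1)) (fun t a => ?_)
        (fun i hi => (hw i hi).2.2.2.2.1) t a)
    · refine Additive.toMul.injective (τmul (hLU _) (hLU _) (hLU _) (hLU _) (hLU _) (hLU _) ?_)
      obtain ⟨p, q, e⟩ := hRmul t 0 0 t' 0 0
      rw [← hbil2 (hcm (hWmem a 0) (hLU (t', 0, 0)) _ (hLU _)),
        ccongr (y := L (t, 0, 0) * L (t', 0, 0)) (y' := L (t + t', p, q)) rfl (by rw [map_mul, hL, hL, hL]; exact e),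
        hWUl a 0 (t + t') p q]
    · refine Additive.toMul.injective (τmul (hLU _) (hLU _) (hLU _) (hLU _) (hLU _) (hLU _) ?_)
      rw [ccongr (haddu a a') rfl, hbil1 (hcm (hWmem a' 0) (hLU (t, 0, 0)) _ (hLU _)),
        (hcm (hWmem a' 0) (hLU (t, 0, 0)) _ (hUUW (hLU (0, a, 0)) (hLU (t, 0, 0)) |> hWU')).eq]
    · refine Additive.toMul.injective ((τeq (hLU _) (hLU _) (hDU (0, a, 0)) (hDU (t, 0, 0)) ?_).trans (τinv _ _ (hLU (0, a, 0)) (hLU (t, 0, 0)) (hDU (0, a, 0)) (hDU (t, 0, 0))))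
      exact ccongr (hcu a).symm (by rw [hconjL]; simp)
  have hC : ∀ {w y : Γ} (hw' : w ∈ Wt) (hy : y ∈ Ut), τc w y (hWU' hw') hy = 1 := by
    intro w y hw' hy
    obtain ⟨a, b, ha⟩ := hw'
    obtain ⟨t, u, v, ht⟩ := hUtm.1 hy
    rw [← hC0 t a]
    exact τeq (hWU' ⟨a, b, ha⟩) hy (hLU (0, a, 0)) (hLU (t, 0, 0)) ((ccongr (ha.trans (hL (0, a, b)).symm) (ht.trans (hL (t, u, v)).symm)).trans (hWUl a b t u v))
  have hanti : ∀ {x y : Γ} (hx : x ∈ Ut) (hy : y ∈ Ut), τc x y hx hy = (τc y x hy hx)⁻¹ := fun hx hy => by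
    show τ _ = (τ _)⁻¹
    rw [← map_inv]
    exact congrArg τ (Subtype.ext (commutatorElement_inv _ _).symm)
  have hleft : ∀ {x x' y : Γ} (hx : x ∈ Ut) (hx' : x' ∈ Ut) (hy : y ∈ Ut) (hxx : x * x' ∈ Ut),
      τc (x * x') y hxx hy = τc x' y hx' hy * τc x y hx hy := by
    intro x x' y hx hx' hy hxx
    have hc := hUUW hx' hy
    have e : (⟨⁅x * x', y⁆, hUUW hxx hy⟩ : ↥Wt) =
        ⟨⁅x, ⁅x', y⁆⁆, hUUW hx (hWU' hc)⟩ * (⟨⁅x', y⁆, hc⟩ * ⟨⁅x, y⁆, hUUW hx hy⟩) :=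
      Subtype.ext (by simp only [Subgroup.coe_mul, commutatorElement_def]; group)
    have h1 : τ ⟨⁅x, ⁅x', y⁆⁆, hUUW hx (hWU' hc)⟩ = 1 := by
      show τc x _ hx (hWU' hc) = 1
      rw [hanti hx (hWU' hc), hC hc hx, inv_one]
    show τ _ = τ _ * τ _
    rw [e, map_mul, map_mul, h1, one_mul]
  have hred1 : ∀ t u v (y : Γ) (hy : y ∈ Ut),
      τc (L (t, u, v)) y (hLU _) hy = τc (L (t, 0, 0)) y (hLU _) hy := fun t u v y hy => by
    rw [τeq (x' := L (t, 0, 0) * L (0, u, v)) (hLU (t, u, v)) hy (mul_mem (hLU (t, 0, 0)) (hLU (0, u, v))) hy (ccongr (hdec t u v) rfl),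
      hleft (hLU (t, 0, 0)) (hLU (0, u, v)) hy (mul_mem (hLU (t, 0, 0)) (hLU (0, u, v))), show τc (L (0, u, v)) y (hLU _) hy = 1 from hC (hWmem u v) hy, one_mul]
  have hD0 : ∀ t t', τc (L (t, 0, 0)) (L (t', 0, 0)) (hLU _) (hLU _) = 1 := by
    let γ : K → K → Additive ↥Wt := fun t t' => Additive.ofMul (τc (L (t, 0, 0)) (L (t', 0, 0)) (hLU _) (hLU _))
    have hadd : ∀ t t' w, τc (L (t + t', 0, 0)) (L (w, 0, 0)) (hLU _) (hLU _) =
        τc (L (t, 0, 0)) (L (w, 0, 0)) (hLU _) (hLU _) * τc (L (t', 0, 0)) (L (w, 0, 0)) (hLU _) (hLU _) := by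
      intro t t' w
      obtain ⟨p, q, e⟩ := hRmul t 0 0 t' 0 0
      rw [← hred1 (t + t') p q (L (w, 0, 0)) (hLU _), τeq (x' := L (t, 0, 0) * L (t', 0, 0)) (y' := L (w, 0, 0))
        (hLU (t + t', p, q)) (hLU (w, 0, 0))
        (mul_mem (hLU (t, 0, 0)) (hLU (t', 0, 0))) (hLU (w, 0, 0)) (ccongr (by rw [map_mul, hL, hL, hL]; exact e.symm) rfl),
        hleft (hLU (t, 0, 0)) (hLU (t', 0, 0)) (hLU (w, 0, 0)) (mul_mem (hLU (t, 0, 0)) (hLU (t', 0, 0))), mul_comm]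
    intro t t'
    refine congrArg Additive.toMul
      (pair_zero hK γ (fun a b w => Additive.toMul.injective (hadd a b w)) (fun w a b => ?_) s.ne_zero
        (fun a b => ?_) (fun i hi => (hw i hi).2.2.2.2.2) t t')
    · refine Additive.toMul.injective ?_
      show τc (L (w, 0, 0)) (L (a + b, 0, 0)) (hLU _) (hLU _) =
        τc (L (w, 0, 0)) (L (a, 0, 0)) (hLU _) (hLU _) * τc (L (w, 0, 0)) (L (b, 0, 0)) (hLU _) (hLU _)
      rw [hanti (hLU (w, 0, 0)) (hLU (a + b, 0, 0)), hadd, mul_inv, ← hanti (hLU (w, 0, 0)) (hLU (a, 0, 0)),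
        ← hanti (hLU (w, 0, 0)) (hLU (b, 0, 0))]
    · refine Additive.toMul.injective ((τeq (hLU _) (hLU _) (hDU (a, 0, 0)) (hDU (b, 0, 0)) ?_).trans (τinv _ _ (hLU (a, 0, 0)) (hLU (b, 0, 0)) (hDU (a, 0, 0)) (hDU (b, 0, 0))))
      exact ccongr (by rw [hconjL]; simp) (by rw [hconjL]; simp)
  have hD' : ∀ {x y : Γ} (hx : x ∈ Ut) (hy : y ∈ Ut), τc x y hx hy = 1 := by
    intro x y hx hy
    obtain ⟨t, u, v, ht⟩ := hUtm.1 hx
    obtain ⟨t', u', v', ht'⟩ := hUtm.1 hy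
    rw [τeq (x' := L (t, u, v)) (y' := L (t', u', v')) hx hy (hLU _) (hLU _)
        (ccongr (ht.trans (hL (t, u, v)).symm) (ht'.trans (hL (t', u', v')).symm)),
      hred1 t u v _ (hLU (t', u', v')), hanti (hLU (t, 0, 0)) (hLU (t', u', v')), hred1 t' u' v' _ (hLU (t, 0, 0)),
      ← hanti (hLU (t, 0, 0)) (hLU (t', 0, 0)), hD0]
  -- the kernel element
  have hzU : z ∈ Ut := hUtm.2 ⟨0, 0, 0, by rw [MonoidHom.mem_ker.1 hz, hR1]⟩
  have hidx : ¬ 3 ∣ Ut.index := by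
    rw [hUt, Subgroup.index_comap_of_surjective _ hsur]
    have hc := U.card_mul_index
    have hcU : Nat.card U = (3 ^ (2 * m + 1)) ^ 3 := by
      rw [hUdef, Nat.card_congr (Subgroup.subgroupOfEquivOfLe (U1_le_twisted hK)).toEquiv, card_U1 hK]
    rw [hcU, card_ree hK, mul_assoc] at hc
    rw [Nat.eq_of_mul_eq_mul_left (by positivity) hc]
    intro h
    have h3 : 3 ∣ 3 ^ (2 * m + 1) := dvd_pow_self 3 (by omega)
    rcases Nat.prime_three.dvd_mul.1 h with h | h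
    · have : 1 ≤ 3 ^ (2 * m + 1) := Nat.one_le_pow _ _ (by norm_num)
      omega
    · have := dvd_pow h3 (show (3 : ℕ) ≠ 0 by norm_num)
      omega
  have hzc := Subgroup.mem_map_of_mem Ut.subtype (Schur.mem_commutator_of_not_dvd_index Nat.prime_three Ut hidx hzU
    (hker hz) (hcom hz) (k := 1) (by rw [pow_one]; exact hz3))
  rw [Subgroup.map_subtype_commutator] at hzc
  have hle : ⁅Ut, Ut⁆ ≤ τ.ker.map Wt.subtype := by
    rw [Subgroup.commutator_le]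
    exact fun x hx y hy => ⟨⟨⁅x, y⁆, hUUW hx hy⟩, hD' hx hy, rfl⟩
  obtain ⟨⟨w, hwW⟩, hwτ, hwz⟩ := hle hzc
  obtain rfl : w = z := hwz
  have hτz : (τ ⟨w, hwW⟩ : Γ) = w ^ Fintype.card Kˣ := by
    show ((∏ k : Kˣ, (⟨D k * w * (D k)⁻¹, hDW k ⟨w, hwW⟩⟩ : ↥Wt) : ↥Wt) : Γ) = _
    rw [Finset.prod_congr rfl (fun k _ => show (⟨D k * w * (D k)⁻¹, hDW k ⟨w, hwW⟩⟩ : ↥Wt) = ⟨w, hwW⟩ from
      Subtype.ext (show D k * w * (D k)⁻¹ = w by rw [hcenk hz, mul_inv_cancel_right])), Finset.prod_const,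
      Finset.card_univ]
    rfl
  rw [show τ ⟨w, hwW⟩ = 1 from hwτ, Fintype.card_units, hK] at hτz
  refine orderOf_eq_one_iff.mp (Nat.eq_one_of_dvd_coprimes (k := orderOf w) ?_
    (orderOf_dvd_of_pow_eq_one hz3) (orderOf_dvd_of_pow_eq_one hτz.symm))
  have h3 : 3 ∣ 3 ^ (2 * m + 1) := dvd_pow_self 3 (by omega)
  have : 1 ≤ 3 ^ (2 * m + 1) := Nat.one_le_pow _ _ (by norm_num)
  exact Nat.prime_three.coprime_iff_not_dvd.2 (by omega)

end Cfsg.Agent.Twisted
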