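/-
Twisted groups, part 10: the involution of ²G₂(3) in the torus, by a certified word computation.
-/
import Cfsg.Agent.Lib.Twisted.Chain
import Cfsg.Prelude.Def_ChevG2

set_option autoImplicit false
set_option maxRecDepth 20000

namespace Cfsg.Agent.Twisted

open Cfsg.Lie
open Cfsg.Lie.ChevalleyDatum

/-- The word of the involution. -/
def invWord : List (ℕ × ℤ) := [(9, 1), (11, 1), (2, -1), (0, -1), (7, 1), (6, 1), (8, -1), (9, -1), (10, 1), (11, 1), (4, 1), (5, 1), (3, 1), (2, -1), (1, -1), (0, 1)]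

/-- The intermediate vectors. -/
def invCert : chevG2.Idx → List (List (chevG2.Idx × ℤ)) := Sum.elim
  ![[[(.inl (0 : Fin 2), 1), (.inr (9 : Fin 12), 1)], [(.inl (0 : Fin 2), 1), (.inr (9 : Fin 12), 1)], [(.inl (0 : Fin 2), -1), (.inr (9 : Fin 12), 1)], [(.inl (0 : Fin 2), -1), (.inr (3 : Fin 12), -1), (.inr (9 : Fin 12), 1)], [(.inl (0 : Fin 2), -1), (.inr (3 : Fin 12), -1), (.inr (7 : Fin 12), 1), (.inr (9 : Fin 12), 1)], [(.inl (0 : Fin 2), -1), (.inr (3 : Fin 12), -1), (.inr (4 : Fin 12), -1), (.inr (7 : Fin 12), 1), (.inr (8 : Fin 12), -1), (.inr (9 : Fin 12), 1)], [(.inl (0 : Fin 2), 1), (.inr (3 : Fin 12), -1), (.inr (4 : Fin 12), -1), (.inr (7 : Fin 12), 1), (.inr (8 : Fin 12), -1)], [(.inl (0 : Fin 2), 1), (.inr (3 : Fin 12), -1), (.inr (4 : Fin 12), -1), (.inr (9 : Fin 12), -1)], [(.inl (0 : Fin 2), 1), (.inr (3 : Fin 12), -1), (.inr (4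 : Fin 12), -1), (.inr (9 : Fin 12), 1)], [(.inl (0 : Fin 2), 1), (.inr (3 : Fin 12), -1), (.inr (4 : Fin 12), -1)], [(.inl (0 : Fin 2), 1), (.inr (2 : Fin 12), -1), (.inr (3 : Fin 12), -1)], [(.inl (0 : Fin 2), 1), (.inr (2 : Fin 12), -1), (.inr (3 : Fin 12), -1)], [(.inl (0 : Fin 2), 1), (.inr (2 : Fin 12), -1)], [(.inl (0 : Fin 2), 1)], [(.inl (0 : Fin 2), 1)], [(.inl (0 : Fin 2), 1)]],
    [[(.inl (1 : Fin 2), 1)], [(.inl (1 : Fin 2), 1), (.inr (11 : Fin 12), 1)], [(.inl (1 : Fin 2), 1), (.inr (1 : Fin 12), -1), (.inr (4 : Fin 12), -1), (.inr (8 : Fin 12), -1), (.inr (11 : Fin 12), 1)], [(.inl (0 : Fin 2), -1), (.inl (1 : Fin 2), -1), (.inr (1 : Fin 12), -1), (.inr (2 : Fin 12), -1), (.inr (4 : Fin 12), -1), (.inr (8 : Fin 12), -1), (.inr (11 : Fin 12), 1)], [(.inl (1 : Fin 2), -1), (.inr (1 : Fin 12), -1), (.inr (2 : Fin 12), 1), (.inr (4 : Fin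 12), -1), (.inr (5 : Fin 12), -1), (.inr (8 : Fin 12), -1), (.inr (9 : Fin 12), 1), (.inr (11 : Fin 12), 1)], [(.inr (1 : Fin 12), -1), (.inr (2 : Fin 12), 1), (.inr (4 : Fin 12), -1), (.inr (5 : Fin 12), -1), (.inr (6 : Fin 12), -1), (.inr (8 : Fin 12), -1), (.inr (9 : Fin 12), 1), (.inr (11 : Fin 12), 1)], [(.inr (1 : Fin 12), -1), (.inr (2 : Fin 12), 1), (.inr (5 : Fin 12), -1), (.inr (6 : Fin 12), -1), (.inr (7 : Fin 12), 1), (.inr (8 : Fin 12), -1), (.inr (9 : Fin 12), -1), (.inr (11 : Fin 12), -1)], [(.inl (0 : Fin 2), -1), (.inr (1 : Fin 12), -1), (.inr (2 : Fin 12), 1), (.inr (4 : Fin 12), -1), (.inr (5 : Fin 12), -1), (.inr (6 : Fin 12), -1), (.inr (7 : Fin 12), 1), (.inr (8 : Fin 12), 1), (.inr (9 : Fin 12), 1)], [(.inl (1 : Fin 2), 1), (.inr (1 : Fin 12), -1), (.inr (2 : Fin 12), 1), (.inr (4 : Fin 12), -1), (.inr (5 : Fin 12), -1), (.inr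 (6 : Fin 12), -1), (.inr (8 : Fin 12), 1), (.inr (10 : Fin 12), 1), (.inr (11 : Fin 12), -1)], [(.inl (1 : Fin 2), 1), (.inr (1 : Fin 12), -1), (.inr (2 : Fin 12), 1), (.inr (4 : Fin 12), -1), (.inr (5 : Fin 12), -1)], [(.inl (1 : Fin 2), 1), (.inr (1 : Fin 12), 1), (.inr (3 : Fin 12), 1), (.inr (5 : Fin 12), -1)], [(.inl (1 : Fin 2), 1), (.inr (0 : Fin 12), 1), (.inr (1 : Fin 12), 1), (.inr (3 : Fin 12), 1)], [(.inl (1 : Fin 2), 1), (.inr (0 : Fin 12), 1), (.inr (1 : Fin 12), 1)], [(.inl (1 : Fin 2), 1), (.inr (0 : Fin 12), 1), (.inr (1 : Fin 12), 1)], [(.inl (1 : Fin 2), 1), (.inr (0 : Fin 12), 1)], [(.inl (1 : Fin 2), 1)]]]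
  ![[[(.inr (0 : Fin 12), -1), (.inr (3 : Fin 12), 1), (.inr (7 : Fin 12), 1), (.inr (10 : Fin 12), 1)], [(.inl (0 : Fin 2), 1), (.inl (1 : Fin 2), -1), (.inr (0 : Fin 12), -1), (.inr (3 : Fin 12), 1), (.inr (7 : Fin 12), 1), (.inr (9 : Fin 12), 1), (.inr (10 : Fin 12), 1), (.inr (11 : Fin 12), 1)], [(.inl (0 : Fin 2), -1), (.inl (1 : Fin 2), -1), (.inr (1 : Fin 12), -1), (.inr (4 : Fin 12), -1), (.inr (8 : Fin 12), -1), (.inr (9 : Fin 12), 1), (.inr (10 : Fin 12), 1), (.inr (11 : Fin 12), 1)], [(.inl (0 : Fin 2), 1), (.inr (0 : Fin 12), 1), (.inr (1 : Fin 12), -1), (.inr (2 : Fin 12), -1), (.inr (3 : Fin 12), -1), (.inr (4 : Fin 12), -1), (.inr (5 : Fin 12), -1), (.inr (8 : Fin 12), -1), (.inr (9 : Fin 12), 1), (.inr (10 : Fin 12), 1), (.inr (11 : Fin 12), 1)], [(.inl (0 : Fin 2), -1), (.inr (0 : Fin 12), 1), (.inr (1 : Fin 12), -1), (.inr (2 : Fin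 12), 1), (.inr (3 : Fin 12), -1), (.inr (4 : Fin 12), -1), (.inr (5 : Fin 12), 1), (.inr (8 : Fin 12), -1), (.inr (9 : Fin 12), -1), (.inr (10 : Fin 12), 1), (.inr (11 : Fin 12), 1)], [(.inl (0 : Fin 2), -1), (.inl (1 : Fin 2), -1), (.inr (0 : Fin 12), 1), (.inr (2 : Fin 12), 1), (.inr (3 : Fin 12), -1), (.inr (4 : Fin 12), 1), (.inr (5 : Fin 12), 1), (.inr (6 : Fin 12), -1), (.inr (8 : Fin 12), -1), (.inr (9 : Fin 12), -1), (.inr (10 : Fin 12), 1)], [(.inl (0 : Fin 2), 1), (.inl (1 : Fin 2), -1), (.inr (0 : Fin 12), 1), (.inr (3 : Fin 12), -1), (.inr (5 : Fin 12), 1), (.inr (7 : Fin 12), -1), (.inr (9 : Fin 12), 1), (.inr (10 : Fin 12), 1), (.inr (11 : Fin 12), -1)], [(.inl (0 : Fin 2), 1), (.inl (1 : Fin 2), -1), (.inr (0 : Fin 12), 1), (.inr (5 : Fin 12), 1), (.inr (10 : Fin 12), -1), (.inr (11 : Fin 12), -1)], [(.inl (0 : Fin 2), 1), (.inl (1 :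 Fin 2), -1), (.inr (0 : Fin 12), 1), (.inr (11 : Fin 12), -1)], [(.inr (0 : Fin 12), 1)], [(.inr (0 : Fin 12), 1)], [(.inr (0 : Fin 12), 1)], [(.inr (0 : Fin 12), 1)], [(.inr (0 : Fin 12), 1)], [(.inr (0 : Fin 12), 1)], [(.inr (0 : Fin 12), 1)]],
    [[(.inr (1 : Fin 12), 1), (.inr (4 : Fin 12), -1), (.inr (8 : Fin 12), 1), (.inr (11 : Fin 12), 1)], [(.inr (1 : Fin 12), 1), (.inr (4 : Fin 12), -1), (.inr (6 : Fin 12), -1), (.inr (8 : Fin 12), 1), (.inr (11 : Fin 12), 1)], [(.inr (6 : Fin 12), -1), (.inr (11 : Fin 12), 1)], [(.inl (0 : Fin 2), -1), (.inl (1 : Fin 2), 1), (.inr (0 : Fin 12), -1), (.inr (1 : Fin 12), -1), (.inr (6 : Fin 12), -1), (.inr (11 : Fin 12), 1)], [(.inl (0 : Fin 2), -1), (.inl (1 : Fin 2), 1), (.inr (0 : Fin 12), -1), (.inr (1 : Fin 12), -1), (.inr (2 : Fin 12), -1), (.inr (3 : Fin 12), 1), (.inr (5 : Fin 12), -1), (.inr (6 :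 Fin 12), -1), (.inr (8 : Fin 12), -1), (.inr (9 : Fin 12), -1), (.inr (10 : Fin 12), 1), (.inr (11 : Fin 12), 1)], [(.inl (0 : Fin 2), -1), (.inl (1 : Fin 2), -1), (.inr (0 : Fin 12), -1), (.inr (1 : Fin 12), 1), (.inr (2 : Fin 12), -1), (.inr (3 : Fin 12), 1), (.inr (4 : Fin 12), 1), (.inr (5 : Fin 12), -1), (.inr (6 : Fin 12), -1), (.inr (8 : Fin 12), -1), (.inr (9 : Fin 12), -1), (.inr (10 : Fin 12), 1)], [(.inl (1 : Fin 2), -1), (.inr (0 : Fin 12), -1), (.inr (1 : Fin 12), 1), (.inr (3 : Fin 12), 1), (.inr (4 : Fin 12), -1), (.inr (5 : Fin 12), -1), (.inr (6 : Fin 12), 1), (.inr (7 : Fin 12), 1), (.inr (8 : Fin 12), 1), (.inr (10 : Fin 12), 1), (.inr (11 : Fin 12), 1)], [(.inl (1 : Fin 2), -1), (.inr (0 : Fin 12), -1), (.inr (1 : Fin 12), 1), (.inr (5 : Fin 12), -1), (.inr (6 : Fin 12), 1)], [(.inl (0 : Fin 2), -1), (.inl (1 : Fin 2), 1), (.inr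 (0 : Fin 12), -1), (.inr (1 : Fin 12), 1), (.inr (6 : Fin 12), 1), (.inr (11 : Fin 12), 1)], [(.inr (0 : Fin 12), -1), (.inr (1 : Fin 12), 1)], [(.inr (0 : Fin 12), -1), (.inr (1 : Fin 12), 1)], [(.inr (1 : Fin 12), 1)], [(.inr (1 : Fin 12), 1)], [(.inr (1 : Fin 12), 1)], [(.inr (1 : Fin 12), 1)], [(.inr (1 : Fin 12), 1)]],
    [[(.inl (0 : Fin 2), -1), (.inr (2 : Fin 12), -1), (.inr (9 : Fin 12), 1)], [(.inl (0 : Fin 2), -1), (.inr (2 : Fin 12), -1), (.inr (8 : Fin 12), 1), (.inr (9 : Fin 12), 1)], [(.inr (4 : Fin 12), -1), (.inr (8 : Fin 12), 1), (.inr (9 : Fin 12), 1)], [(.inr (2 : Fin 12), 1), (.inr (3 : Fin 12), -1), (.inr (4 : Fin 12), -1), (.inr (8 : Fin 12), 1), (.inr (9 : Fin 12), 1)], [(.inl (0 : Fin 2), 1), (.inr (2 : Fin 12), 1), (.inr (4 : Fin 12), -1), (.inr (7 : Fin 12), 1), (.inr (8 : Fin 12), 1)], [(.inl (0 : Fin 2), 1), (.inr (2 :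 Fin 12), 1), (.inr (4 : Fin 12), -1), (.inr (7 : Fin 12), 1)], [(.inl (0 : Fin 2), 1), (.inr (2 : Fin 12), 1), (.inr (7 : Fin 12), 1), (.inr (8 : Fin 12), 1), (.inr (9 : Fin 12), -1)], [(.inr (2 : Fin 12), 1), (.inr (7 : Fin 12), 1), (.inr (8 : Fin 12), 1)], [(.inr (2 : Fin 12), 1), (.inr (8 : Fin 12), 1)], [(.inr (2 : Fin 12), 1)], [(.inr (2 : Fin 12), 1)], [(.inr (2 : Fin 12), 1)], [(.inr (2 : Fin 12), 1)], [(.inr (2 : Fin 12), 1)], [(.inr (2 : Fin 12), 1)], [(.inr (2 : Fin 12), 1)]],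
    [[(.inr (3 : Fin 12), 1), (.inr (7 : Fin 12), -1)], [(.inr (3 : Fin 12), 1), (.inr (7 : Fin 12), -1), (.inr (9 : Fin 12), 1)], [(.inl (0 : Fin 2), 1), (.inr (2 : Fin 12), -1), (.inr (7 : Fin 12), -1), (.inr (9 : Fin 12), 1)], [(.inl (0 : Fin 2), 1), (.inr (2 : Fin 12), -1), (.inr (3 : Fin 12), -1), (.inr (7 : Fin 12), -1), (.inr (9 : Fin 12), 1)], [(.inl (0 : Fin 2), 1), (.inr (2 : Fin 12), -1), (.inr (3 : Fin 12), 1), (.inr (7 : Fin 12), 1), (.inr (9 : Fin 12), 1)], [(.inl (0 : Fin 2), 1), (.inr (2 : Fin 12), -1), (.inr (3 : Fin 12), 1), (.inr (4 : Fin 12), 1), (.inr (7 : Fin 12), 1), (.inr (8 : Fin 12), -1), (.inr (9 : Fin 12), 1)], [(.inl (0 : Fin 2), -1), (.inr (2 : Fin 12), -1), (.inr (3 : Fin 12), 1), (.inr (7 : Fin 12), 1), (.inr (8 : Fin 12), -1)], [(.inr (2 : Fin 12), -1), (.inr (3 : Fin 12), 1), (.inr (7 : Fin 12), -1), (.inr (8 : Fin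 12), -1), (.inr (9 : Fin 12), -1)], [(.inr (2 : Fin 12), -1), (.inr (3 : Fin 12), 1), (.inr (8 : Fin 12), -1), (.inr (9 : Fin 12), -1)], [(.inr (2 : Fin 12), -1), (.inr (3 : Fin 12), 1)], [(.inr (3 : Fin 12), 1)], [(.inr (3 : Fin 12), 1)], [(.inr (3 : Fin 12), 1)], [(.inr (3 : Fin 12), 1)], [(.inr (3 : Fin 12), 1)], [(.inr (3 : Fin 12), 1)]],
    [[(.inr (4 : Fin 12), -1), (.inr (8 : Fin 12), -1)], [(.inr (4 : Fin 12), -1), (.inr (8 : Fin 12), -1)], [(.inr (8 : Fin 12), -1)], [(.inr (2 : Fin 12), -1), (.inr (8 : Fin 12), -1)], [(.inr (2 : Fin 12), -1), (.inr (3 : Fin 12), -1), (.inr (8 : Fin 12), -1), (.inr (9 : Fin 12), 1)], [(.inr (2 : Fin 12), -1), (.inr (3 : Fin 12), -1), (.inr (4 : Fin 12), -1), (.inr (8 : Fin 12), -1), (.inr (9 : Fin 12), 1)], [(.inl (0 : Fin 2), -1), (.inr (2 : Fin 12), -1), (.inr (3 : Fin 12), -1), (.inr (4 : Fin 12), 1), (.inr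 (9 : Fin 12), 1)], [(.inr (2 : Fin 12), -1), (.inr (3 : Fin 12), -1), (.inr (4 : Fin 12), 1), (.inr (7 : Fin 12), -1), (.inr (8 : Fin 12), -1)], [(.inr (2 : Fin 12), -1), (.inr (3 : Fin 12), -1), (.inr (4 : Fin 12), 1), (.inr (8 : Fin 12), -1), (.inr (9 : Fin 12), 1)], [(.inr (2 : Fin 12), -1), (.inr (3 : Fin 12), -1), (.inr (4 : Fin 12), 1)], [(.inr (2 : Fin 12), 1), (.inr (3 : Fin 12), -1), (.inr (4 : Fin 12), 1)], [(.inr (2 : Fin 12), 1), (.inr (4 : Fin 12), 1)], [(.inr (4 : Fin 12), 1)], [(.inr (4 : Fin 12), 1)], [(.inr (4 : Fin 12), 1)], [(.inr (4 : Fin 12), 1)]],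
    [[(.inr (5 : Fin 12), -1)], [(.inr (5 : Fin 12), -1), (.inr (10 : Fin 12), -1)], [(.inr (0 : Fin 12), -1), (.inr (3 : Fin 12), -1), (.inr (5 : Fin 12), -1), (.inr (7 : Fin 12), 1), (.inr (10 : Fin 12), -1)], [(.inr (0 : Fin 12), -1), (.inr (3 : Fin 12), -1), (.inr (7 : Fin 12), 1), (.inr (10 : Fin 12), -1)], [(.inr (0 : Fin 12), -1), (.inr (3 : Fin 12), -1), (.inr (7 : Fin 12), 1), (.inr (10 : Fin 12), -1)], [(.inr (0 : Fin 12), -1), (.inr (1 : Fin 12), -1), (.inr (3 : Fin 12), -1), (.inr (4 : Fin 12), -1), (.inr (7 : Fin 12), 1), (.inr (8 : Fin 12), -1), (.inr (10 : Fin 12), -1), (.inr (11 : Fin 12), 1)], [(.inl (0 : Fin 2), -1), (.inr (0 : Fin 12), -1), (.inr (1 : Fin 12), -1), (.inr (2 : Fin 12), 1), (.inr (3 : Fin 12), -1), (.inr (4 : Fin 12), 1), (.inr (6 : Fin 12), -1), (.inr (7 : Fin 12), 1), (.inr (9 : Fin 12), -1), (.inr (10 : Fin 12),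 -1), (.inr (11 : Fin 12), 1)], [(.inl (0 : Fin 2), 1), (.inr (0 : Fin 12), -1), (.inr (1 : Fin 12), -1), (.inr (2 : Fin 12), 1), (.inr (3 : Fin 12), 1), (.inr (6 : Fin 12), -1), (.inr (7 : Fin 12), 1), (.inr (8 : Fin 12), 1), (.inr (9 : Fin 12), -1), (.inr (10 : Fin 12), 1), (.inr (11 : Fin 12), -1)], [(.inl (0 : Fin 2), -1), (.inl (1 : Fin 2), 1), (.inr (0 : Fin 12), -1), (.inr (1 : Fin 12), -1), (.inr (2 : Fin 12), 1), (.inr (3 : Fin 12), 1), (.inr (5 : Fin 12), 1), (.inr (6 : Fin 12), -1), (.inr (8 : Fin 12), 1), (.inr (9 : Fin 12), -1), (.inr (10 : Fin 12), -1), (.inr (11 : Fin 12), 1)], [(.inr (0 : Fin 12), -1), (.inr (1 : Fin 12), -1), (.inr (2 : Fin 12), 1), (.inr (3 : Fin 12), 1), (.inr (5 : Fin 12), 1)], [(.inr (0 : Fin 12), -1), (.inr (5 : Fin 12), 1)], [(.inr (0 : Fin 12), -1), (.inr (5 : Fin 12), 1)], [(.inr (0 : Fin 12), -1), (.inr (5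 : Fin 12), 1)], [(.inr (0 : Fin 12), -1), (.inr (5 : Fin 12), 1)], [(.inr (5 : Fin 12), 1)], [(.inr (5 : Fin 12), 1)]],
    [[(.inr (6 : Fin 12), -1)], [(.inr (6 : Fin 12), -1)], [(.inr (6 : Fin 12), -1)], [(.inr (1 : Fin 12), -1), (.inr (6 : Fin 12), -1)], [(.inr (1 : Fin 12), -1), (.inr (2 : Fin 12), -1), (.inr (3 : Fin 12), 1), (.inr (5 : Fin 12), -1), (.inr (6 : Fin 12), -1), (.inr (8 : Fin 12), -1), (.inr (9 : Fin 12), -1), (.inr (10 : Fin 12), 1)], [(.inl (1 : Fin 2), 1), (.inr (1 : Fin 12), -1), (.inr (2 : Fin 12), -1), (.inr (3 : Fin 12), 1), (.inr (4 : Fin 12), 1), (.inr (5 : Fin 12), -1), (.inr (8 : Fin 12), -1), (.inr (9 : Fin 12), -1), (.inr (10 : Fin 12), 1), (.inr (11 : Fin 12), -1)], [(.inl (0 : Fin 2), 1), (.inl (1 : Fin 2), 1), (.inr (1 : Fin 12), -1), (.inr (2 : Fin 12), -1), (.inr (3 : Fin 12), 1), (.inr (5 : Fin 12), -1), (.inr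 (7 : Fin 12), 1), (.inr (10 : Fin 12), 1)], [(.inl (0 : Fin 2), -1), (.inl (1 : Fin 2), 1), (.inr (1 : Fin 12), -1), (.inr (2 : Fin 12), -1), (.inr (3 : Fin 12), 1), (.inr (4 : Fin 12), -1), (.inr (5 : Fin 12), -1), (.inr (7 : Fin 12), -1), (.inr (8 : Fin 12), -1), (.inr (10 : Fin 12), 1), (.inr (11 : Fin 12), 1)], [(.inl (1 : Fin 2), -1), (.inr (1 : Fin 12), -1), (.inr (2 : Fin 12), -1), (.inr (3 : Fin 12), 1), (.inr (4 : Fin 12), -1), (.inr (5 : Fin 12), -1), (.inr (8 : Fin 12), -1), (.inr (9 : Fin 12), -1), (.inr (10 : Fin 12), 1), (.inr (11 : Fin 12), 1)], [(.inl (1 : Fin 2), -1), (.inr (1 : Fin 12), -1), (.inr (2 : Fin 12), -1), (.inr (3 : Fin 12), 1), (.inr (4 : Fin 12), -1), (.inr (5 : Fin 12), -1), (.inr (6 : Fin 12), 1)], [(.inl (1 : Fin 2), -1), (.inr (1 : Fin 12), 1), (.inr (2 : Fin 12), -1), (.inr (3 : Fin 12), -1), (.inr (4 : Fin 12),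 1), (.inr (5 : Fin 12), -1), (.inr (6 : Fin 12), 1)], [(.inr (0 : Fin 12), 1), (.inr (1 : Fin 12), 1), (.inr (2 : Fin 12), -1), (.inr (4 : Fin 12), 1), (.inr (6 : Fin 12), 1)], [(.inr (1 : Fin 12), 1), (.inr (6 : Fin 12), 1)], [(.inr (1 : Fin 12), 1), (.inr (6 : Fin 12), 1)], [(.inr (1 : Fin 12), 1), (.inr (6 : Fin 12), 1)], [(.inr (6 : Fin 12), 1)]],
    [[(.inr (7 : Fin 12), -1)], [(.inr (7 : Fin 12), -1)], [(.inr (3 : Fin 12), -1), (.inr (7 : Fin 12), -1)], [(.inr (3 : Fin 12), -1), (.inr (7 : Fin 12), -1)], [(.inr (3 : Fin 12), -1), (.inr (7 : Fin 12), -1)], [(.inr (3 : Fin 12), -1), (.inr (4 : Fin 12), -1), (.inr (7 : Fin 12), -1), (.inr (8 : Fin 12), 1)], [(.inl (0 : Fin 2), -1), (.inr (3 : Fin 12), -1), (.inr (4 : Fin 12), -1), (.inr (7 : Fin 12), -1), (.inr (8 : Fin 12), -1), (.inr (9 : Fin 12), 1)], [(.inl (0 : Fin 2), -1), (.inr (3 : Fin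 12), -1), (.inr (4 : Fin 12), -1), (.inr (7 : Fin 12), 1), (.inr (9 : Fin 12), -1)], [(.inl (0 : Fin 2), -1), (.inr (3 : Fin 12), -1), (.inr (4 : Fin 12), -1), (.inr (7 : Fin 12), 1), (.inr (9 : Fin 12), 1)], [(.inl (0 : Fin 2), -1), (.inr (3 : Fin 12), -1), (.inr (4 : Fin 12), -1), (.inr (7 : Fin 12), 1)], [(.inr (2 : Fin 12), -1), (.inr (3 : Fin 12), -1), (.inr (7 : Fin 12), 1)], [(.inr (2 : Fin 12), -1), (.inr (3 : Fin 12), -1), (.inr (7 : Fin 12), 1)], [(.inr (2 : Fin 12), -1), (.inr (3 : Fin 12), -1), (.inr (7 : Fin 12), 1)], [(.inr (2 : Fin 12), -1), (.inr (7 : Fin 12), 1)], [(.inr (7 : Fin 12), 1)], [(.inr (7 : Fin 12), 1)]],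
    [[(.inr (8 : Fin 12), 1)], [(.inr (8 : Fin 12), 1)], [(.inr (4 : Fin 12), -1), (.inr (8 : Fin 12), 1)], [(.inr (2 : Fin 12), 1), (.inr (4 : Fin 12), -1), (.inr (8 : Fin 12), 1)], [(.inl (0 : Fin 2), 1), (.inr (2 : Fin 12), 1), (.inr (3 : Fin 12), 1), (.inr (4 : Fin 12), -1), (.inr (7 : Fin 12), 1), (.inr (8 : Fin 12), 1), (.inr (9 : Fin 12), -1)], [(.inl (0 : Fin 2), 1), (.inr (2 : Fin 12), 1), (.inr (3 : Fin 12), 1), (.inr (7 : Fin 12), 1), (.inr (9 : Fin 12), -1)], [(.inl (0 : Fin 2), -1), (.inr (2 : Fin 12), 1), (.inr (3 : Fin 12), 1), (.inr (4 : Fin 12), 1), (.inr (7 : Fin 12), 1), (.inr (9 : Fin 12), 1)], [(.inl (0 : Fin 2), 1), (.inr (2 : Fin 12), 1), (.inr (3 : Fin 12), 1), (.inr (4 : Fin 12), 1), (.inr (7 : Fin 12), -1), (.inr (8 : Fin 12), -1), (.inr (9 : Fin 12), 1)], [(.inl (0 : Fin 2), 1), (.inr (2 : Fin 12), 1), (.inr (3 : Fin 12),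 1), (.inr (4 : Fin 12), 1), (.inr (7 : Fin 12), 1), (.inr (8 : Fin 12), -1), (.inr (9 : Fin 12), -1)], [(.inl (0 : Fin 2), 1), (.inr (2 : Fin 12), 1), (.inr (3 : Fin 12), 1), (.inr (4 : Fin 12), 1), (.inr (7 : Fin 12), 1), (.inr (8 : Fin 12), 1)], [(.inl (0 : Fin 2), -1), (.inr (2 : Fin 12), -1), (.inr (3 : Fin 12), 1), (.inr (4 : Fin 12), 1), (.inr (7 : Fin 12), 1), (.inr (8 : Fin 12), 1)], [(.inl (0 : Fin 2), -1), (.inr (2 : Fin 12), -1), (.inr (3 : Fin 12), -1), (.inr (4 : Fin 12), 1), (.inr (8 : Fin 12), 1)], [(.inr (2 : Fin 12), 1), (.inr (4 : Fin 12), 1), (.inr (8 : Fin 12), 1)], [(.inr (2 : Fin 12), 1), (.inr (8 : Fin 12), 1)], [(.inr (2 : Fin 12), 1), (.inr (8 : Fin 12), 1)], [(.inr (8 : Fin 12), 1)]],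
    [[(.inr (9 : Fin 12), -1)], [(.inr (9 : Fin 12), -1)], [(.inl (0 : Fin 2), -1), (.inr (2 : Fin 12), 1), (.inr (9 : Fin 12), -1)], [(.inl (0 : Fin 2), -1), (.inr (2 : Fin 12), 1), (.inr (3 : Fin 12), 1), (.inr (9 : Fin 12), -1)], [(.inl (0 : Fin 2), -1), (.inr (2 : Fin 12), 1), (.inr (3 : Fin 12), -1), (.inr (7 : Fin 12), 1), (.inr (9 : Fin 12), -1)], [(.inl (0 : Fin 2), -1), (.inr (2 : Fin 12), 1), (.inr (3 : Fin 12), -1), (.inr (4 : Fin 12), -1), (.inr (7 : Fin 12), 1), (.inr (8 : Fin 12), -1), (.inr (9 : Fin 12), -1)], [(.inl (0 : Fin 2), 1), (.inr (2 : Fin 12), 1), (.inr (3 : Fin 12), -1), (.inr (7 : Fin 12), 1), (.inr (8 : Fin 12), -1), (.inr (9 : Fin 12), 1)], [(.inr (2 : Fin 12), 1), (.inr (3 : Fin 12), -1), (.inr (8 : Fin 12), -1), (.inr (9 : Fin 12), -1)], [(.inr (2 : Fin 12), 1), (.inr (3 : Fin 12), -1), (.inr (7 : Fin 12), -1), (.inr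 (8 : Fin 12), -1), (.inr (9 : Fin 12), -1)], [(.inr (2 : Fin 12), 1), (.inr (3 : Fin 12), -1), (.inr (7 : Fin 12), -1), (.inr (8 : Fin 12), 1), (.inr (9 : Fin 12), 1)], [(.inl (0 : Fin 2), -1), (.inr (3 : Fin 12), -1), (.inr (4 : Fin 12), 1), (.inr (7 : Fin 12), -1), (.inr (9 : Fin 12), 1)], [(.inl (0 : Fin 2), -1), (.inr (4 : Fin 12), 1), (.inr (7 : Fin 12), -1), (.inr (9 : Fin 12), 1)], [(.inl (0 : Fin 2), -1), (.inr (2 : Fin 12), -1), (.inr (3 : Fin 12), -1), (.inr (4 : Fin 12), 1), (.inr (9 : Fin 12), 1)], [(.inr (3 : Fin 12), -1), (.inr (4 : Fin 12), 1), (.inr (9 : Fin 12), 1)], [(.inr (3 : Fin 12), -1), (.inr (9 : Fin 12), 1)], [(.inr (9 : Fin 12), 1)]],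
    [[(.inr (10 : Fin 12), 1)], [(.inr (10 : Fin 12), 1)], [(.inr (0 : Fin 12), 1), (.inr (3 : Fin 12), 1), (.inr (7 : Fin 12), -1), (.inr (10 : Fin 12), 1)], [(.inr (0 : Fin 12), 1), (.inr (3 : Fin 12), 1), (.inr (5 : Fin 12), -1), (.inr (7 : Fin 12), -1), (.inr (10 : Fin 12), 1)], [(.inr (0 : Fin 12), 1), (.inr (3 : Fin 12), 1), (.inr (5 : Fin 12), -1), (.inr (7 : Fin 12), -1), (.inr (10 : Fin 12), 1)], [(.inl (1 : Fin 2), 1), (.inr (0 : Fin 12), 1), (.inr (1 : Fin 12), 1), (.inr (3 : Fin 12), 1), (.inr (4 : Fin 12), 1), (.inr (5 : Fin 12), -1), (.inr (6 : Fin 12), 1), (.inr (7 : Fin 12), -1), (.inr (8 : Fin 12), 1), (.inr (10 : Fin 12), 1), (.inr (11 : Fin 12), -1)], [(.inl (0 : Fin 2), 1), (.inl (1 : Fin 2), 1), (.inr (0 : Fin 12), 1), (.inr (1 : Fin 12), 1), (.inr (2 : Fin 12), -1), (.inr (3 : Fin 12), 1), (.inr (4 : Fin 12), -1), (.inr (5 : Fin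 12), -1), (.inr (6 : Fin 12), -1), (.inr (8 : Fin 12), -1), (.inr (9 : Fin 12), -1), (.inr (10 : Fin 12), 1)], [(.inl (0 : Fin 2), -1), (.inl (1 : Fin 2), 1), (.inr (0 : Fin 12), 1), (.inr (1 : Fin 12), 1), (.inr (2 : Fin 12), -1), (.inr (3 : Fin 12), -1), (.inr (5 : Fin 12), -1), (.inr (6 : Fin 12), -1), (.inr (8 : Fin 12), 1), (.inr (9 : Fin 12), -1), (.inr (10 : Fin 12), -1), (.inr (11 : Fin 12), -1)], [(.inl (0 : Fin 2), 1), (.inr (0 : Fin 12), 1), (.inr (1 : Fin 12), 1), (.inr (2 : Fin 12), -1), (.inr (3 : Fin 12), -1), (.inr (5 : Fin 12), 1), (.inr (6 : Fin 12), -1), (.inr (7 : Fin 12), 1), (.inr (8 : Fin 12), 1), (.inr (9 : Fin 12), -1), (.inr (11 : Fin 12), 1)], [(.inl (1 : Fin 2), 1), (.inr (0 : Fin 12), 1), (.inr (1 : Fin 12), 1), (.inr (2 : Fin 12), -1), (.inr (3 : Fin 12), -1), (.inr (5 : Fin 12), 1), (.inr (6 : Fin 12), 1), (.inr (7 :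 Fin 12), 1), (.inr (8 : Fin 12), -1), (.inr (9 : Fin 12), 1), (.inr (10 : Fin 12), 1)], [(.inl (0 : Fin 2), 1), (.inl (1 : Fin 2), 1), (.inr (0 : Fin 12), 1), (.inr (1 : Fin 12), -1), (.inr (2 : Fin 12), -1), (.inr (3 : Fin 12), 1), (.inr (5 : Fin 12), 1), (.inr (7 : Fin 12), 1), (.inr (10 : Fin 12), 1)], [(.inl (0 : Fin 2), 1), (.inl (1 : Fin 2), 1), (.inr (1 : Fin 12), -1), (.inr (2 : Fin 12), -1), (.inr (3 : Fin 12), 1), (.inr (5 : Fin 12), -1), (.inr (7 : Fin 12), 1), (.inr (10 : Fin 12), 1)], [(.inl (0 : Fin 2), 1), (.inl (1 : Fin 2), 1), (.inr (1 : Fin 12), -1), (.inr (2 : Fin 12), -1), (.inr (3 : Fin 12), 1), (.inr (5 : Fin 12), -1), (.inr (7 : Fin 12), 1), (.inr (10 : Fin 12), 1)], [(.inl (0 : Fin 2), 1), (.inl (1 : Fin 2), 1), (.inr (0 : Fin 12), 1), (.inr (1 : Fin 12), -1), (.inr (5 : Fin 12), -1), (.inr (10 : Fin 12), 1)], [(.inr (5 : Fin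 12), -1), (.inr (10 : Fin 12), 1)], [(.inr (10 : Fin 12), 1)]],
    [[(.inr (11 : Fin 12), -1)], [(.inr (11 : Fin 12), -1)], [(.inr (1 : Fin 12), 1), (.inr (4 : Fin 12), 1), (.inr (8 : Fin 12), 1), (.inr (11 : Fin 12), -1)], [(.inl (0 : Fin 2), 1), (.inl (1 : Fin 2), -1), (.inr (0 : Fin 12), 1), (.inr (1 : Fin 12), 1), (.inr (2 : Fin 12), 1), (.inr (4 : Fin 12), 1), (.inr (8 : Fin 12), 1), (.inr (11 : Fin 12), -1)], [(.inl (1 : Fin 2), -1), (.inr (0 : Fin 12), 1), (.inr (1 : Fin 12), 1), (.inr (2 : Fin 12), -1), (.inr (4 : Fin 12), 1), (.inr (5 : Fin 12), 1), (.inr (7 : Fin 12), -1), (.inr (8 : Fin 12), 1), (.inr (9 : Fin 12), -1), (.inr (11 : Fin 12), -1)], [(.inl (1 : Fin 2), 1), (.inr (0 : Fin 12), 1), (.inr (1 : Fin 12), -1), (.inr (2 : Fin 12), -1), (.inr (4 : Fin 12), 1), (.inr (5 : Fin 12), 1), (.inr (7 : Fin 12), -1), (.inr (8 : Fin 12), -1),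 (.inr (9 : Fin 12), -1), (.inr (11 : Fin 12), -1)], [(.inl (1 : Fin 2), 1), (.inr (0 : Fin 12), 1), (.inr (1 : Fin 12), -1), (.inr (2 : Fin 12), 1), (.inr (4 : Fin 12), 1), (.inr (5 : Fin 12), 1), (.inr (6 : Fin 12), 1), (.inr (7 : Fin 12), 1), (.inr (8 : Fin 12), 1), (.inr (9 : Fin 12), -1), (.inr (11 : Fin 12), 1)], [(.inl (0 : Fin 2), -1), (.inl (1 : Fin 2), 1), (.inr (0 : Fin 12), 1), (.inr (1 : Fin 12), -1), (.inr (2 : Fin 12), 1), (.inr (3 : Fin 12), 1), (.inr (5 : Fin 12), 1), (.inr (6 : Fin 12), 1), (.inr (8 : Fin 12), -1), (.inr (9 : Fin 12), 1), (.inr (10 : Fin 12), 1), (.inr (11 : Fin 12), -1)], [(.inl (1 : Fin 2), -1), (.inr (0 : Fin 12), 1), (.inr (1 : Fin 12), -1), (.inr (2 : Fin 12), 1), (.inr (3 : Fin 12), 1), (.inr (6 : Fin 12), 1), (.inr (7 : Fin 12), -1), (.inr (8 : Fin 12), -1), (.inr (9 : Fin 12), 1), (.inr (10 : Fin 12), 1)],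 [(.inl (0 : Fin 2), -1), (.inr (0 : Fin 12), 1), (.inr (1 : Fin 12), -1), (.inr (2 : Fin 12), 1), (.inr (3 : Fin 12), 1), (.inr (6 : Fin 12), -1), (.inr (7 : Fin 12), -1), (.inr (8 : Fin 12), 1), (.inr (9 : Fin 12), -1), (.inr (10 : Fin 12), 1), (.inr (11 : Fin 12), 1)], [(.inl (0 : Fin 2), 1), (.inr (0 : Fin 12), 1), (.inr (1 : Fin 12), -1), (.inr (2 : Fin 12), -1), (.inr (3 : Fin 12), 1), (.inr (6 : Fin 12), 1), (.inr (7 : Fin 12), -1), (.inr (8 : Fin 12), 1), (.inr (9 : Fin 12), 1), (.inr (10 : Fin 12), 1), (.inr (11 : Fin 12), 1)], [(.inl (0 : Fin 2), 1), (.inl (1 : Fin 2), 1), (.inr (1 : Fin 12), -1), (.inr (2 : Fin 12), -1), (.inr (3 : Fin 12), 1), (.inr (5 : Fin 12), -1), (.inr (6 : Fin 12), 1), (.inr (7 : Fin 12), 1), (.inr (8 : Fin 12), 1), (.inr (9 : Fin 12), 1), (.inr (11 : Fin 12), 1)], [(.inl (0 : Fin 2), -1), (.inl (1 : Fin 2), 1), (.inr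 (0 : Fin 12), -1), (.inr (1 : Fin 12), -1), (.inr (2 : Fin 12), 1), (.inr (4 : Fin 12), -1), (.inr (6 : Fin 12), 1), (.inr (8 : Fin 12), 1), (.inr (11 : Fin 12), 1)], [(.inl (0 : Fin 2), -1), (.inl (1 : Fin 2), 1), (.inr (0 : Fin 12), -1), (.inr (1 : Fin 12), 1), (.inr (6 : Fin 12), 1), (.inr (11 : Fin 12), 1)], [(.inl (0 : Fin 2), -1), (.inl (1 : Fin 2), 1), (.inr (0 : Fin 12), -1), (.inr (11 : Fin 12), 1)], [(.inr (11 : Fin 12), 1)]]]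

/-- The diagonal entries. -/
def invSign : chevG2.Idx → ℤ := Sum.elim ![1, 1] ![-1, 1, -1, 1, -1, -1, -1, -1, 1, -1, 1, -1]

theorem invCert_ok : ∀ c, Chk chevG2 3 invWord (invCert c) [(c, 1)] [(c, invSign c)] := by
  decide +kernel

end Cfsg.Agent.Twisted
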