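/-
Twisted groups, part 29: tables for ²G₂(3): the matrices of the root elements over the field with three
elements, words in two generators for the elements of the defining words, and an orbit of 216 vectors
with a colouring by three colours.
-/
import Cfsg.Agent.EqLemmas

set_option autoImplicit false
set_option maxRecDepth 100000

namespace Cfsg.Agent.Twisted.ReeThree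

/-- The rows of x_r(1) and x_r(2). -/
def rootTab : List (List (List (List ℕ))) := [
    [[[1,0,0,0,0,0,0,0,0,0,0,0,0,2],
      [0,1,0,0,0,0,0,0,0,0,0,0,0,1],
      [0,1,1,0,0,0,0,0,0,0,0,0,0,2],
      [0,0,0,1,0,0,0,0,1,0,0,0,0,0],
      [0,0,0,0,1,0,0,0,0,0,1,0,0,0],
      [0,0,0,0,0,1,0,0,0,0,0,2,0,0],
      [0,0,0,0,0,0,1,0,0,0,0,0,0,0],
      [0,0,0,0,0,0,0,1,0,0,0,0,2,0],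
      [0,0,0,0,0,0,0,0,1,0,0,0,0,0],
      [0,0,0,0,0,0,0,0,0,1,0,0,0,0],
      [0,0,0,0,0,0,0,0,0,0,1,0,0,0],
      [0,0,0,0,0,0,0,0,0,0,0,1,0,0],
      [0,0,0,0,0,0,0,0,0,0,0,0,1,0],
      [0,0,0,0,0,0,0,0,0,0,0,0,0,1]],
     [[1,0,0,0,0,0,0,0,0,0,0,0,0,1],
      [0,1,0,0,0,0,0,0,0,0,0,0,0,2],
      [0,2,1,0,0,0,0,0,0,0,0,0,0,2],
      [0,0,0,1,0,0,0,0,2,0,0,0,0,0],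
      [0,0,0,0,1,0,0,0,0,0,2,0,0,0],
      [0,0,0,0,0,1,0,0,0,0,0,1,0,0],
      [0,0,0,0,0,0,1,0,0,0,0,0,0,0],
      [0,0,0,0,0,0,0,1,0,0,0,0,1,0],
      [0,0,0,0,0,0,0,0,1,0,0,0,0,0],
      [0,0,0,0,0,0,0,0,0,1,0,0,0,0],
      [0,0,0,0,0,0,0,0,0,0,1,0,0,0],
      [0,0,0,0,0,0,0,0,0,0,0,1,0,0],
      [0,0,0,0,0,0,0,0,0,0,0,0,1,0],
      [0,0,0,0,0,0,0,0,0,0,0,0,0,1]]],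
    [[[1,0,0,0,0,0,0,0,0,0,0,0,2,0],
      [0,1,0,0,0,0,0,0,0,0,0,0,2,0],
      [0,0,1,0,0,0,0,1,0,0,0,0,0,0],
      [0,2,0,1,0,0,0,0,0,0,0,0,2,0],
      [0,0,0,0,1,0,0,0,0,1,0,0,0,0],
      [0,0,0,0,0,1,0,0,0,0,0,0,0,0],
      [0,0,0,0,0,0,1,0,0,0,0,2,0,0],
      [0,0,0,0,0,0,0,1,0,0,0,0,0,0],
      [0,0,0,0,0,0,0,0,1,0,0,0,0,2],
      [0,0,0,0,0,0,0,0,0,1,0,0,0,0],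
      [0,0,0,0,0,0,0,0,0,0,1,0,0,0],
      [0,0,0,0,0,0,0,0,0,0,0,1,0,0],
      [0,0,0,0,0,0,0,0,0,0,0,0,1,0],
      [0,0,0,0,0,0,0,0,0,0,0,0,0,1]],
     [[1,0,0,0,0,0,0,0,0,0,0,0,1,0],
      [0,1,0,0,0,0,0,0,0,0,0,0,1,0],
      [0,0,1,0,0,0,0,2,0,0,0,0,0,0],
      [0,1,0,1,0,0,0,0,0,0,0,0,2,0],
      [0,0,0,0,1,0,0,0,0,2,0,0,0,0],
      [0,0,0,0,0,1,0,0,0,0,0,0,0,0],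
      [0,0,0,0,0,0,1,0,0,0,0,1,0,0],
      [0,0,0,0,0,0,0,1,0,0,0,0,0,0],
      [0,0,0,0,0,0,0,0,1,0,0,0,0,1],
      [0,0,0,0,0,0,0,0,0,1,0,0,0,0],
      [0,0,0,0,0,0,0,0,0,0,1,0,0,0],
      [0,0,0,0,0,0,0,0,0,0,0,1,0,0],
      [0,0,0,0,0,0,0,0,0,0,0,0,1,0],
      [0,0,0,0,0,0,0,0,0,0,0,0,0,1]]],
    [[[1,0,0,0,0,0,0,0,0,0,0,1,0,0],
      [0,1,0,0,0,0,0,0,0,0,0,0,0,0],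
      [0,0,1,0,0,0,0,0,0,0,0,0,1,0],
      [0,0,0,1,0,0,0,0,0,0,0,0,0,2],
      [1,0,0,0,1,0,0,0,0,0,0,2,0,0],
      [0,0,0,0,0,1,0,0,0,1,0,0,1,0],
      [0,0,0,0,0,0,1,0,0,0,2,0,0,2],
      [0,0,0,0,0,0,0,1,0,0,0,0,0,0],
      [0,0,0,0,0,0,0,0,1,0,0,0,0,0],
      [0,0,0,0,0,0,0,0,0,1,0,0,2,0],
      [0,0,0,0,0,0,0,0,0,0,1,0,0,2],
      [0,0,0,0,0,0,0,0,0,0,0,1,0,0],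
      [0,0,0,0,0,0,0,0,0,0,0,0,1,0],
      [0,0,0,0,0,0,0,0,0,0,0,0,0,1]],
     [[1,0,0,0,0,0,0,0,0,0,0,2,0,0],
      [0,1,0,0,0,0,0,0,0,0,0,0,0,0],
      [0,0,1,0,0,0,0,0,0,0,0,0,2,0],
      [0,0,0,1,0,0,0,0,0,0,0,0,0,1],
      [2,0,0,0,1,0,0,0,0,0,0,2,0,0],
      [0,0,0,0,0,1,0,0,0,2,0,0,1,0],
      [0,0,0,0,0,0,1,0,0,0,1,0,0,2],
      [0,0,0,0,0,0,0,1,0,0,0,0,0,0],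
      [0,0,0,0,0,0,0,0,1,0,0,0,0,0],
      [0,0,0,0,0,0,0,0,0,1,0,0,1,0],
      [0,0,0,0,0,0,0,0,0,0,1,0,0,1],
      [0,0,0,0,0,0,0,0,0,0,0,1,0,0],
      [0,0,0,0,0,0,0,0,0,0,0,0,1,0],
      [0,0,0,0,0,0,0,0,0,0,0,0,0,1]]],
    [[[1,0,0,0,0,0,0,0,0,0,2,0,0,0],
      [0,1,0,0,0,0,0,0,0,0,0,0,0,0],
      [0,0,1,0,0,0,0,0,1,0,0,0,0,0],
      [0,0,0,1,0,0,0,0,0,0,0,0,0,0],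
      [0,0,0,0,1,0,1,0,2,0,0,0,0,0],
      [2,1,0,0,0,1,0,0,0,0,2,0,0,0],
      [0,0,0,0,0,0,1,0,1,0,0,0,0,0],
      [0,0,0,0,0,0,0,1,0,0,0,0,0,2],
      [0,0,0,0,0,0,0,0,1,0,0,0,0,0],
      [0,0,0,0,0,0,0,0,0,1,0,2,0,1],
      [0,0,0,0,0,0,0,0,0,0,1,0,0,0],
      [0,0,0,0,0,0,0,0,0,0,0,1,0,1],
      [0,0,0,0,0,0,0,0,0,0,0,0,1,0],
      [0,0,0,0,0,0,0,0,0,0,0,0,0,1]],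
     [[1,0,0,0,0,0,0,0,0,0,1,0,0,0],
      [0,1,0,0,0,0,0,0,0,0,0,0,0,0],
      [0,0,1,0,0,0,0,0,2,0,0,0,0,0],
      [0,0,0,1,0,0,0,0,0,0,0,0,0,0],
      [0,0,0,0,1,0,2,0,2,0,0,0,0,0],
      [1,2,0,0,0,1,0,0,0,0,2,0,0,0],
      [0,0,0,0,0,0,1,0,2,0,0,0,0,0],
      [0,0,0,0,0,0,0,1,0,0,0,0,0,1],
      [0,0,0,0,0,0,0,0,1,0,0,0,0,0],
      [0,0,0,0,0,0,0,0,0,1,0,1,0,1],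
      [0,0,0,0,0,0,0,0,0,0,1,0,0,0],
      [0,0,0,0,0,0,0,0,0,0,0,1,0,2],
      [0,0,0,0,0,0,0,0,0,0,0,0,1,0],
      [0,0,0,0,0,0,0,0,0,0,0,0,0,1]]],
    [[[1,0,0,0,0,0,0,0,0,2,0,0,0,0],
      [0,1,0,0,0,0,0,0,0,0,0,0,0,0],
      [0,0,1,0,0,0,0,0,0,0,0,0,0,0],
      [0,0,0,1,0,0,0,2,0,0,0,0,0,0],
      [0,0,0,0,1,2,0,1,0,0,0,0,0,0],
      [0,0,0,0,0,1,0,1,0,0,0,0,0,0],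
      [2,2,0,0,0,0,1,0,0,2,0,0,0,0],
      [0,0,0,0,0,0,0,1,0,0,0,0,0,0],
      [0,0,0,0,0,0,0,0,1,0,0,0,1,0],
      [0,0,0,0,0,0,0,0,0,1,0,0,0,0],
      [0,0,0,0,0,0,0,0,0,0,1,1,2,0],
      [0,0,0,0,0,0,0,0,0,0,0,1,1,0],
      [0,0,0,0,0,0,0,0,0,0,0,0,1,0],
      [0,0,0,0,0,0,0,0,0,0,0,0,0,1]],
     [[1,0,0,0,0,0,0,0,0,1,0,0,0,0],
      [0,1,0,0,0,0,0,0,0,0,0,0,0,0],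
      [0,0,1,0,0,0,0,0,0,0,0,0,0,0],
      [0,0,0,1,0,0,0,1,0,0,0,0,0,0],
      [0,0,0,0,1,1,0,1,0,0,0,0,0,0],
      [0,0,0,0,0,1,0,2,0,0,0,0,0,0],
      [1,1,0,0,0,0,1,0,0,2,0,0,0,0],
      [0,0,0,0,0,0,0,1,0,0,0,0,0,0],
      [0,0,0,0,0,0,0,0,1,0,0,0,2,0],
      [0,0,0,0,0,0,0,0,0,1,0,0,0,0],
      [0,0,0,0,0,0,0,0,0,0,1,2,2,0],
      [0,0,0,0,0,0,0,0,0,0,0,1,2,0],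
      [0,0,0,0,0,0,0,0,0,0,0,0,1,0],
      [0,0,0,0,0,0,0,0,0,0,0,0,0,1]]],
    [[[1,0,0,0,0,0,0,0,0,0,0,0,0,0],
      [0,1,0,0,0,0,0,0,2,0,0,0,0,0],
      [0,0,1,2,0,0,0,0,0,0,0,0,0,0],
      [0,0,0,1,0,0,0,0,0,0,0,0,0,0],
      [0,0,0,0,1,0,0,0,0,0,0,0,0,0],
      [0,0,0,0,0,1,2,0,0,0,0,0,0,0],
      [0,0,0,0,0,0,1,0,0,0,0,0,0,0],
      [0,2,0,0,0,0,0,1,2,0,0,0,0,0],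
      [0,0,0,0,0,0,0,0,1,0,0,0,0,0],
      [0,0,0,0,0,0,0,0,0,1,1,0,0,0],
      [0,0,0,0,0,0,0,0,0,0,1,0,0,0],
      [0,0,0,0,0,0,0,0,0,0,0,1,0,0],
      [0,0,0,0,0,0,0,0,0,0,0,0,1,1],
      [0,0,0,0,0,0,0,0,0,0,0,0,0,1]],
     [[1,0,0,0,0,0,0,0,0,0,0,0,0,0],
      [0,1,0,0,0,0,0,0,1,0,0,0,0,0],
      [0,0,1,1,0,0,0,0,0,0,0,0,0,0],
      [0,0,0,1,0,0,0,0,0,0,0,0,0,0],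
      [0,0,0,0,1,0,0,0,0,0,0,0,0,0],
      [0,0,0,0,0,1,1,0,0,0,0,0,0,0],
      [0,0,0,0,0,0,1,0,0,0,0,0,0,0],
      [0,1,0,0,0,0,0,1,2,0,0,0,0,0],
      [0,0,0,0,0,0,0,0,1,0,0,0,0,0],
      [0,0,0,0,0,0,0,0,0,1,2,0,0,0],
      [0,0,0,0,0,0,0,0,0,0,1,0,0,0],
      [0,0,0,0,0,0,0,0,0,0,0,1,0,0],
      [0,0,0,0,0,0,0,0,0,0,0,0,1,2],
      [0,0,0,0,0,0,0,0,0,0,0,0,0,1]]],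
    [[[1,0,0,0,0,0,0,0,0,0,0,0,0,0],
      [0,1,0,0,0,0,0,1,0,0,0,0,0,0],
      [0,0,1,0,0,0,0,0,0,0,0,0,0,0],
      [0,0,2,1,0,0,0,0,0,0,0,0,0,0],
      [0,0,0,0,1,0,0,0,0,0,0,0,0,0],
      [0,0,0,0,0,1,0,0,0,0,0,0,0,0],
      [0,0,0,0,0,2,1,0,0,0,0,0,0,0],
      [0,0,0,0,0,0,0,1,0,0,0,0,0,0],
      [0,1,0,0,0,0,0,2,1,0,0,0,0,0],
      [0,0,0,0,0,0,0,0,0,1,0,0,0,0],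
      [0,0,0,0,0,0,0,0,0,1,1,0,0,0],
      [0,0,0,0,0,0,0,0,0,0,0,1,0,0],
      [0,0,0,0,0,0,0,0,0,0,0,0,1,0],
      [0,0,0,0,0,0,0,0,0,0,0,0,1,1]],
     [[1,0,0,0,0,0,0,0,0,0,0,0,0,0],
      [0,1,0,0,0,0,0,2,0,0,0,0,0,0],
      [0,0,1,0,0,0,0,0,0,0,0,0,0,0],
      [0,0,1,1,0,0,0,0,0,0,0,0,0,0],
      [0,0,0,0,1,0,0,0,0,0,0,0,0,0],
      [0,0,0,0,0,1,0,0,0,0,0,0,0,0],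
      [0,0,0,0,0,1,1,0,0,0,0,0,0,0],
      [0,0,0,0,0,0,0,1,0,0,0,0,0,0],
      [0,2,0,0,0,0,0,2,1,0,0,0,0,0],
      [0,0,0,0,0,0,0,0,0,1,0,0,0,0],
      [0,0,0,0,0,0,0,0,0,2,1,0,0,0],
      [0,0,0,0,0,0,0,0,0,0,0,1,0,0],
      [0,0,0,0,0,0,0,0,0,0,0,0,1,0],
      [0,0,0,0,0,0,0,0,0,0,0,0,2,1]]],
    [[[1,0,0,0,0,0,1,0,0,0,0,0,0,0],
      [0,1,0,0,0,0,0,0,0,0,0,0,0,0],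
      [0,0,1,0,0,0,0,0,0,0,0,0,0,0],
      [0,0,0,1,0,0,0,0,0,0,0,0,0,0],
      [0,0,0,2,1,0,0,0,0,0,0,0,0,0],
      [0,0,0,2,2,1,0,0,0,0,0,0,0,0],
      [0,0,0,0,0,0,1,0,0,0,0,0,0,0],
      [0,0,0,2,0,0,0,1,0,0,0,0,0,0],
      [0,0,0,0,0,0,0,0,1,0,0,0,0,0],
      [1,1,0,0,0,0,2,0,0,1,0,0,0,0],
      [0,0,0,0,0,0,0,0,2,0,1,0,0,0],
      [0,0,0,0,0,0,0,0,1,0,1,1,0,0],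
      [0,0,0,0,0,0,0,0,1,0,0,0,1,0],
      [0,0,0,0,0,0,0,0,0,0,0,0,0,1]],
     [[1,0,0,0,0,0,2,0,0,0,0,0,0,0],
      [0,1,0,0,0,0,0,0,0,0,0,0,0,0],
      [0,0,1,0,0,0,0,0,0,0,0,0,0,0],
      [0,0,0,1,0,0,0,0,0,0,0,0,0,0],
      [0,0,0,1,1,0,0,0,0,0,0,0,0,0],
      [0,0,0,2,1,1,0,0,0,0,0,0,0,0],
      [0,0,0,0,0,0,1,0,0,0,0,0,0,0],
      [0,0,0,1,0,0,0,1,0,0,0,0,0,0],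
      [0,0,0,0,0,0,0,0,1,0,0,0,0,0],
      [2,2,0,0,0,0,2,0,0,1,0,0,0,0],
      [0,0,0,0,0,0,0,0,1,0,1,0,0,0],
      [0,0,0,0,0,0,0,0,1,0,2,1,0,0],
      [0,0,0,0,0,0,0,0,2,0,0,0,1,0],
      [0,0,0,0,0,0,0,0,0,0,0,0,0,1]]],
    [[[1,0,0,0,0,1,0,0,0,0,0,0,0,0],
      [0,1,0,0,0,0,0,0,0,0,0,0,0,0],
      [0,0,1,0,0,0,0,0,0,0,0,0,0,0],
      [0,0,0,1,0,0,0,0,0,0,0,0,0,0],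
      [0,0,2,0,1,0,0,0,0,0,0,0,0,0],
      [0,0,0,0,0,1,0,0,0,0,0,0,0,0],
      [0,0,1,0,1,0,1,0,0,0,0,0,0,0],
      [0,0,0,0,0,0,0,1,0,0,0,0,0,0],
      [0,0,1,0,0,0,0,0,1,0,0,0,0,0],
      [0,0,0,0,0,0,0,2,0,1,0,0,0,0],
      [1,2,0,0,0,2,0,0,0,0,1,0,0,0],
      [0,0,0,0,0,0,0,2,0,2,0,1,0,0],
      [0,0,0,0,0,0,0,0,0,0,0,0,1,0],
      [0,0,0,0,0,0,0,2,0,0,0,0,0,1]],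
     [[1,0,0,0,0,2,0,0,0,0,0,0,0,0],
      [0,1,0,0,0,0,0,0,0,0,0,0,0,0],
      [0,0,1,0,0,0,0,0,0,0,0,0,0,0],
      [0,0,0,1,0,0,0,0,0,0,0,0,0,0],
      [0,0,1,0,1,0,0,0,0,0,0,0,0,0],
      [0,0,0,0,0,1,0,0,0,0,0,0,0,0],
      [0,0,1,0,2,0,1,0,0,0,0,0,0,0],
      [0,0,0,0,0,0,0,1,0,0,0,0,0,0],
      [0,0,2,0,0,0,0,0,1,0,0,0,0,0],
      [0,0,0,0,0,0,0,1,0,1,0,0,0,0],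
      [2,1,0,0,0,2,0,0,0,0,1,0,0,0],
      [0,0,0,0,0,0,0,2,0,1,0,1,0,0],
      [0,0,0,0,0,0,0,0,0,0,0,0,1,0],
      [0,0,0,0,0,0,0,1,0,0,0,0,0,1]]],
    [[[1,0,0,0,2,0,0,0,0,0,0,0,0,0],
      [0,1,0,0,0,0,0,0,0,0,0,0,0,0],
      [0,0,1,0,0,0,0,0,0,0,0,0,0,0],
      [0,0,0,1,0,0,0,0,0,0,0,0,0,0],
      [0,0,0,0,1,0,0,0,0,0,0,0,0,0],
      [0,0,1,0,0,1,0,0,0,0,0,0,0,0],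
      [0,0,0,1,0,0,1,0,0,0,0,0,0,0],
      [0,0,0,0,0,0,0,1,0,0,0,0,0,0],
      [0,0,0,0,0,0,0,0,1,0,0,0,0,0],
      [0,0,2,0,0,1,0,0,0,1,0,0,0,0],
      [0,0,0,1,0,0,2,0,0,0,1,0,0,0],
      [2,0,0,0,2,0,0,0,0,0,0,1,0,0],
      [0,0,1,0,0,0,0,0,0,0,0,0,1,0],
      [0,0,0,2,0,0,0,0,0,0,0,0,0,1]],
     [[1,0,0,0,1,0,0,0,0,0,0,0,0,0],
      [0,1,0,0,0,0,0,0,0,0,0,0,0,0],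
      [0,0,1,0,0,0,0,0,0,0,0,0,0,0],
      [0,0,0,1,0,0,0,0,0,0,0,0,0,0],
      [0,0,0,0,1,0,0,0,0,0,0,0,0,0],
      [0,0,2,0,0,1,0,0,0,0,0,0,0,0],
      [0,0,0,2,0,0,1,0,0,0,0,0,0,0],
      [0,0,0,0,0,0,0,1,0,0,0,0,0,0],
      [0,0,0,0,0,0,0,0,1,0,0,0,0,0],
      [0,0,2,0,0,2,0,0,0,1,0,0,0,0],
      [0,0,0,1,0,0,1,0,0,0,1,0,0,0],
      [1,0,0,0,2,0,0,0,0,0,0,1,0,0],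
      [0,0,2,0,0,0,0,0,0,0,0,0,1,0],
      [0,0,0,1,0,0,0,0,0,0,0,0,0,1]]],
    [[[1,0,0,1,0,0,0,0,0,0,0,0,0,0],
      [0,1,0,1,0,0,0,0,0,0,0,0,0,0],
      [0,0,1,0,0,0,0,0,0,0,0,0,0,0],
      [0,0,0,1,0,0,0,0,0,0,0,0,0,0],
      [0,0,0,0,1,0,0,0,0,0,0,0,0,0],
      [0,0,0,0,0,1,0,0,0,0,0,0,0,0],
      [0,0,0,0,0,0,1,0,0,0,0,0,0,0],
      [0,0,1,0,0,0,0,1,0,0,0,0,0,0],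
      [0,0,0,0,0,0,0,0,1,0,0,0,0,0],
      [0,0,0,0,1,0,0,0,0,1,0,0,0,0],
      [0,0,0,0,0,0,0,0,0,0,1,0,0,0],
      [0,0,0,0,0,0,2,0,0,0,0,1,0,0],
      [0,1,0,2,0,0,0,0,0,0,0,0,1,0],
      [0,0,0,0,0,0,0,0,2,0,0,0,0,1]],
     [[1,0,0,2,0,0,0,0,0,0,0,0,0,0],
      [0,1,0,2,0,0,0,0,0,0,0,0,0,0],
      [0,0,1,0,0,0,0,0,0,0,0,0,0,0],
      [0,0,0,1,0,0,0,0,0,0,0,0,0,0],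
      [0,0,0,0,1,0,0,0,0,0,0,0,0,0],
      [0,0,0,0,0,1,0,0,0,0,0,0,0,0],
      [0,0,0,0,0,0,1,0,0,0,0,0,0,0],
      [0,0,2,0,0,0,0,1,0,0,0,0,0,0],
      [0,0,0,0,0,0,0,0,1,0,0,0,0,0],
      [0,0,0,0,2,0,0,0,0,1,0,0,0,0],
      [0,0,0,0,0,0,0,0,0,0,1,0,0,0],
      [0,0,0,0,0,0,1,0,0,0,0,1,0,0],
      [0,2,0,2,0,0,0,0,0,0,0,0,1,0],
      [0,0,0,0,0,0,0,0,1,0,0,0,0,1]]],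
    [[[1,0,1,0,0,0,0,0,0,0,0,0,0,0],
      [0,1,2,0,0,0,0,0,0,0,0,0,0,0],
      [0,0,1,0,0,0,0,0,0,0,0,0,0,0],
      [0,0,0,1,0,0,0,0,0,0,0,0,0,0],
      [0,0,0,0,1,0,0,0,0,0,0,0,0,0],
      [0,0,0,0,0,1,0,0,0,0,0,0,0,0],
      [0,0,0,0,0,0,1,0,0,0,0,0,0,0],
      [0,0,0,0,0,0,0,1,0,0,0,0,0,0],
      [0,0,0,1,0,0,0,0,1,0,0,0,0,0],
      [0,0,0,0,0,0,0,0,0,1,0,0,0,0],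
      [0,0,0,0,1,0,0,0,0,0,1,0,0,0],
      [0,0,0,0,0,2,0,0,0,0,0,1,0,0],
      [0,0,0,0,0,0,0,2,0,0,0,0,1,0],
      [0,2,2,0,0,0,0,0,0,0,0,0,0,1]],
     [[1,0,2,0,0,0,0,0,0,0,0,0,0,0],
      [0,1,1,0,0,0,0,0,0,0,0,0,0,0],
      [0,0,1,0,0,0,0,0,0,0,0,0,0,0],
      [0,0,0,1,0,0,0,0,0,0,0,0,0,0],
      [0,0,0,0,1,0,0,0,0,0,0,0,0,0],
      [0,0,0,0,0,1,0,0,0,0,0,0,0,0],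
      [0,0,0,0,0,0,1,0,0,0,0,0,0,0],
      [0,0,0,0,0,0,0,1,0,0,0,0,0,0],
      [0,0,0,2,0,0,0,0,1,0,0,0,0,0],
      [0,0,0,0,0,0,0,0,0,1,0,0,0,0],
      [0,0,0,0,2,0,0,0,0,0,1,0,0,0],
      [0,0,0,0,0,1,0,0,0,0,0,1,0,0],
      [0,0,0,0,0,0,0,1,0,0,0,0,1,0],
      [0,1,2,0,0,0,0,0,0,0,0,0,0,1]]]]

/-- The two generators. -/
def genTab : List (List (List ℕ)) := [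
    [[1,0,1,1,0,0,1,0,0,0,0,0,0,0],
      [0,1,0,0,0,0,0,1,0,0,0,0,0,0],
      [0,0,1,0,0,0,0,0,0,0,0,0,0,0],
      [0,0,2,1,0,0,0,0,0,0,0,0,0,0],
      [0,0,0,2,1,0,0,0,0,0,0,0,0,0],
      [0,0,0,2,2,1,0,0,0,0,0,0,0,0],
      [0,0,0,1,1,2,1,0,0,0,0,0,0,0],
      [0,0,1,2,0,0,0,1,0,0,0,0,0,0],
      [0,1,1,0,0,0,0,2,1,0,0,0,0,0],
      [1,1,0,2,1,0,2,0,0,1,0,0,0,0],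
      [1,1,0,1,2,0,2,0,2,1,1,0,0,0],
      [0,0,0,1,1,2,2,0,1,0,1,1,0,0],
      [0,1,2,0,0,0,0,2,1,0,0,0,1,0],
      [0,0,1,2,0,0,0,2,0,0,0,0,1,1]],
    [[1,0,0,0,0,0,0,0,0,1,0,0,1,1],
      [0,1,0,0,0,0,0,0,1,0,0,0,0,0],
      [0,0,1,1,0,0,0,0,2,0,0,0,2,1],
      [0,1,0,1,0,0,0,1,2,0,0,0,0,2],
      [0,0,0,0,1,1,0,1,0,2,2,1,1,0],
      [1,1,0,0,0,1,1,2,0,2,0,2,1,0],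
      [1,1,0,0,0,0,1,0,0,2,0,1,2,0],
      [0,1,0,0,0,0,0,1,2,0,0,0,0,1],
      [0,0,0,0,0,0,0,0,1,0,0,0,2,1],
      [0,0,0,0,0,0,0,0,0,1,2,1,1,0],
      [0,0,0,0,0,0,0,0,0,0,1,2,2,0],
      [0,0,0,0,0,0,0,0,0,0,0,1,2,0],
      [0,0,0,0,0,0,0,0,0,0,0,0,1,2],
      [0,0,0,0,0,0,0,0,0,0,0,0,0,1]]]

/-- Words for the positive defining elements. -/
def posWords : List (List (Fin 2)) := [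
    [],
    [0, 0, 0, 0, 0, 0],
    [0, 0, 0],
    [1, 0, 0, 1, 1, 0, 0, 0],
    [1, 0, 0, 1, 1],
    [0, 0, 1, 0, 0, 1, 1, 0],
    [1, 1, 0, 1, 0, 0, 0, 1, 0, 0],
    [0, 0, 1, 1, 0, 1, 0, 0, 0, 1],
    [0, 1, 1, 0, 1, 0, 0, 0, 1, 0],
    [0],
    [0, 0, 0, 0, 0, 0, 0],
    [0, 0, 0, 0],
    [1, 0, 0, 1, 1, 0],
    [0, 1, 0, 0, 1, 1],
    [1, 0, 0, 1, 1, 0, 0, 0, 0],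
    [0, 1, 1, 0, 1, 0, 0, 0, 1, 0, 0],
    [1, 1, 0, 1, 0, 0, 0, 1, 0, 0, 0],
    [1, 1, 0, 1, 0, 0, 0, 1],
    [0, 1, 0, 0, 1, 1, 0],
    [0, 0, 1, 0, 0, 1, 1],
    [1, 0, 0, 1, 1, 0, 0],
    [1, 1, 0, 1, 0, 0, 0, 1, 0],
    [0, 1, 1, 0, 1, 0, 0, 0, 1, 0, 0, 0],
    [0, 1, 1, 0, 1, 0, 0, 0, 1],
    [0, 0],
    [1, 0, 1, 0, 1],
    [0, 0, 0, 0, 0]]

/-- Words for the negative defining elements. -/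
def negWords : List (List (Fin 2)) := [
    [],
    [1, 1, 1, 1, 1, 1],
    [1, 1, 1],
    [1, 1, 1, 0, 1, 1, 0, 0],
    [0, 1, 1, 0, 0],
    [1, 1, 0, 1, 1, 0, 0, 1],
    [0, 1, 0, 1, 1, 1, 0, 1, 0, 0],
    [0, 1, 1, 0, 1, 1, 0, 0, 1, 0],
    [0, 1, 1, 0, 0, 0, 1, 1, 0, 0],
    [1],
    [1, 1, 1, 1, 1, 1, 1],
    [1, 1, 1, 1],
    [0, 1, 1, 0, 0, 1],
    [1, 0, 1, 1, 0, 0],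
    [1, 1, 1, 0, 1, 1, 0, 0, 1],
    [1, 0, 1, 0, 1, 1, 1, 0, 1, 0, 0],
    [0, 0, 1, 1, 0, 1, 1, 0, 0, 0, 0],
    [0, 0, 1, 0, 1, 1, 1, 0],
    [1, 0, 1, 1, 0, 0, 1],
    [1, 1, 0, 1, 1, 0, 0],
    [0, 1, 1, 0, 0, 1, 1],
    [0, 0, 1, 0, 1, 1, 1, 0, 1],
    [1, 0, 0, 1, 1, 0, 1, 1, 0, 0, 0, 0],
    [1, 0, 0, 1, 0, 1, 1, 1, 0],
    [1, 1],
    [0, 1, 0, 1, 0],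
    [1, 1, 1, 1, 1]]

/-- A coloured orbit. -/
def orbit : List (List ℕ × ℕ) := [
    ([2,0,0,0,1,0,1,2,1,0,0,0,1,1], 0),
    ([0,2,0,0,1,2,2,2,2,2,2,1,0,0], 1),
    ([1,1,2,0,1,2,2,2,1,1,2,2,0,1], 1),
    ([2,1,0,0,1,1,1,2,2,0,1,2,2,1], 2),
    ([2,1,1,2,2,1,0,2,2,1,1,1,0,0], 2),
    ([2,0,2,1,1,1,1,1,2,2,1,2,1,1], 2),
    ([0,2,2,1,1,1,2,0,2,1,0,2,2,1], 2),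
    ([0,0,0,0,1,0,1,2,1,0,0,1,0,1], 0),
    ([2,0,1,1,0,0,0,1,2,1,0,1,0,0], 0),
    ([0,0,1,0,1,0,0,1,2,1,0,1,0,0], 0),
    ([0,1,2,2,0,2,2,2,0,0,2,2,0,2], 0),
    ([0,2,1,2,0,0,2,0,2,1,1,1,0,1], 0),
    ([2,2,2,2,0,2,0,1,0,1,2,0,1,1], 0),
    ([1,1,0,0,2,1,0,1,1,2,2,0,1,1], 0),
    ([1,2,0,0,1,2,2,2,2,0,0,2,2,2], 1),
    ([1,1,0,0,1,1,2,2,2,1,2,1,2,1], 1),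
    ([1,1,1,0,2,2,1,1,2,2,2,1,0,2], 1),
    ([1,1,1,2,1,2,1,2,2,2,1,1,0,0], 1),
    ([1,2,2,2,2,0,0,2,2,2,2,1,0,0], 1),
    ([0,0,2,0,1,0,2,2,1,0,0,2,0,0], 1),
    ([2,1,0,0,1,1,2,2,2,0,0,2,1,2], 1),
    ([2,2,1,1,1,1,1,2,2,2,2,1,0,0], 1),
    ([2,1,2,1,2,2,1,1,0,1,0,1,2,1], 1),
    ([0,0,2,0,1,0,0,1,0,0,0,2,0,1], 1),
    ([2,2,1,1,1,2,2,1,0,0,1,2,0,1], 1),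
    ([1,2,0,0,2,2,1,1,1,0,0,1,2,1], 1),
    ([2,2,2,0,1,1,2,2,1,1,1,2,0,1], 1),
    ([0,1,0,0,1,1,1,2,2,2,1,1,1,2], 2),
    ([2,1,1,0,0,2,2,1,2,1,2,0,0,2], 2),
    ([0,0,0,0,1,0,2,2,1,2,0,0,0,1], 2),
    ([2,0,0,0,1,0,2,2,1,2,2,2,1,1], 2),
    ([0,2,1,2,2,0,1,2,0,2,1,1,1,2], 2),
    ([2,0,1,1,2,1,2,2,1,1,1,1,1,2], 2),
    ([2,0,1,1,2,2,2,1,2,2,0,1,0,0], 2),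
    ([0,0,1,0,0,0,2,1,2,2,0,1,0,0], 2),
    ([2,1,2,0,0,2,1,2,1,2,2,0,0,1], 2),
    ([0,1,2,1,1,1,2,2,2,1,1,1,0,0], 2),
    ([1,2,2,1,1,2,0,1,1,2,2,2,0,0], 2),
    ([0,1,1,1,2,1,1,1,1,2,1,2,0,0], 2),
    ([1,0,0,0,1,0,2,2,1,2,1,2,2,1], 2),
    ([2,0,2,2,1,0,0,0,0,0,0,1,2,2], 2),
    ([2,1,1,0,0,2,2,2,0,2,2,2,1,1], 2),
    ([1,1,0,0,1,1,1,2,2,1,1,1,0,0], 2),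
    ([0,2,2,2,1,2,2,2,2,1,2,1,0,0], 2),
    ([0,1,2,2,1,2,2,0,2,1,0,2,1,1], 2),
    ([2,1,2,1,1,2,1,0,1,1,2,0,0,2], 2),
    ([0,2,0,0,2,2,2,1,1,1,2,2,2,1], 2),
    ([2,0,0,0,2,0,1,1,2,1,2,1,1,2], 2),
    ([1,0,1,1,2,0,0,0,0,0,0,2,1,1], 2),
    ([0,1,2,1,1,0,2,1,0,1,2,2,2,1], 2),
    ([1,0,2,2,1,2,1,1,2,2,2,2,2,1], 2),
    ([1,0,0,0,1,0,1,2,1,0,0,0,2,1], 0),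
    ([2,0,2,2,0,2,0,0,0,0,2,0,2,2], 0),
    ([2,2,1,2,0,2,0,2,0,2,2,0,1,2], 0),
    ([2,0,1,1,0,2,1,2,1,2,2,0,1,2], 0),
    ([2,2,0,0,1,2,0,2,2,1,1,0,2,2], 0),
    ([0,1,0,0,1,1,0,2,2,2,0,0,2,1], 0),
    ([1,2,0,0,1,2,0,2,2,0,2,1,0,0], 0),
    ([0,1,2,0,2,2,0,2,1,0,2,1,0,1], 0),
    ([1,1,1,1,0,2,2,1,1,0,1,2,0,0], 0),
    ([2,2,1,1,0,2,1,0,1,0,2,0,2,2], 0),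
    ([0,2,1,0,1,1,1,2,0,2,0,0,2,1], 0),
    ([0,1,2,0,2,2,0,0,2,2,2,0,2,2], 0),
    ([0,1,1,0,1,2,0,1,2,0,2,2,0,2], 0),
    ([0,1,1,2,0,0,2,2,2,0,1,1,0,0], 0),
    ([2,2,2,2,0,1,1,2,2,0,2,1,0,0], 0),
    ([2,0,2,1,0,2,2,1,2,1,2,0,1,1], 0),
    ([2,2,2,1,0,2,2,0,2,0,2,0,2,1], 0),
    ([1,0,1,2,0,0,0,1,2,1,0,1,0,0], 0),
    ([1,0,2,2,0,0,0,2,1,2,0,2,0,0], 0),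
    ([0,0,2,0,2,0,0,2,1,2,0,2,0,0], 0),
    ([0,2,1,0,1,1,0,1,2,0,1,2,0,2], 0),
    ([2,2,1,2,0,1,2,1,1,0,2,2,0,0], 0),
    ([0,2,0,0,1,2,0,2,2,2,0,0,1,1], 0),
    ([0,1,1,0,1,2,1,2,0,2,0,0,1,1], 0),
    ([0,0,2,0,2,0,0,0,2,1,0,1,0,1], 0),
    ([0,0,1,0,1,0,1,2,0,0,0,2,0,2], 0),
    ([2,0,1,2,0,2,0,0,0,0,2,0,2,1], 0),
    ([0,1,1,2,0,2,1,1,0,0,2,1,0,1], 0),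
    ([1,1,2,1,0,2,1,2,2,0,1,1,0,0], 0),
    ([0,1,2,2,0,0,1,1,1,0,1,2,0,0], 0),
    ([2,0,0,0,2,0,2,1,2,0,0,0,1,2], 0),
    ([1,0,1,1,0,1,0,0,0,0,1,0,1,1], 0),
    ([0,1,0,0,2,1,0,1,1,1,0,0,2,2], 0),
    ([0,2,2,0,2,1,2,1,0,1,0,0,2,2], 0),
    ([0,0,1,0,1,0,0,0,1,2,0,2,0,2], 0),
    ([0,0,2,0,2,0,2,1,0,0,0,1,0,1], 0),
    ([1,1,2,2,0,1,2,0,2,0,1,0,1,1], 0),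
    ([0,1,2,0,2,2,2,1,0,1,0,0,1,2], 0),
    ([0,2,1,0,1,1,0,0,1,1,1,0,1,1], 0),
    ([2,2,0,0,1,2,2,2,2,1,1,1,1,1], 1),
    ([1,1,1,0,2,2,0,2,0,2,1,1,1,1], 1),
    ([0,0,2,0,1,0,0,0,2,0,0,2,0,1], 1),
    ([0,0,1,0,2,0,0,2,0,0,0,1,0,2], 1),
    ([2,1,1,1,1,0,0,1,1,1,1,2,0,0], 1),
    ([1,2,1,1,1,0,1,0,1,1,1,2,2,2], 1),
    ([2,2,1,0,2,1,0,2,0,2,2,1,2,1], 1),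
    ([1,1,2,0,1,2,0,0,2,1,1,2,2,2], 1),
    ([0,0,0,0,1,0,0,2,1,1,0,2,0,1], 1),
    ([2,0,0,0,1,0,0,2,1,1,1,1,1,1], 1),
    ([2,0,2,1,2,0,0,1,2,0,0,1,1,1], 1),
    ([1,2,2,1,2,0,2,0,2,2,1,1,2,1], 1),
    ([2,2,1,0,2,1,1,1,2,2,1,1,0,2], 1),
    ([1,2,1,2,1,0,0,1,1,1,2,2,0,0], 1),
    ([2,2,1,0,2,1,0,0,1,2,2,1,1,1], 1),
    ([0,0,1,0,2,0,0,0,1,0,0,1,0,2], 1),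
    ([2,1,1,2,1,0,1,0,1,1,2,2,1,2], 1),
    ([2,1,2,1,2,0,0,2,2,2,1,1,0,0], 1),
    ([0,0,0,0,2,0,0,1,2,2,0,1,0,2], 1),
    ([1,2,1,2,1,1,2,2,0,2,0,2,1,2], 1),
    ([2,0,1,1,1,0,0,2,1,0,0,2,1,2], 1),
    ([2,0,1,1,1,1,1,1,2,0,0,1,0,0], 1),
    ([0,0,1,0,2,0,1,1,2,0,0,1,0,0], 1),
    ([1,1,2,2,2,1,1,2,0,0,2,1,0,2], 1),
    ([2,2,1,2,1,2,2,0,2,0,1,2,0,1], 1),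
    ([1,2,2,2,2,1,1,1,0,1,0,1,1,1], 1),
    ([2,1,0,0,2,1,1,1,1,0,0,1,1,1], 1),
    ([1,1,1,1,1,1,2,0,2,0,2,2,0,1], 1),
    ([0,1,0,0,2,1,1,1,1,1,1,2,0,0], 1),
    ([2,2,2,1,2,1,2,1,1,1,2,2,0,0], 1),
    ([1,0,1,2,1,0,0,2,1,0,0,2,2,2], 1),
    ([1,0,1,1,1,2,0,0,0,0,2,1,1,1], 1),
    ([2,0,2,1,2,1,2,2,1,0,0,2,0,0], 1),
    ([0,1,0,0,1,1,2,2,2,2,1,1,0,0], 1),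
    ([2,0,1,2,1,1,0,0,0,0,1,1,2,1], 1),
    ([1,1,1,2,1,1,2,1,0,0,2,2,0,1], 1),
    ([2,0,0,0,2,0,0,1,2,2,1,2,1,2], 1),
    ([1,1,1,0,2,2,0,0,1,2,1,1,2,1], 1),
    ([2,0,2,2,2,1,0,0,0,0,1,2,2,2], 1),
    ([1,0,1,2,1,2,1,1,2,0,0,1,0,0], 1),
    ([2,2,2,0,1,1,0,1,0,1,2,2,2,2], 1),
    ([0,2,0,0,2,2,1,1,1,1,2,2,0,0], 1),
    ([1,1,0,0,2,1,1,1,1,2,2,2,2,2], 1),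
    ([2,2,2,2,2,2,1,0,1,0,1,1,0,2], 1),
    ([1,0,2,1,2,2,0,0,0,0,2,2,1,2], 1),
    ([2,2,2,1,2,2,1,2,0,0,1,1,0,2], 1),
    ([1,1,2,0,1,2,0,1,0,1,1,2,1,2], 1),
    ([1,1,2,1,2,1,1,0,1,0,2,1,0,2], 1),
    ([1,0,0,0,1,0,0,2,1,1,2,1,2,1], 1),
    ([2,1,1,1,2,2,2,0,2,2,2,0,0,1], 2),
    ([2,0,1,2,2,0,0,0,0,0,0,2,2,1], 2),
    ([2,1,1,2,2,0,0,1,0,0,2,0,0,1], 2),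
    ([2,0,2,1,1,2,1,2,1,1,0,2,0,0], 2),
    ([1,2,1,0,0,1,2,2,0,2,1,2,2,1], 2),
    ([1,2,1,2,2,1,2,0,2,2,1,0,0,1], 2),
    ([1,2,1,0,0,1,2,1,2,1,1,0,0,2], 2),
    ([0,2,1,2,2,2,1,1,1,2,2,2,0,0], 2),
    ([1,2,1,0,0,1,0,0,1,0,0,2,1,1], 2),
    ([0,0,1,0,0,0,0,0,1,1,0,0,0,2], 2),
    ([0,1,1,2,2,2,1,0,1,2,0,1,1,2], 2),
    ([1,2,0,0,1,2,1,2,2,0,2,2,1,1], 2),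
    ([0,0,0,0,2,0,1,1,2,1,0,0,0,2], 2),
    ([0,2,0,0,1,2,1,2,2,2,2,1,2,2], 2),
    ([2,2,0,0,1,2,1,2,2,1,2,1,0,0], 2),
    ([2,1,2,2,1,0,0,2,0,0,2,0,0,2], 2),
    ([0,2,2,2,1,0,2,1,0,1,1,2,1,1], 2),
    ([0,1,0,0,2,1,2,1,1,1,1,2,1,1], 2),
    ([1,0,1,2,2,2,2,2,1,1,2,1,2,2], 2),
    ([1,0,1,2,2,1,2,1,2,2,0,1,0,0], 2),
    ([2,1,2,0,0,2,1,1,0,1,2,1,1,2], 2),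
    ([0,1,1,1,2,0,1,2,0,2,2,1,2,2], 2),
    ([1,2,0,0,2,2,2,1,1,0,2,1,1,2], 2),
    ([0,2,1,1,2,1,1,0,1,2,0,1,2,2], 2),
    ([2,1,2,0,0,2,0,0,2,0,0,1,2,2], 2),
    ([0,0,2,0,0,0,1,2,1,1,0,2,0,0], 2),
    ([1,2,1,1,2,2,0,2,2,1,2,1,0,0], 2),
    ([0,0,2,0,0,0,1,1,0,0,0,0,0,1], 2),
    ([1,2,1,1,2,0,0,1,0,0,1,0,0,1], 2),
    ([1,2,2,0,0,1,1,2,1,2,1,0,0,1], 2),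
    ([2,1,1,0,0,2,0,0,1,0,0,2,2,1], 2),
    ([1,0,2,2,1,1,1,2,1,1,0,2,0,0], 2),
    ([1,2,2,2,1,1,1,0,1,1,1,0,0,2], 2),
    ([2,1,2,2,1,1,0,1,1,2,1,2,0,0], 2),
    ([2,1,0,0,2,1,2,1,1,0,1,1,2,2], 2),
    ([1,2,2,0,0,1,1,1,0,1,1,1,2,2], 2),
    ([0,0,2,0,0,0,0,0,2,2,0,0,0,1], 2),
    ([0,0,1,0,0,0,2,2,0,0,0,0,0,2], 2),
    ([1,0,2,1,1,0,0,0,0,0,0,1,1,2], 2),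
    ([1,2,2,1,1,0,0,2,0,0,1,0,0,2], 2),
    ([1,0,0,0,2,0,1,1,2,1,1,1,2,2], 2),
    ([2,2,0,0,2,2,2,1,1,2,2,2,0,0], 2),
    ([1,2,2,0,0,1,0,0,2,0,0,1,1,2], 2),
    ([0,1,1,0,1,2,0,0,1,1,2,0,2,1], 0),
    ([0,2,2,2,0,0,1,0,1,2,1,2,0,2], 0),
    ([1,1,1,2,0,1,1,0,1,0,1,0,1,2], 0),
    ([0,2,1,1,0,0,2,2,2,0,2,1,0,0], 0),
    ([1,1,2,1,0,1,0,1,0,1,1,0,2,1], 0),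
    ([1,0,1,2,0,1,1,2,1,2,1,0,2,2], 0),
    ([2,0,2,1,0,0,0,2,1,2,0,2,0,0], 0),
    ([1,1,1,1,0,1,0,2,0,2,1,0,2,2], 0),
    ([2,1,0,0,1,1,0,2,2,0,1,1,0,0], 0),
    ([0,1,1,1,0,0,2,0,2,1,2,1,0,1], 0),
    ([0,2,0,0,2,2,0,1,1,1,0,0,1,2], 0),
    ([1,1,0,0,1,1,0,2,2,1,2,0,1,2], 0),
    ([0,2,1,1,0,1,1,1,0,0,1,1,0,1], 0),
    ([2,2,0,0,2,2,0,1,1,2,1,0,2,1], 0),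
    ([0,2,2,0,2,1,0,2,1,0,1,1,0,1], 0),
    ([0,1,2,1,0,0,1,0,1,2,2,2,0,2], 0),
    ([0,0,0,0,2,0,2,1,2,0,0,2,0,2], 0),
    ([1,0,0,0,2,0,2,1,2,0,0,0,2,2], 0),
    ([0,2,2,1,0,0,1,1,1,0,2,2,0,0], 0),
    ([1,0,2,2,0,1,2,1,2,1,1,0,2,1], 0),
    ([2,1,0,0,2,1,0,1,1,0,1,2,0,0], 0),
    ([0,2,2,0,2,1,0,0,2,2,1,0,1,2], 0),
    ([1,0,2,1,0,1,0,0,0,0,1,0,1,2], 0),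
    ([1,2,0,0,2,2,0,1,1,0,2,2,0,0], 0),
    ([0,2,2,1,0,1,2,2,0,0,1,2,0,2], 0),
    ([2,2,2,0,1,1,0,0,2,1,2,2,1,2], 1),
    ([2,1,1,1,1,2,2,2,0,2,0,2,2,2], 1),
    ([2,1,2,2,2,0,2,0,2,2,2,1,1,1], 1),
    ([1,1,2,2,2,2,2,1,1,1,1,2,0,0], 1),
    ([1,0,0,0,2,0,0,1,2,2,2,2,2,2], 1),
    ([1,0,2,2,2,0,0,1,2,0,0,1,2,1], 1),
    ([2,2,0,0,2,2,1,1,1,2,1,2,1,2], 1),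
    ([1,0,2,2,2,2,2,2,1,0,0,2,0,0], 1),
    ([1,1,0,0,2,1,2,1,1,2,1,2,0,0], 2)]

end Cfsg.Agent.Twisted.ReeThree
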