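/-
Twisted groups, part 30: two generators of ²G₂(3), its homomorphism onto Z/3, and the index of the
derived subgroup.
-/
import Cfsg.Agent.Lib.Twisted.ReeThreeData
import Cfsg.Agent.Lib.Twisted.GoodG2
import Cfsg.Agent.Lib.Chev.Matrix
import Cfsg.Agent.Lib.ChevBN.Torus
import Cfsg.Prelude.Def_LieTwisted

set_option autoImplicit false
set_option maxRecDepth 100000
set_option linter.unusedSectionVars false

namespace Cfsg.Agent.Twisted.ReeThree

open Cfsg.Lie Cfsg.Lie.ChevalleyDatum Matrix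
open Cfsg.Agent.Chev Cfsg.Agent.ChevBN

/-- The numbering of the coordinates. -/
def eR : chevG2.Idx ≃ Fin 14 := (finSumFinEquiv : Fin 2 ⊕ Fin 12 ≃ Fin 14)

/-- The ambient group. -/
abbrev GR := GL chevG2.Idx (ZMod 3)

/-- The twisted group over the field with three elements. -/
abbrev R3 : Subgroup GR := twistedG2 (ZMod 3) 1

/-- The product of a row with a vector, reduced. -/
def dotL : List ℕ → List ℕ → ℕ
  | a :: r, b :: v => a * b + dotL r v
  | _, _ => 0

/-- The image of a vector. -/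
def appL (A : List (List ℕ)) (v : List ℕ) : List ℕ := A.map fun r => dotL r v % 3

/-- The matrix of a list of rows. -/
def toM (A : List (List ℕ)) : Matrix chevG2.Idx chevG2.Idx (ZMod 3) :=
  fun i j => (((A.getD (eR i) []).getD (eR j) 0 : ℕ) : ZMod 3)

/-- The vector of a list. -/
def toV (v : List ℕ) : chevG2.Idx → ZMod 3 := fun i => ((v.getD (eR i) 0 : ℕ) : ZMod 3)

theorem dotL_cast : ∀ (r v : List ℕ) (n : ℕ), r.length = n → v.length = n →
    ((dotL r v : ℕ) : ZMod 3) = ∑ j : Fin n, ((r.getD j 0 : ℕ) : ZMod 3) * ((v.getD j 0 : ℕ) : ZMod 3)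
  | [], v, n, h, _ => by subst h; simp [dotL]
  | a :: r, [], n, h, h' => by subst h'; simp at h
  | a :: r, b :: v, 0, h, _ => by simp at h
  | a :: r, b :: v, n + 1, h, h' => by
    rw [dotL, Nat.cast_add, Nat.cast_mul, dotL_cast r v n (by simpa using h) (by simpa using h'),
      Fin.sum_univ_succ]
    simp

/-- A list of 14 rows of length 14. -/
def IsSq (A : List (List ℕ)) : Prop := A.length = 14 ∧ ∀ r ∈ A, r.length = 14

theorem appL_length {A : List (List ℕ)} (hA : IsSq A) (v : List ℕ) : (appL A v).length = 14 := by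
  simp [appL, hA.1]

theorem toV_appL {A : List (List ℕ)} (hA : IsSq A) {v : List ℕ} (hv : v.length = 14) :
    toM A *ᵥ toV v = toV (appL A v) := by
  ext i
  have hi : (eR i).val < A.length := by rw [hA.1]; exact (eR i).isLt
  have h1 : (appL A v).getD (eR i) 0 = dotL (A.getD (eR i) []) v % 3 := by
    rw [List.getD_eq_getElem _ _ (by rw [appL_length hA]; exact (eR i).isLt), List.getD_eq_getElem _ _ hi]
    simp [appL]
  rw [toV, h1, show ((dotL (A.getD (eR i) []) v % 3 : ℕ) : ZMod 3) = ((dotL (A.getD (eR i) []) v : ℕ) : ZMod 3)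
    from ZMod.natCast_mod _ 3, dotL_cast _ v 14 (by rw [List.getD_eq_getElem _ _ hi]; exact hA.2 _ (List.getElem_mem hi)) hv]
  simp only [Matrix.mulVec, dotProduct, toM, toV]
  rw [← eR.sum_comp]

/-! ### Root elements and generators -/

/-- The rows of x_r(c). -/
def rootM (p : ℕ × ℕ) : List (List ℕ) :=
  if p.2 % 3 = 0 then (List.range 14).map fun i => (List.range 14).map fun j => if i = j then 1 else 0
  else (rootTab.getD p.1 []).getD (p.2 % 3 - 1) []

/-- An entry of x_r(c) by numbers. -/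
def xEntry (r : ℕ) (c : Fin 3) (i j : Fin 14) : ZMod 3 := xR chevG2 (ZMod 3) r (c.val : ZMod 3) (eR.symm i) (eR.symm j)

theorem rootM_eq' : ∀ r : Fin 12, ∀ c : Fin 3, ∀ i j : Fin 14,
    xEntry r.val c i j = ((((rootM (r.val, c.val)).getD i.val []).getD j.val 0 : ℕ) : ZMod 3) := by
  decide +kernel

theorem rootM_sq' : ∀ r : Fin 12, ∀ c : Fin 3,
    (rootM (r.val, c.val)).length = 14 ∧ ∀ l ∈ rootM (r.val, c.val), l.length = 14 := by
  decide +kernel

theorem coe_xg_root {r : ℕ} (hr : r < 12) (c : ZMod 3) :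
    chevG2.x (ZMod 3) r c = toM (rootM (r, c.val)) ∧ IsSq (rootM (r, c.val)) := by
  refine ⟨?_, rootM_sq' ⟨r, hr⟩ ⟨c.val, ZMod.val_lt c⟩⟩
  rw [x_eq_xR chevG2 (show r < chevG2.nroots from hr)]
  ext i j
  have h := rootM_eq' ⟨r, hr⟩ ⟨c.val, ZMod.val_lt c⟩ (eR i) (eR j)
  rw [xEntry, Equiv.symm_apply_apply, Equiv.symm_apply_apply, ZMod.natCast_zmod_val] at h
  exact h

/-- The image of a vector under a word in root elements. -/
def wordApp (w : List (ℕ × ZMod 3)) (v : List ℕ) : List ℕ := w.foldr (fun p u => appL (rootM (p.1, p.2.val)) u) v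

theorem wordMat_app : ∀ (w : List (ℕ × ZMod 3)), (∀ p ∈ w, p.1 < 12) → ∀ v : List ℕ, v.length = 14 →
    chevG2.wordMat (ZMod 3) w *ᵥ toV v = toV (wordApp w v) ∧ (wordApp w v).length = 14
  | [], _, v, hv => by simp [ChevalleyDatum.wordMat, wordApp, hv]
  | p :: w, h, v, hv => by
    obtain ⟨h1, h2⟩ := wordMat_app w (fun q hq => h q (List.mem_cons_of_mem p hq)) v hv
    obtain ⟨e, hsq⟩ := coe_xg_root (h p List.mem_cons_self) p.2
    refine ⟨?_, appL_length hsq _⟩
    show (chevG2.x (ZMod 3) p.1 p.2 * chevG2.wordMat (ZMod 3) w) *ᵥ toV v = toV (appL _ (wordApp w v))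
    rw [← Matrix.mulVec_mulVec, h1, e, toV_appL hsq h2]

/-- The defining word of a generator. -/
def genWord (k : Fin 2) : List (ℕ × ZMod 3) := if k = 0 then reeWordU 1 1 0 0 else reeWordV 1 1 0 0

/-- The rows of a generator. -/
def genM (k : Fin 2) : List (List ℕ) := genTab.getD k.val []

/-- The j-th basis vector as a list. -/
def eL (j : ℕ) : List ℕ := (List.range 14).map fun i => if i = j then 1 else 0

theorem toV_eL (j : chevG2.Idx) : toV (eL (eR j)) = Pi.single j 1 := by
  ext i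
  simp only [toV, eL]
  rw [List.getD_eq_getElem _ _ (by simp), List.getElem_map, List.getElem_range]
  by_cases h : i = j
  · subst h; simp
  · rw [if_neg fun h' => h (eR.injective (Fin.ext h')), Pi.single_eq_of_ne h]
    simp

theorem eL_length (j : ℕ) : (eL j).length = 14 := by simp [eL]

theorem genM_spec : ∀ k : Fin 2, ((genM k).length = 14 ∧ ∀ l ∈ genM k, l.length = 14) ∧
    (∀ p ∈ genWord k, p.1 < 12) ∧ ∀ j : Fin 14, wordApp (genWord k) (eL j.val) = appL (genM k) (eL j.val) := by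
  decide +kernel

theorem eq_of_app {M N : Matrix chevG2.Idx chevG2.Idx (ZMod 3)}
    (h : ∀ j : Fin 14, M *ᵥ toV (eL j.val) = N *ᵥ toV (eL j.val)) : M = N :=
  Matrix.ext_of_mulVec_single fun j => by
    have := h (eR j)
    rwa [toV_eL] at this

theorem coe_gen (k : Fin 2) : chevG2.wordMat (ZMod 3) (genWord k) = toM (genM k) := by
  obtain ⟨hsq, hlt, happ⟩ := genM_spec k
  exact eq_of_app fun j => by
    rw [(wordMat_app _ hlt _ (eL_length _)).1, happ j, toV_appL hsq (eL_length _)]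

/-- A generator in the ambient group. -/
noncomputable def gen0 (k : Fin 2) : GR := ((genWord k).map fun p => xg good_chevG2 (ZMod 3) p.1 p.2).prod

theorem coe_xgWord : ∀ w : List (ℕ × ZMod 3),
    (((w.map fun p => xg good_chevG2 (ZMod 3) p.1 p.2).prod : GR) : Matrix chevG2.Idx chevG2.Idx (ZMod 3)) =
      chevG2.wordMat (ZMod 3) w
  | [] => by simp [ChevalleyDatum.wordMat]
  | p :: w => by
    rw [List.map_cons, List.prod_cons, Units.val_mul, coe_xgWord w, coe_xg]
    simp [ChevalleyDatum.wordMat]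

theorem gen0_mem (k : Fin 2) : gen0 k ∈ R3 := by
  refine Subgroup.subset_closure ⟨genWord k, ?_, coe_xgWord _⟩
  unfold genWord
  split_ifs
  · exact ⟨1, 0, 0, Or.inl rfl⟩
  · exact ⟨1, 0, 0, Or.inr rfl⟩

/-- The generators. -/
noncomputable def gR (k : Fin 2) : R3 := ⟨gen0 k, gen0_mem k⟩

/-- The action on vectors. -/
def act (g : R3) (x : chevG2.Idx → ZMod 3) : chevG2.Idx → ZMod 3 :=
  ((g : GR) : Matrix chevG2.Idx chevG2.Idx (ZMod 3)) *ᵥ x

theorem act_mul (g h : R3) (x : chevG2.Idx → ZMod 3) : act (g * h) x = act g (act h x) := by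
  simp [act, Matrix.mulVec_mulVec]

theorem act_one (x : chevG2.Idx → ZMod 3) : act 1 x = x := by simp [act]

theorem act_gR (k : Fin 2) {v : List ℕ} (hv : v.length = 14) : act (gR k) (toV v) = toV (appL (genM k) v) := by
  show ((gen0 k : GR) : Matrix chevG2.Idx chevG2.Idx (ZMod 3)) *ᵥ toV v = _
  rw [gen0, coe_xgWord, coe_gen, toV_appL (genM_spec k).1 hv]

/-- The value of a word in the generators. -/
noncomputable def wR (l : List (Fin 2)) : R3 := (l.map gR).prod

/-- The image of a vector under a word in the generators. -/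
def wApp (l : List (Fin 2)) (v : List ℕ) : List ℕ := l.foldr (fun k u => appL (genM k) u) v

theorem act_wR : ∀ (l : List (Fin 2)) (v : List ℕ), v.length = 14 →
    act (wR l) (toV v) = toV (wApp l v) ∧ (wApp l v).length = 14
  | [], v, hv => by
    rw [wR, List.map_nil, List.prod_nil, act_one]
    exact ⟨rfl, hv⟩
  | k :: l, v, hv => by
    obtain ⟨h1, h2⟩ := act_wR l v hv
    refine ⟨?_, appL_length (genM_spec k).1 _⟩
    rw [wR, List.map_cons, List.prod_cons, ← wR, act_mul, h1, act_gR k h2]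
    rfl

theorem wR_eq {l l' : List (Fin 2)} (h : ∀ j : Fin 14, wApp l (eL j.val) = wApp l' (eL j.val)) :
    wR l = wR l' :=
  Subtype.ext (Units.ext (eq_of_app fun j => by
    have h1 := (act_wR l _ (eL_length j.val)).1
    have h2 := (act_wR l' _ (eL_length j.val)).1
    rw [act] at h1 h2
    rw [h1, h2, h j]))

/-- The positive and negative defining words with their certificates. -/
theorem words_spec : ∀ t u v : Fin 3,
    ((∀ p ∈ reeWordU 1 (t.val : ZMod 3) u.val v.val, p.1 < 12) ∧ ∀ j : Fin 14,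
      wordApp (reeWordU 1 (t.val : ZMod 3) u.val v.val) (eL j.val) =
        wApp (posWords.getD (t.val * 9 + u.val * 3 + v.val) []) (eL j.val)) ∧
    ((∀ p ∈ reeWordV 1 (t.val : ZMod 3) u.val v.val, p.1 < 12) ∧ ∀ j : Fin 14,
      wordApp (reeWordV 1 (t.val : ZMod 3) u.val v.val) (eL j.val) =
        wApp (negWords.getD (t.val * 9 + u.val * 3 + v.val) []) (eL j.val)) := by
  decide +kernel

theorem gen_top : Subgroup.closure (Set.range gR) = ⊤ := by
  set S := Subgroup.closure (Set.range gR)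
  have hw : ∀ l, wR l ∈ S := by
    intro l
    induction l with
    | nil => rw [wR, List.map_nil, List.prod_nil]; exact one_mem _
    | cons k l ih =>
      rw [wR, List.map_cons, List.prod_cons]
      exact mul_mem (Subgroup.subset_closure (Set.mem_range_self k)) ih
  have hS : R3 ≤ S.map R3.subtype := by
    refine (Subgroup.closure_le _).2 ?_
    rintro g ⟨w, ⟨t, u, v, hw'⟩, e⟩
    have hval : ∀ c : ZMod 3, ((⟨c.val, ZMod.val_lt c⟩ : Fin 3).val : ZMod 3) = c := fun c =>
      ZMod.natCast_zmod_val c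
    have hs := words_spec ⟨t.val, ZMod.val_lt t⟩ ⟨u.val, ZMod.val_lt u⟩ ⟨v.val, ZMod.val_lt v⟩
    rw [hval t, hval u, hval v] at hs
    have main : ∀ (w' : List (ℕ × ZMod 3)) (l : List (Fin 2)), (∀ p ∈ w', p.1 < 12) →
        (∀ j : Fin 14, wordApp w' (eL j.val) = wApp l (eL j.val)) →
        (g : Matrix chevG2.Idx chevG2.Idx (ZMod 3)) = chevG2.wordMat (ZMod 3) w' → g ∈ S.map R3.subtype :=
      fun w' l hlt happ hg => ⟨wR l, hw l, Units.ext (eq_of_app fun j => by
        have h1 := (act_wR l _ (eL_length j.val)).1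
        rw [act] at h1
        rw [hg, (wordMat_app w' hlt _ (eL_length _)).1, happ j]
        exact h1)⟩
    rcases hw' with rfl | rfl
    · exact main _ _ hs.1.1 hs.1.2 e
    · exact main _ _ hs.2.1 hs.2.2 e
  refine eq_top_iff.2 fun x _ => ?_
  obtain ⟨y, hy, hxy⟩ := hS x.2
  rwa [← show y = x from Subtype.ext hxy]

/-! ### The homomorphism -/

/-- The colour of a listed vector. -/
def colL (v : List ℕ) : Option ℕ := (orbit.find? fun p => decide (p.1 = v)).map Prod.snd

theorem orbit_spec : ∀ p ∈ orbit, p.1.length = 14 ∧ (∀ a ∈ p.1, a < 3) ∧ colL p.1 = some p.2 ∧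
    ∀ k : Fin 2, ∃ q ∈ orbit, q.1 = appL (genM k) p.1 ∧ (q.2 : ZMod 3) = (p.2 : ZMod 3) + 1 := by
  decide +kernel

theorem toV_inj {p q : List ℕ × ℕ} (hp : p ∈ orbit) (hq : q ∈ orbit) (h : toV p.1 = toV q.1) :
    (p.2 : ZMod 3) = (q.2 : ZMod 3) := by
  obtain ⟨hl, hb, hc, -⟩ := orbit_spec p hp
  obtain ⟨hl', hb', hc', -⟩ := orbit_spec q hq
  have e : p.1 = q.1 := List.ext_getElem (hl.trans hl'.symm) fun i h1 h2 => by
    have hv := congrFun h (eR.symm ⟨i, hl ▸ h1⟩)
    simp only [toV, Equiv.apply_symm_apply, List.getD_eq_getElem _ _ h1, List.getD_eq_getElem _ _ h2] at hv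
    exact (Nat.ModEq.eq_of_lt_of_lt ((ZMod.natCast_eq_natCast_iff _ _ _).1 hv) (hb _ (List.getElem_mem h1))
      (hb' _ (List.getElem_mem h2)))
  rw [e, hc'] at hc
  rw [Option.some.inj hc]

/-- The shift of colours by a group element. -/
def Shift (g : R3) (e : ZMod 3) : Prop :=
  ∀ p ∈ orbit, ∃ q ∈ orbit, toV q.1 = act g (toV p.1) ∧ (q.2 : ZMod 3) = (p.2 : ZMod 3) + e

theorem shift_mul {g h : R3} {e e' : ZMod 3} (hg : Shift g e) (hh : Shift h e') : Shift (g * h) (e + e') := by
  intro p hp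
  obtain ⟨q, hq, h1, h2⟩ := hh p hp
  obtain ⟨r, hr, h3, h4⟩ := hg q hq
  exact ⟨r, hr, by rw [h3, h1, act_mul], by rw [h4, h2]; ring⟩

theorem shift_pow {g : R3} {e : ZMod 3} (hg : Shift g e) : ∀ n : ℕ, Shift (g ^ n) (n * e)
  | 0 => fun p hp => ⟨p, hp, by rw [pow_zero, act_one], by simp⟩
  | n + 1 => by
    have := shift_mul (shift_pow hg n) hg
    rw [pow_succ]
    rwa [show ((n + 1 : ℕ) : ZMod 3) * e = (n : ZMod 3) * e + e by push_cast; ring]

theorem exists_shift (g : R3) : ∃ e, Shift g e := by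
  have hg : g ∈ Subgroup.closure (Set.range gR) := gen_top ▸ Subgroup.mem_top g
  induction hg using Subgroup.closure_induction with
  | mem y hy =>
    obtain ⟨k, rfl⟩ := hy
    refine ⟨1, fun p hp => ?_⟩
    obtain ⟨hl, -, -, h⟩ := orbit_spec p hp
    obtain ⟨q, hq, h1, h2⟩ := h k
    exact ⟨q, hq, by rw [act_gR k hl, h1], h2⟩
  | one => exact ⟨((0 : ℕ) : ZMod 3) * 0, fun p hp => ⟨p, hp, (act_one _).symm, by simp⟩⟩
  | mul a b _ _ ha hb =>
    obtain ⟨e, he⟩ := ha
    obtain ⟨e', he'⟩ := hb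
    exact ⟨_, shift_mul he he'⟩
  | inv a _ ha =>
    obtain ⟨e, he⟩ := ha
    refine ⟨((orderOf a - 1 : ℕ) : ZMod 3) * e, ?_⟩
    have hpos := orderOf_pos a
    rw [inv_eq_of_mul_eq_one_right (a := a) (b := a ^ (orderOf a - 1))
      (by rw [← pow_succ', show orderOf a - 1 + 1 = orderOf a by omega, pow_orderOf_eq_one])]
    exact shift_pow he _

theorem shift_unique {g : R3} {e e' : ZMod 3} (h : Shift g e) (h' : Shift g e') : e = e' := by
  obtain ⟨p, hp⟩ : ∃ p, p ∈ orbit := ⟨_, List.getElem_mem (show 0 < orbit.length by decide +kernel)⟩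
  obtain ⟨q, hq, h1, h2⟩ := h p hp
  obtain ⟨r, hr, h3, h4⟩ := h' p hp
  have := toV_inj hq hr (h1.trans h3.symm)
  rw [h2, h4] at this
  exact add_left_cancel this

/-- The homomorphism of ²G₂(3) onto the group of order 3. -/
noncomputable def chi : R3 →* Multiplicative (ZMod 3) where
  toFun g := Multiplicative.ofAdd (exists_shift g).choose
  map_one' := by
    rw [shift_unique (exists_shift 1).choose_spec (e' := 0)
      fun p hp => ⟨p, hp, (act_one _).symm, (add_zero _).symm⟩]
    rfl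
  map_mul' g h := by
    rw [← ofAdd_add, shift_unique (exists_shift (g * h)).choose_spec
      (shift_mul (exists_shift g).choose_spec (exists_shift h).choose_spec)]

theorem chi_gR (k : Fin 2) : chi (gR k) = Multiplicative.ofAdd 1 := by
  show Multiplicative.ofAdd (exists_shift (gR k)).choose = _
  rw [shift_unique (exists_shift (gR k)).choose_spec (e' := 1) fun p hp => ?_]
  obtain ⟨hl, -, -, h⟩ := orbit_spec p hp
  obtain ⟨q, hq, h1, h2⟩ := h k
  exact ⟨q, hq, by rw [act_gR k hl, h1], h2⟩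

/-! ### The derived subgroup -/

theorem rels : (∀ j : Fin 14, wApp [1, 1, 0, 1, 0, 1, 1, 0] (eL j.val) = wApp [0, 1, 1, 0, 1] (eL j.val)) ∧
    ∀ j : Fin 14, wApp [1, 0, 1, 1, 0, 1, 0, 0] (eL j.val) = wApp [0, 1, 0, 1, 1] (eL j.val) := by
  decide +kernel

/-- The consequences of `rels` in an abelian image. -/
theorem ab_rel {A : Type*} [CommGroup A] (v : Fin 2 → A)
    (e1 : ([1, 1, 0, 1, 0, 1, 1, 0].map v).prod = ([0, 1, 1, 0, 1].map v).prod)
    (e2 : ([1, 0, 1, 1, 0, 1, 0, 0].map v).prod = ([0, 1, 0, 1, 1].map v).prod) :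
    v 1 = v 0 ∧ v 0 ^ 3 = 1 := by
  simp only [List.map_cons, List.map_nil, List.prod_cons, List.prod_nil, mul_one] at e1 e2
  have f1 : v 0 * (v 1 * v 1) = 1 := by
    have e : v 1 * (v 1 * (v 0 * (v 1 * (v 0 * (v 1 * (v 1 * v 0)))))) =
        v 0 * (v 1 * (v 1 * (v 0 * v 1))) * (v 0 * (v 1 * v 1)) := by ac_rfl
    rw [e] at e1
    exact mul_eq_left.1 e1
  have f2 : v 0 * v 0 * v 1 = 1 := by
    have e : v 1 * (v 0 * (v 1 * (v 1 * (v 0 * (v 1 * (v 0 * v 0)))))) =
        v 0 * (v 1 * (v 0 * (v 1 * v 1))) * (v 0 * v 0 * v 1) := by ac_rfl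
    rw [e] at e2
    exact mul_eq_left.1 e2
  have h01 : v 1 = v 0 := by
    have e : v 0 * (v 1 * v 1) * v 0 = v 0 * v 0 * v 1 * v 1 := by ac_rfl
    rwa [f1, f2, one_mul, one_mul, eq_comm] at e
  refine ⟨h01, ?_⟩
  rw [pow_succ, sq]
  rwa [h01] at f2

theorem index_commutator : (commutator ↥R3).index = 3 := by
  let q : R3 →* Abelianization R3 := Abelianization.of
  have hval : ∀ l : List (Fin 2), q (wR l) = (l.map fun k => q (gR k)).prod := by
    intro l
    induction l with
    | nil => exact map_one q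
    | cons k l ih =>
      rw [List.map_cons, List.prod_cons, ← ih, ← map_mul]
      rfl
  obtain ⟨r1, r2⟩ := rels
  obtain ⟨h10, hc⟩ := ab_rel (fun k => q (gR k))
    (by rw [← hval, ← hval, wR_eq r1]) (by rw [← hval, ← hval, wR_eq r2])
  have hsurj : Function.Surjective q := QuotientGroup.mk'_surjective _
  have htop : Subgroup.zpowers (q (gR 0)) = ⊤ := by
    refine eq_top_iff.2 fun y _ => ?_
    obtain ⟨x, rfl⟩ := hsurj y
    have hx : x ∈ Subgroup.closure (Set.range gR) := gen_top ▸ Subgroup.mem_top x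
    refine (Subgroup.closure_le ((Subgroup.zpowers (q (gR 0))).comap q)).2 ?_ hx
    rintro _ ⟨k, rfl⟩
    show q (gR k) ∈ Subgroup.zpowers (q (gR 0))
    fin_cases k
    · exact Subgroup.mem_zpowers _
    · exact (congrArg (· ∈ Subgroup.zpowers (q (gR 0))) h10).mpr (Subgroup.mem_zpowers _)
  have hne : q (gR 0) ≠ 1 := fun h => by
    have h3 := chi_gR 0
    rw [← Abelianization.lift_apply_of chi (gR 0), h, map_one] at h3
    exact absurd (congrArg Multiplicative.toAdd h3) (by decide)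
  haveI : Fact (Nat.Prime 3) := ⟨Nat.prime_three⟩
  show Nat.card (Abelianization R3) = 3
  rw [← Subgroup.card_top, ← htop, Nat.card_zpowers, orderOf_eq_prime hc hne]

end Cfsg.Agent.Twisted.ReeThree
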