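/-
Twisted groups, part 31: ²G₂(3)' is simple of order 504, so it is PSL₂(8).

A non-trivial normal subgroup M supplements the Borel subgroup U H with U a 3-group and |H| = 2.  The
quotient is then a 3-group since the abelianization has order 3, so cyclic; hence M contains the
derived subgroup C, a minimal normal subgroup, simple because 504 is neither a square nor a cube.
-/
import Cfsg.Agent.Lib.Twisted.G2Core
import Cfsg.Agent.Lib.Twisted.ReeThreeHom
import Cfsg.Agent.Lib.SmallOrders.Order504.Local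
import Cfsg.Agent.S1011

set_option autoImplicit false

namespace Cfsg.Agent.Twisted.ReeThree

open Cfsg.Lie

theorem hK3 : Fintype.card (ZMod 3) = 3 ^ (2 * 0 + 1) := by simp

theorem R3_eq : R3 = twistedG2 (ZMod 3) (3 ^ 0) := by rw [pow_zero]

theorem R3_eq_fix : R3 = (foldK (ZMod 3) 0).fix := R3_eq.trans (twisted_eq hK3)

theorem card_R3 : Nat.card ↥R3 = 1512 := by
  rw [R3_eq, card_ree hK3]
  norm_num

theorem card_derived : Nat.card ↥(commutator ↥R3) = 504 := by
  have h := Subgroup.card_mul_index (commutator ↥R3)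
  rw [index_commutator, card_R3] at h
  omega

theorem normal_supplement (M : Subgroup ↥(foldK (ZMod 3) 0).fix) [M.Normal] (hM : M ≠ ⊥) :
    M ⊔ (rgdG2 (ZMod 3)).B.subgroupOf (foldK (ZMod 3) 0).fix = ⊤ := by
  obtain ⟨h₀, hh₀, hf, -⟩ := exists_m0 hK3
  obtain ⟨x, hx, hx1⟩ := exists_U1_ne_one hK3
  set P := (rankOneK (K := ZMod 3) (m := 0)).bnPair hh₀ hf ⟨x, hx, hx1⟩
  have hirr : P.Irreducible := by
    intro J hJ hne hne'
    obtain ⟨a, ha⟩ := hne
    obtain ⟨b, hb, hbJ⟩ := hne'
    exact absurd (Set.mem_singleton_iff.1 hb ▸ Set.mem_singleton_iff.1 (hJ ha) ▸ ha) hbJ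
  have hc := core_bot (K := ZMod 3) (m := 0) hK3
  rw [borel_twisted hK3, twisted_eq hK3, Subgroup.inf_subgroupOf_right] at hc
  rcases BN.normal_le_or_sup_eq_top P hirr M with h | h
  · exact absurd (le_bot_iff.1 (hc ▸ Subgroup.normal_le_normalCore.2 h)) hM
  · exact h

set_option maxHeartbeats 1000000 in
theorem card_B : Nat.card ↥((rgdG2 (ZMod 3)).B.subgroupOf (foldK (ZMod 3) 0).fix) ∣ 54 := by
  set R := rgdG2 (ZMod 3)
  set F := (foldK (ZMod 3) 0).fix
  -- B ∩ G¹ = U¹ H¹
  have hmem : ∀ g : ↥(R.B.subgroupOf F), ∃ p : (foldK (ZMod 3) 0).U1 × (foldK (ZMod 3) 0).H1,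
      ((g : F) : GL chevG2.Idx (ZMod 3)) = p.1 * p.2 := by
    intro g
    obtain ⟨u, hu, h, hh, e⟩ := R.exists_B (show ((g : F) : GL chevG2.Idx (ZMod 3)) ∈ R.B from g.2)
    have hf : (u * h : GL chevG2.Idx (ZMod 3)) ∈ F := e ▸ (g : F).2
    have h2 := hf.2
    rw [(foldK (ZMod 3) 0).s_mul u (R.B_le_G (R.Upos_le_B hu)) h (R.B_le_G (R.H_le_B hh))] at h2
    obtain ⟨eu, eh⟩ := eq_of_mul_eq ((foldK (ZMod 3) 0).s_Upos hu) hu ((foldK (ZMod 3) 0).s_H h hh) hh h2
    exact ⟨(⟨u, hu, R.B_le_G (R.Upos_le_B hu), eu⟩, ⟨h, hh, R.B_le_G (R.H_le_B hh), eh⟩), e⟩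
  let f : (foldK (ZMod 3) 0).U1 × (foldK (ZMod 3) 0).H1 → ↥(R.B.subgroupOf F) := fun p =>
    ⟨⟨(p.1 : GL chevG2.Idx (ZMod 3)) * (p.2 : GL chevG2.Idx (ZMod 3)), F.mul_mem p.1.2.2 p.2.2.2⟩,
      show (p.1 : GL chevG2.Idx (ZMod 3)) * (p.2 : GL chevG2.Idx (ZMod 3)) ∈ R.B from
        R.B.mul_mem (R.Upos_le_B p.1.2.1) (R.H_le_B p.2.2.1)⟩
  have hf : Function.Bijective f := by
    constructor
    · intro p p' h
      have h' : (p.1 : GL chevG2.Idx (ZMod 3)) * p.2 = (p'.1 : GL chevG2.Idx (ZMod 3)) * p'.2 :=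
        congrArg (fun g : ↥(R.B.subgroupOf F) => ((g : F) : GL chevG2.Idx (ZMod 3))) h
      obtain ⟨e1, e2⟩ := eq_of_mul_eq (R := R) p.1.2.1 p'.1.2.1 p.2.2.1 p'.2.2.1 h'
      exact Prod.ext (Subtype.ext e1) (Subtype.ext e2)
    · intro g
      obtain ⟨p, hp⟩ := hmem g
      exact ⟨p, Subtype.ext (Subtype.ext hp.symm)⟩
  rw [← Nat.card_eq_of_bijective f hf, Nat.card_prod, card_U1 hK3, card_H1 hK3]
  norm_num

/-- In a finite group of order dividing 54 whose abelianization is cyclic of order dividing 3, the derived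
subgroup is trivial. -/
theorem commutator_eq_bot_of_small {Q : Type*} [Group Q] [Finite Q] (hd : Nat.card Q ∣ 54) (q : Q)
    (hq : Subgroup.zpowers q ⊔ commutator Q = ⊤) (h3 : q ^ 3 ∈ commutator Q) : commutator Q = ⊥ := by
  classical
  haveI : Fact (Nat.Prime 3) := ⟨Nat.prime_three⟩
  obtain ⟨S⟩ := (inferInstance : Nonempty (Sylow 3 Q))
  -- the index of a Sylow 3-subgroup divides 2, so it is normal with abelian quotient
  have hidx : S.index ∣ 2 := by
    have h1 : S.index ∣ 54 := (Subgroup.index_dvd_card _).trans hd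
    have h2 : ¬ 3 ∣ S.index := S.not_dvd_index
    have h54 : S.index ∈ Nat.divisors 54 := Nat.mem_divisors.2 ⟨h1, by norm_num⟩
    rw [show Nat.divisors 54 = {1, 2, 3, 6, 9, 18, 27, 54} by decide +kernel] at h54
    simp only [Finset.mem_insert, Finset.mem_singleton] at h54
    rcases h54 with h | h | h | h | h | h | h | h <;> rw [h] at h2 ⊢ <;> omega
  have hS : (S : Subgroup Q) = ⊤ := by
    rcases (Nat.dvd_prime Nat.prime_two).1 hidx with h | h
    · exact Subgroup.index_eq_one.1 h
    · exfalso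
      haveI hN : (S : Subgroup Q).Normal := Subgroup.normal_of_index_eq_two h
      have hc : commutator Q ≤ S := by
        obtain ⟨y, hy⟩ : ∃ y, y ∉ (S : Subgroup Q) := by
          by_contra hh
          push Not at hh
          rw [(eq_top_iff.2 fun y _ => hh y : (S : Subgroup Q) = ⊤), Subgroup.index_top] at h
          omega
        refine hN.commutator_le_of_self_sup_commutative_eq_top (H := Subgroup.zpowers y) ?_ inferInstance
        refine eq_top_iff.2 fun z _ => ?_
        by_cases hz : z ∈ (S : Subgroup Q)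
        · exact Subgroup.mem_sup_left hz
        · rw [show z = (z * y⁻¹) * y by group]
          exact mul_mem (Subgroup.mem_sup_left ((Subgroup.mul_mem_iff_of_index_two h).2
            (iff_of_false hz (fun hh => hy (by simpa using inv_mem hh)))))
            (Subgroup.mem_sup_right (Subgroup.mem_zpowers y))
      have hqS : q ∉ (S : Subgroup Q) := fun hh => by
        have : (S : Subgroup Q) = ⊤ := top_le_iff.1 (hq ▸ sup_le ((Subgroup.zpowers_le).2 hh) hc)
        rw [this, Subgroup.index_top] at h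
        omega
      have hq2 : q * q ∈ (S : Subgroup Q) := (Subgroup.mul_mem_iff_of_index_two h).2 Iff.rfl
      have hq3 : q ^ 3 ∈ (S : Subgroup Q) := hc h3
      rw [pow_succ, sq] at hq3
      exact hqS ((Subgroup.mul_mem_cancel_left _ hq2).1 hq3)
  haveI : Group.IsNilpotent Q := by
    have hp : IsPGroup 3 ↥(⊤ : Subgroup Q) := hS ▸ S.2
    exact (hp.of_equiv Subgroup.topEquiv).isNilpotent
  have htop : Subgroup.zpowers q = ⊤ := by
    rcases IsCoatomic.eq_top_or_exists_le_coatom (Subgroup.zpowers q) with h | ⟨M, hM, hqM⟩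
    · exact h
    exfalso
    haveI hN : M.Normal :=
      Subgroup.NormalizerCondition.normal_of_coatom M Group.normalizerCondition_of_isNilpotent hM
    obtain ⟨y, -, hy⟩ := SetLike.exists_of_lt hM.lt_top
    have hsup : M ⊔ Subgroup.zpowers y = ⊤ := hM.2 _ (lt_of_le_of_ne le_sup_left fun h =>
      hy (by rw [h]; exact Subgroup.mem_sup_right (Subgroup.mem_zpowers y)))
    have hc : commutator Q ≤ M := hN.commutator_le_of_self_sup_commutative_eq_top hsup inferInstance
    exact hM.1 (top_le_iff.1 (hq ▸ sup_le hqM hc))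
  rw [_root_.commutator_def, Subgroup.commutator_eq_bot_iff_le_centralizer, ← htop]
  intro x hx
  rw [Subgroup.mem_centralizer_iff]
  intro y hy
  obtain ⟨a, rfl⟩ := Subgroup.mem_zpowers_iff.1 hx
  obtain ⟨b, rfl⟩ := Subgroup.mem_zpowers_iff.1 hy
  exact zpow_mul_comm q b a

theorem exists_gen {G : Type*} [Group G] [Finite G] (hab : (commutator G).index = 3) :
    ∃ x : G, Subgroup.zpowers x ⊔ commutator G = ⊤ ∧ x ^ 3 ∈ commutator G := by
  classical
  haveI : Fact (Nat.Prime 3) := ⟨Nat.prime_three⟩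
  have hcard : Nat.card (Abelianization G) = 3 := hab
  obtain ⟨y, hy⟩ := (isCyclic_of_prime_card hcard).exists_generator
  obtain ⟨x, rfl⟩ := QuotientGroup.mk'_surjective (commutator G) y
  refine ⟨x, eq_top_iff.2 fun z _ => ?_, ?_⟩
  · obtain ⟨k, hk⟩ := Subgroup.mem_zpowers_iff.1 (hy (QuotientGroup.mk' _ z))
    have hk' : QuotientGroup.mk' (commutator G) (x ^ k) = QuotientGroup.mk' (commutator G) z :=
      (map_zpow _ x k).trans hk
    rw [QuotientGroup.mk'_apply, QuotientGroup.mk'_apply, QuotientGroup.eq] at hk'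
    rw [show z = x ^ k * ((x ^ k)⁻¹ * z) by group]
    exact mul_mem (Subgroup.mem_sup_left (Subgroup.zpow_mem_zpowers x k)) (Subgroup.mem_sup_right hk')
  · rw [← QuotientGroup.eq_one_iff (N := commutator G)]
    have h : ((QuotientGroup.mk' (commutator G) x) : Abelianization G) ^ 3 = 1 := by
      rw [← hcard]; exact pow_card_eq_one'
    exact (map_pow (QuotientGroup.mk' (commutator G)) x 3).trans h

theorem derived_le {G : Type*} [Group G] [Finite G] (B : Subgroup G) (hB : Nat.card B ∣ 54)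
    (hab : (commutator G).index = 3) (M : Subgroup G) [M.Normal] (hsup : M ⊔ B = ⊤) : commutator G ≤ M := by
  set π := QuotientGroup.mk' M with hπ
  have hsurj : Function.Surjective (π.comp B.subtype) := by
    intro y
    obtain ⟨x, rfl⟩ := QuotientGroup.mk'_surjective M y
    obtain ⟨a, ha, b, hb, rfl⟩ := Subgroup.mem_sup_of_normal_left.1 (show x ∈ M ⊔ B from hsup ▸ Subgroup.mem_top x)
    refine ⟨⟨b, hb⟩, ?_⟩
    rw [MonoidHom.comp_apply, map_mul, show π a = 1 from (QuotientGroup.eq_one_iff a).2 ha, one_mul]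
    rfl
  obtain ⟨x, htop, h3⟩ := exists_gen hab
  have hmap : (commutator G).map π = commutator (G ⧸ M) := by
    rw [_root_.commutator_def, _root_.commutator_def, Subgroup.map_commutator,
      Subgroup.map_top_of_surjective _ (QuotientGroup.mk'_surjective M)]
  have hq : Subgroup.zpowers (π x) ⊔ commutator (G ⧸ M) = ⊤ := by
    rw [← hmap, ← MonoidHom.map_zpowers, ← Subgroup.map_sup, htop,
      Subgroup.map_top_of_surjective _ (QuotientGroup.mk'_surjective M)]
  have h0 := commutator_eq_bot_of_small ((Subgroup.card_dvd_of_surjective _ hsurj).trans hB) (π x) hq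
    (by rw [← map_pow, ← hmap]; exact ⟨_, h3, rfl⟩)
  rw [← hmap, Subgroup.map_eq_bot_iff] at h0
  rwa [hπ, QuotientGroup.ker_mk'] at h0

/-- The product map of two subgroups commuting element-wise with trivial intersection. -/
theorem card_sup_of_disjoint {G : Type*} [Group G] (A A' : Subgroup G) (hdisj : A ⊓ A' = ⊥)
    (hcomm : ∀ a ∈ A, ∀ b ∈ A', a * b = b * a) : Nat.card ↥(A ⊔ A') = Nat.card A * Nat.card A' := by
  let φ : ↥A × ↥A' →* G := MonoidHom.noncommCoprod A.subtype A'.subtype fun a b => hcomm a a.2 b b.2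
  have hinj : Function.Injective φ := by
    rw [injective_iff_map_eq_one]
    rintro ⟨⟨a, ha⟩, ⟨b, hb⟩⟩ h
    have h' : a * b = 1 := h
    have ha' : a ∈ A ⊓ A' := Subgroup.mem_inf.2 ⟨ha, by rw [eq_inv_of_mul_eq_one_left h']; exact inv_mem hb⟩
    rw [hdisj, Subgroup.mem_bot] at ha'
    subst ha'
    rw [one_mul] at h'
    subst h'
    rfl
  have hrange : φ.range = A ⊔ A' := by
    refine (MonoidHom.noncommCoprod_range _ _ _).trans ?_
    rw [Subgroup.range_subtype, Subgroup.range_subtype]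
  rw [← hrange, ← Nat.card_congr (MonoidHom.ofInjective hinj).toEquiv, Nat.card_prod]

/-- Two normal subgroups with trivial intersection commute. -/
theorem comm_of_disjoint {G : Type*} [Group G] {A A' : Subgroup G} (hA : A.Normal) (hA' : A'.Normal)
    (hdisj : A ⊓ A' = ⊥) : ∀ a ∈ A, ∀ b ∈ A', a * b = b * a := fun _ ha _ hb =>
  Subgroup.commute_of_normal_of_disjoint A A' hA hA' (disjoint_iff.2 hdisj) _ _ ha hb

/-- A least non-trivial normal subgroup of index 3 and of order 504 is simple. -/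
theorem isSimpleGroup_of_least {G : Type*} [Group G] [Finite G] (C : Subgroup G) [C.Normal]
    (hidx : C.index = 3) (hcard : Nat.card C = 504) (hleast : ∀ M : Subgroup G, M.Normal → M ≠ ⊥ → C ≤ M) :
    IsSimpleGroup C := by
  classical
  haveI : Nontrivial C := Finite.one_lt_card_iff_nontrivial.1 (by omega)
  refine ⟨fun S hS => ?_⟩
  by_contra hcon
  push Not at hcon
  obtain ⟨hbot, htop⟩ := hcon
  -- a minimal normal subgroup of C inside S
  obtain ⟨A, ⟨hAN, hA1, hAS⟩, hAmin⟩ :=
    Set.Finite.exists_minimal (Set.toFinite {A : Subgroup C | A.Normal ∧ A ≠ ⊥ ∧ A ≤ S}) ⟨S, hS, hbot, le_rfl⟩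
  have hmin : ∀ B : Subgroup C, B.Normal → B ≤ A → B = ⊥ ∨ B = A := fun B hB hle =>
    or_iff_not_imp_left.2 fun h => le_antisymm hle (hAmin ⟨hB, h, hle.trans hAS⟩ hle)
  obtain ⟨x, hx⟩ : ∃ x, x ∉ C := by
    by_contra h
    push Not at h
    rw [(eq_top_iff.2 fun y _ => h y : C = ⊤), Subgroup.index_top] at hidx
    omega
  let c : G → C ≃* C := fun g =>
    { toFun := fun y => ⟨g * y * g⁻¹, (inferInstance : C.Normal).conj_mem y y.2 g⟩
      invFun := fun y => ⟨g⁻¹ * y * g, by simpa using (inferInstance : C.Normal).conj_mem y y.2 g⁻¹⟩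
      left_inv := fun y => Subtype.ext (by simp [mul_assoc])
      right_inv := fun y => Subtype.ext (by simp [mul_assoc])
      map_mul' := fun y z => Subtype.ext (by simp [mul_assoc]) }
  let T : G → Subgroup C := fun g => A.map (c g).toMonoidHom
  have hTN : ∀ g, (T g).Normal := fun g => hAN.map _ (c g).surjective
  have hTmin : ∀ g, ∀ B : Subgroup C, B.Normal → B ≤ T g → B = ⊥ ∨ B = T g := by
    intro g B hB hle
    rcases hmin (B.comap (c g).toMonoidHom) (hB.comap _) (by
      intro y hy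
      obtain ⟨z, hz, e⟩ := hle hy
      rwa [← (c g).injective e]) with h | h
    · left
      rw [← Subgroup.map_comap_eq_self_of_surjective (f := (c g).toMonoidHom) (c g).surjective B, h, Subgroup.map_bot]
    · right
      rw [← Subgroup.map_comap_eq_self_of_surjective (f := (c g).toMonoidHom) (c g).surjective B, h]
  have hTcard : ∀ g, Nat.card ↥(T g) = Nat.card A := fun g =>
    Subgroup.card_map_of_injective (f := (c g).toMonoidHom) (c g).injective
  -- conjugates by elements of C fix each conjugate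
  have hcT : ∀ g h, (T g).map (c h).toMonoidHom = T (h * g) := by
    intro g h
    rw [Subgroup.map_map]
    congr 1
    ext y
    show (h * (g * (y : G) * g⁻¹) * h⁻¹ : G) = h * g * y * (h * g)⁻¹
    group
  have hcC : ∀ y : C, ∀ g, T ((y : G) * g) = T g := by
    intro y g
    rw [← hcT g y]
    refine le_antisymm ?_ ?_
    · rintro _ ⟨z, hz, rfl⟩
      exact (hTN g).conj_mem z hz y
    · intro z hz
      exact ⟨y⁻¹ * z * y, by simpa using (hTN g).conj_mem z hz y⁻¹, Subtype.ext (by
        show (y : G) * ((y : G)⁻¹ * z * y) * (y : G)⁻¹ = z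
        group)⟩
  -- every element is y, y x or y x²
  have hcases : ∀ g : G, ∃ y : C, g = y ∨ g = y * x ∨ g = y * (x * x) := by
    intro g
    haveI : Fact (Nat.Prime 3) := ⟨Nat.prime_three⟩
    have hq : Nat.card (G ⧸ C) = 3 := hidx
    have hx' : QuotientGroup.mk' C x ≠ 1 := fun h => hx ((QuotientGroup.eq_one_iff x).1 h)
    obtain ⟨k, hk⟩ := Subgroup.mem_zpowers_iff.1
      (show QuotientGroup.mk' C g ∈ Subgroup.zpowers (QuotientGroup.mk' C x) by
        rw [zpowers_eq_top_of_prime_card hq hx']; trivial)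
    have hord : orderOf (QuotientGroup.mk' C x) = 3 := by
      rw [← Nat.card_zpowers, zpowers_eq_top_of_prime_card hq hx', Subgroup.card_top, hq]
    rw [← zpow_mod_orderOf, hord] at hk
    have hk3 : k % ((3 : ℕ) : ℤ) = 0 ∨ k % ((3 : ℕ) : ℤ) = 1 ∨ k % ((3 : ℕ) : ℤ) = 2 := by omega
    have key : ∀ z : G, QuotientGroup.mk' C z = QuotientGroup.mk' C g → ∃ y : C, g = y * z := by
      intro z hz
      refine ⟨⟨g * z⁻¹, ?_⟩, by simp⟩
      rw [← QuotientGroup.eq_one_iff]
      have hm : QuotientGroup.mk' C (g * z⁻¹) = 1 := by rw [map_mul, map_inv, hz, mul_inv_cancel]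
      exact hm
    rcases hk3 with h | h | h <;> rw [h] at hk
    · obtain ⟨y, hy⟩ := key 1 (by rw [map_one, ← hk, zpow_zero])
      exact ⟨y, Or.inl (by rw [hy, mul_one])⟩
    · obtain ⟨y, hy⟩ := key x (by rw [← hk, zpow_one])
      exact ⟨y, Or.inr (Or.inl hy)⟩
    · obtain ⟨y, hy⟩ := key (x * x) (by rw [← hk, map_mul, zpow_two])
      exact ⟨y, Or.inr (Or.inr hy)⟩
  have hT3 : ∀ g, T g = T 1 ∨ T g = T x ∨ T g = T (x * x) := by
    intro g
    obtain ⟨y, rfl | rfl | rfl⟩ := hcases g
    · exact Or.inl (by rw [← hcC y 1, mul_one])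
    · exact Or.inr (Or.inl (hcC y x))
    · exact Or.inr (Or.inr (hcC y (x * x)))
  -- the join of all conjugates is C
  set J := T 1 ⊔ T x ⊔ T (x * x) with hJ
  have hJmap : ∀ g, J.map (c g).toMonoidHom ≤ J := by
    intro g
    rw [hJ, Subgroup.map_sup, Subgroup.map_sup, hcT, hcT, hcT]
    have hle : ∀ h, T h ≤ T 1 ⊔ T x ⊔ T (x * x) := fun h => by
      rcases hT3 h with e | e | e <;> rw [e]
      · exact le_sup_left.trans le_sup_left
      · exact le_sup_right.trans le_sup_left
      · exact le_sup_right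
    exact sup_le (sup_le (hle _) (hle _)) (hle _)
  have hJN : (J.map C.subtype).Normal := ⟨fun a ha g => by
    obtain ⟨z, hz, rfl⟩ := ha
    exact ⟨c g z, hJmap g ⟨z, hz, rfl⟩, rfl⟩⟩
  have hT1 : T 1 = A := by
    ext y
    constructor
    · rintro ⟨z, hz, rfl⟩
      rwa [show (c 1).toMonoidHom z = z from Subtype.ext (by show 1 * (z : G) * 1⁻¹ = z; group)]
    · exact fun hy => ⟨y, hy, Subtype.ext (by show 1 * (y : G) * 1⁻¹ = y; group)⟩
  have hJtop : J = ⊤ := by
    have h := hleast _ hJN fun h => hA1 (by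
      rw [Subgroup.map_eq_bot_iff_of_injective _ C.subtype_injective] at h
      rw [← hT1]
      exact le_bot_iff.1 (h ▸ (le_sup_left.trans le_sup_left : T 1 ≤ J)))
    refine eq_top_iff.2 fun y _ => ?_
    obtain ⟨z, hz, e⟩ := h y.2
    rwa [← show z = y from Subtype.ext e]
  have hA_ne : A ≠ ⊤ := fun h => htop (top_le_iff.1 (h ▸ hAS))
  have hne0 : ∀ g, T g ≠ ⊥ := fun g h =>
    hA1 ((Subgroup.map_eq_bot_iff_of_injective A (c g).injective).1 h)
  set a := Nat.card A
  have step : ∀ (P : Subgroup C), P.Normal → ∀ g, T g ≤ P ∨ Nat.card ↥(P ⊔ T g) = Nat.card P * a := by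
    intro P hP g
    rcases hTmin g (P ⊓ T g) (Subgroup.normal_inf_normal P (T g)) inf_le_right with h | h
    · right
      rw [card_sup_of_disjoint P (T g) h (comm_of_disjoint hP (hTN g) h), hTcard g]
    · exact Or.inl (h ▸ inf_le_left)
  haveI := hTN 1
  haveI := hTN x
  haveI := hTN (x * x)
  have h1 := hTcard 1
  have htopc : Nat.card ↥J = 504 := by rw [hJtop, Subgroup.card_top, hcard]
  have ha504 : a ≠ 504 := fun h => hA_ne (Subgroup.eq_top_of_card_eq A (h.trans hcard.symm))
  have hfin : a * a ≠ 504 ∧ a * a * a ≠ 504 := by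
    have hb : a ≤ 504 := hcard ▸ Subgroup.card_le_card_group A
    constructor <;> intro h
    · have : a < 23 := by nlinarith
      interval_cases a <;> omega
    · have : a < 8 := by nlinarith
      interval_cases a <;> omega
  rcases step (T 1) (hTN 1) x with h | h
  · rw [hJ, sup_eq_left.2 h] at htopc
    rcases step (T 1) (hTN 1) (x * x) with h' | h'
    · rw [sup_eq_left.2 h', h1] at htopc
      exact ha504 htopc
    · rw [h', h1] at htopc
      exact hfin.1 htopc
  · rcases step (T 1 ⊔ T x) (Subgroup.sup_normal _ _) (x * x) with h' | h'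
    · rw [hJ, sup_eq_left.2 h', h, h1] at htopc
      exact hfin.1 htopc
    · rw [hJ, h', h, h1] at htopc
      exact hfin.2 htopc

theorem ree_three_main {L : Type*} [Field L] [Fintype L] (hL : Fintype.card L = 8) :
    Nat.card ↥(commutator ↥R3) = 504 ∧
      Nonempty (↥(commutator ↥R3) ≃* Matrix.ProjectiveSpecialLinearGroup (Fin 2) L) := by
  refine ⟨card_derived, ?_⟩
  haveI : IsSimpleGroup ↥(commutator ↥R3) := by
    refine isSimpleGroup_of_least _ index_commutator card_derived ?_
    rw [R3_eq_fix]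
    intro M hM hne
    have hab : (commutator ↥(foldK (ZMod 3) 0).fix).index = 3 := by
      have := index_commutator
      rwa [R3_eq_fix] at this
    haveI := hM
    exact derived_le _ card_B hab M (normal_supplement M hne)
  exact Cfsg.Agent.S1011.result card_derived hL

end Cfsg.Agent.Twisted.ReeThree
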